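import Cfsg.Agent.Lib.Core.Fitting
import Cfsg.Agent.Lib.FT.Sec14d

/-! # Base size two for odd-order completely reducible linear groups: reductions -/

set_option autoImplicit false
set_option linter.unusedSectionVars false
set_option linter.style.haveILetI false

namespace Cfsg.Lib.Block.B2

open Cfsg Cfsg.Lib Subgroup

universe u

section defs
variable (G V : Type*) [Group G] [AddCommGroup V] [DistribMulAction G V]

def Inv (U : AddSubgroup V) : Prop := ∀ a : G, ∀ v ∈ U, a • v ∈ U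
def CR : Prop := ∀ U : AddSubgroup V, Inv G V U → ∃ W : AddSubgroup V, Inv G V W ∧ U ⊓ W = ⊥ ∧ U ⊔ W = ⊤
def Irr : Prop := ∀ U : AddSubgroup V, Inv G V U → U = ⊥ ∨ U = ⊤
def Reg (v w : V) : Prop := ∀ g : G, g • v = v → g • w = w → ∀ x : V, g • x = x
def Base : Prop := ∃ v w : V, Reg G V v w
end defs

def IH (n : ℕ) : Prop := ∀ (G V : Type u) [Group G] [Finite G] [AddCommGroup V] [Finite V] [DistribMulAction G V],
  Odd (Nat.card G) → Nat.card V < n → CR G V → Base G V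

variable {G V : Type u} [Group G] [Finite G] [AddCommGroup V] [Finite V] [DistribMulAction G V]

/-- The action on an invariant subgroup. -/
@[reducible] def subAct {U : AddSubgroup V} (h : Inv G V U) : DistribMulAction G U where
  smul a v := ⟨a • v.1, h a _ v.2⟩
  one_smul v := Subtype.ext (one_smul G v.1)
  mul_smul a b v := Subtype.ext (mul_smul a b v.1)
  smul_zero a := Subtype.ext (smul_zero a)
  smul_add a v w := Subtype.ext (smul_add a v.1 w.1)

theorem Irr.cr (h : Irr G V) : CR G V := fun U hU => by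
  rcases h U hU with rfl | rfl
  · exact ⟨⊤, fun _ _ _ => trivial, by simp, by simp⟩
  · exact ⟨⊥, fun a v hv => by rw [AddSubgroup.mem_bot.1 hv, smul_zero]; exact zero_mem _, by simp, by simp⟩

theorem CR.sub (h : CR G V) {U : AddSubgroup V} (hU : Inv G V U) : letI := subAct hU; CR G U := by
  letI := subAct hU
  intro X hX
  obtain ⟨W, h1, h2, h3⟩ := h (X.map U.subtype) (by rintro a _ ⟨v, hv, rfl⟩; exact ⟨a • v, hX a v hv, rfl⟩)
  refine ⟨W.addSubgroupOf U, fun a v hv => h1 a v.1 hv, ?_, ?_⟩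
  · refine eq_bot_iff.2 fun v hv => ?_
    have : v.1 ∈ X.map U.subtype ⊓ W := ⟨⟨v, hv.1, rfl⟩, hv.2⟩
    rw [h2] at this
    exact Subtype.ext this
  · refine eq_top_iff.2 fun v _ => ?_
    have : v.1 ∈ X.map U.subtype ⊔ W := h3 ▸ trivial
    obtain ⟨_, ⟨x, hx, rfl⟩, w, hw, e⟩ := AddSubgroup.mem_sup.1 this
    refine AddSubgroup.mem_sup.2 ⟨x, hx, v - x, ?_, by abel⟩
    show (v.1 - x.1) ∈ W
    rw [← e]; simpa using hw

theorem card_lt {U : AddSubgroup V} (h : U ≠ ⊤) : Nat.card U < Nat.card V := by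
  refine lt_of_le_of_ne (Nat.card_le_card_of_injective _ U.subtype_injective) fun e => h ?_
  exact AddSubgroup.eq_top_of_card_eq U e

theorem IH.sub {n : ℕ} (ih : IH.{u} n) (hG : Odd (Nat.card G)) {U : AddSubgroup V} (hU : Inv G V U)
    (hn : Nat.card U < n) (h : letI := subAct hU; CR G U) :
    ∃ v ∈ U, ∃ w ∈ U, ∀ g : G, g • v = v → g • w = w → ∀ x ∈ U, g • x = x := by
  letI := subAct hU
  obtain ⟨v, w, hr⟩ := ih G U hG hn h
  exact ⟨v, v.2, w, w.2, fun g h1 h2 x hx => congrArg Subtype.val (hr g (Subtype.ext h1) (Subtype.ext h2) ⟨x, hx⟩)⟩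

theorem base_of_not_irr (ih : IH.{u} (Nat.card V)) (hG : Odd (Nat.card G)) (h : CR G V) (hi : ¬ Irr G V) : Base G V := by
  simp only [Irr, not_forall, not_or] at hi
  obtain ⟨U, hU, h0, h1⟩ := hi
  obtain ⟨W, hW, h2, h3⟩ := h U hU
  have h4 : W ≠ ⊤ := fun e => h0 (by simpa [e] using h2)
  obtain ⟨v, hv, w, hw, r⟩ := ih.sub hG hU (card_lt h1) (h.sub hU)
  obtain ⟨v', hv', w', hw', r'⟩ := ih.sub hG hW (card_lt h4) (h.sub hW)
  have key : ∀ (g : G), ∀ a ∈ U, ∀ b ∈ W, g • (a + b) = a + b → g • a = a ∧ g • b = b := fun g a ha b hb e => by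
    have e1 : g • a - a = b - g • b := by rw [smul_add] at e; rw [sub_eq_sub_iff_add_eq_add, e, add_comm]
    have : g • a - a ∈ U ⊓ W := ⟨U.sub_mem (hU g a ha) ha, e1 ▸ W.sub_mem hb (hW g b hb)⟩
    rw [h2, AddSubgroup.mem_bot] at this
    exact ⟨sub_eq_zero.1 this, (sub_eq_zero.1 (e1 ▸ this)).symm⟩
  refine ⟨v + v', w + w', fun g e1 e2 x => ?_⟩
  obtain ⟨a, ha, b, hb, rfl⟩ := AddSubgroup.mem_sup.1 (h3 ▸ trivial : x ∈ U ⊔ W)
  rw [smul_add, r g (key g _ hv _ hv' e1).1 (key g _ hw _ hw' e2).1 a ha,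
    r' g (key g _ hv _ hv' e1).2 (key g _ hw _ hw' e2).2 b hb]

theorem mem_of_pow_mem (hG : Odd (Nat.card G)) {H : Subgroup G} {g : G} {k : ℕ} (h : g ^ 2 ^ k ∈ H) : g ∈ H := by
  have h1 : (2 ^ k).Coprime (orderOf g) :=
    Nat.Coprime.pow_left k (Nat.coprime_two_left.2 (hG.of_dvd_nat (orderOf_dvd_natCard g)))
  obtain ⟨m, hm⟩ := exists_pow_eq_self_of_coprime h1
  rw [← hm]; exact pow_mem h m

/-- Multiplicative form of the induction hypothesis. -/
theorem IH.mul {n : ℕ} (ih : IH.{u} n) (hG : Odd (Nat.card G)) (X : Subgroup G) [X.Normal]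
    (hc : ∀ a ∈ X, ∀ b ∈ X, a * b = b * a) (hn : Nat.card X < n)
    (hcr : ∀ U : Subgroup G, U.Normal → U ≤ X → ∃ W : Subgroup G, W.Normal ∧ W ≤ X ∧ U ⊓ W = ⊥ ∧ X ≤ U ⊔ W) :
    ∃ x ∈ X, ∃ y ∈ X, ∀ g : G, g * x * g⁻¹ = x → g * y * g⁻¹ = y → ∀ t ∈ X, g * t * g⁻¹ = t := by
  letI : CommGroup X := { (inferInstance : Group X) with mul_comm := fun a b => Subtype.ext (hc _ a.2 _ b.2) }
  letI : DistribMulAction G (Additive X) :=
    { smul := fun g v => Additive.ofMul (MulAut.conjNormal g v.toMul)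
      one_smul := fun v => by show Additive.ofMul (MulAut.conjNormal 1 v.toMul) = v; simp
      mul_smul := fun a b v => by
        show Additive.ofMul (MulAut.conjNormal (a * b) v.toMul) =
          Additive.ofMul (MulAut.conjNormal a (MulAut.conjNormal b v.toMul))
        simp
      smul_zero := fun a => by show Additive.ofMul (MulAut.conjNormal a 1) = 0; simp
      smul_add := fun a v w => by
        show Additive.ofMul (MulAut.conjNormal a (v.toMul * w.toMul)) =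
          Additive.ofMul (MulAut.conjNormal a v.toMul * MulAut.conjNormal a w.toMul)
        simp }
  have hs : ∀ (g : G) (v : Additive X), ((g • v).toMul : G) = g * v.toMul * g⁻¹ := fun _ _ => rfl
  obtain ⟨v, w, hr⟩ := ih G (Additive X) hG hn (fun U hU => by
    obtain ⟨W, h1, h2, h3, h4⟩ := hcr ((AddSubgroup.toSubgroup' U).map X.subtype)
      ⟨by rintro _ ⟨v, hv, rfl⟩ g; exact ⟨(g • Additive.ofMul v).toMul, hU g _ hv, rfl⟩⟩ (map_subtype_le _)
    refine ⟨Subgroup.toAddSubgroup (W.subgroupOf X), fun a v hv => h1.conj_mem _ hv a, ?_, ?_⟩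
    · refine eq_bot_iff.2 fun v hv => ?_
      have : (v.toMul : G) ∈ (AddSubgroup.toSubgroup' U).map X.subtype ⊓ W := ⟨⟨v.toMul, hv.1, rfl⟩, hv.2⟩
      rw [h3] at this
      exact (Subtype.ext this : v.toMul = 1)
    · refine eq_top_iff.2 fun v _ => ?_
      obtain ⟨_, ⟨x, hx, rfl⟩, w, hw, e⟩ := mem_sup_of_normal_right.1 (h4 v.toMul.2)
      exact AddSubgroup.mem_sup.2 ⟨Additive.ofMul x, hx, Additive.ofMul ⟨w, h2 hw⟩, hw, (Subtype.ext e : _ = v.toMul)⟩)
  exact ⟨_, v.toMul.2, _, w.toMul.2, fun g h1 h2 t ht =>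
    congrArg (fun z : Additive X => (z.toMul : G)) (hr g (Subtype.ext h1 : (g • v).toMul = v.toMul)
      (Subtype.ext h2 : (g • w).toMul = w.toMul) (Additive.ofMul ⟨t, ht⟩))⟩

theorem gluck_aux {n : ℕ} (ih : IH.{u} n) (hG : Odd (Nat.card G)) {H : Subgroup G} (hH : H ≠ ⊤) (hn : H.index < n)
    (h1 : ∀ N : Subgroup G, N.Normal → N ≤ H → N = ⊥) (h2 : ∀ N : Subgroup G, N.Normal → N ≠ ⊥ → N ⊔ H = ⊤) :
    ∃ D : Set G, (∀ d ∈ D, ∀ h ∈ H, d * h ∈ D) ∧ ∀ g, (∀ d ∈ D, g * d ∈ D) → g = 1 := by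
  classical
  haveI := FT.odd_order_solvable G hG
  haveI : Group.IsSolvable (⊤ : Subgroup G) := inferInstance
  obtain ⟨M, hM, -, hM0, hc⟩ := Core.exists_abelian_normal_le_of_solvable (⊤ : Subgroup G)
    (fun e => hH (eq_top_iff.2 (e ▸ bot_le)))
  have hc' : ∀ a ∈ M, ∀ b ∈ M, a * b = b * a := fun a ha b hb =>
    congrArg Subtype.val (hc.is_comm.comm (⟨a, ha⟩ : M) ⟨b, hb⟩)
  have dec : ∀ U : Subgroup G, U.Normal → U ≠ ⊥ → ∀ g, ∃ m ∈ U, ∃ h ∈ H, m * h = g := fun U hU h0 g =>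
    mem_sup_of_normal_left.1 (h2 U hU h0 ▸ trivial : g ∈ U ⊔ H)
  have nrm : ∀ S : Subgroup G, S.Normal → (∀ m ∈ M, ∀ s ∈ S, m * s = s * m) → S ⊓ H = ⊥ := fun S hS hS' =>
    h1 _ ⟨fun t ht g => by
      obtain ⟨m, hm, h, hh, rfl⟩ := dec M hM hM0 g
      have e : m * h * t * (m * h)⁻¹ = h * t * h⁻¹ := by
        have := hS' m hm _ (hS.conj_mem t ht.1 h)
        rw [show m * h * t * (m * h)⁻¹ = m * (h * t * h⁻¹) * m⁻¹ by group, this]; group
      rw [e]; exact ⟨hS.conj_mem t ht.1 h, H.mul_mem (H.mul_mem hh ht.2) (H.inv_mem hh)⟩⟩ inf_le_right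
  have hMH := nrm M hM hc'
  have hCH := nrm (centralizer M) inferInstance fun m hm s hs => hs m hm
  have hMH' : ∀ a ∈ M, ∀ b ∈ M, ∀ h ∈ H, a = b * h → a = b := fun a ha b hb h hh e => by
    have : h ∈ M ⊓ H := ⟨by rw [show h = b⁻¹ * a by rw [e]; group]; exact M.mul_mem (M.inv_mem hb) ha, hh⟩
    rw [hMH, mem_bot] at this
    rw [e, this, mul_one]
  have hcard : Nat.card M ≤ H.index := by
    refine Nat.card_le_card_of_injective (fun m : M => (QuotientGroup.mk m.1 : G ⧸ H)) fun a b e => ?_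
    exact Subtype.ext (hMH' _ b.2 _ a.2 _ (QuotientGroup.eq.1 e) (by group)).symm
  obtain ⟨x, hx, y, hy, hr⟩ := ih.mul hG M hc' (hcard.trans_lt hn) fun U hU hUM => by
    by_cases h0 : U = ⊥
    · exact ⟨M, hM, le_rfl, by simp [h0], le_sup_right⟩
    · refine ⟨⊥, inferInstance, bot_le, by simp, fun m hm => ?_⟩
      obtain ⟨a, ha, h, hh, e⟩ := dec U hU h0 m
      rw [hMH' m hm a (hUM ha) h hh e.symm]; exact mem_sup_left ha
  letI : CommGroup M := { (inferInstance : Group M) with mul_comm := fun a b => Subtype.ext (hc' _ a.2 _ b.2) }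
  have hodd : Odd (Nat.card M) := hG.of_dvd_nat M.card_subgroup_dvd_card
  have hsq : ∀ (a : M) (k : ℕ), a ^ 2 ^ k = 1 → a = 1 := fun a k e => mem_bot.1 (mem_of_pow_mem hodd (H := ⊥) (mem_bot.2 e))
  -- the set `{x, x⁻¹, y, y⁻¹}`
  have main : ∀ x y : M, (x = 1 ↔ y = 1) → (∀ g : G, g * x * g⁻¹ = x → g * y * g⁻¹ = y → ∀ t ∈ M, g * t * g⁻¹ = t) →
      ∃ D : Set G, (∀ d ∈ D, ∀ h ∈ H, d * h ∈ D) ∧ ∀ g, (∀ d ∈ D, g * d ∈ D) → g = 1 := fun x y hxy hr => by
    set Δ : Finset M := {x, x⁻¹, y, y⁻¹} with hΔ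
    refine ⟨{d | ∃ t ∈ Δ, ∃ h ∈ H, d = t * h}, ?_, fun g hg => ?_⟩
    · rintro _ ⟨t, ht, h, hh, rfl⟩ k hk; exact ⟨t, ht, h * k, H.mul_mem hh hk, mul_assoc _ _ _⟩
    obtain ⟨m, hm, h, hh, rfl⟩ := dec M hM hM0 g
    set σ : MulAut M := MulAut.conjNormal h with hσ
    have a1 : ∀ t ∈ Δ, (⟨m, hm⟩ : M) * σ t ∈ Δ := fun t ht => by
      obtain ⟨t', ht', k, hk, e⟩ := hg t ⟨t, ht, 1, H.one_mem, by simp⟩
      have : (((⟨m, hm⟩ : M) * σ t : M) : G) = t' :=
        hMH' _ (Subtype.prop _) _ t'.2 (k * h⁻¹) (H.mul_mem hk (H.inv_mem hh)) (by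
          show m * (h * t * h⁻¹) = _
          rw [← mul_assoc (t' : G), ← e]; group)
      rwa [Subtype.ext this]
    have hinv : ∀ t ∈ Δ, t⁻¹ ∈ Δ := fun t ht => by
      simp only [hΔ, Finset.mem_insert, Finset.mem_singleton] at ht ⊢
      rcases ht with rfl | rfl | rfl | rfl <;> simp
    have hne : ∀ t : M, t ≠ 1 → t ≠ t⁻¹ := fun t ht e => ht (hsq t 1 (by rw [pow_one, sq]; nth_rewrite 2 [e]; simp))
    have hp : ∏ t ∈ Δ, t = 1 := hsq _ 1 (by
      rw [pow_one, sq]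
      nth_rewrite 2 [← Finset.prod_bij (fun t _ => t⁻¹) hinv (fun a _ b _ e => inv_injective e)
        (fun b hb => ⟨b⁻¹, hinv b hb, inv_inv b⟩) (fun _ _ => rfl)]
      rw [← Finset.prod_mul_distrib]; simp)
    have hm1 : (⟨m, hm⟩ : M) ^ Δ.card = 1 := by
      have e := Finset.prod_bij (s := Δ) (t := Δ) (f := fun t => (⟨m, hm⟩ : M) * σ t) (g := fun t => t)
        (fun t _ => (⟨m, hm⟩ : M) * σ t) a1 (fun a _ b _ e => σ.injective (mul_left_cancel e))
        (fun b hb => by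
          obtain ⟨a, ha, e⟩ := Finset.surj_on_of_inj_on_of_card_le (fun t _ => (⟨m, hm⟩ : M) * σ t) a1
            (fun a b _ _ e => σ.injective (mul_left_cancel e)) le_rfl b hb
          exact ⟨a, ha, e.symm⟩) (fun _ _ => rfl)
      rwa [Finset.prod_mul_distrib, Finset.prod_const, ← map_prod, hp, map_one, mul_one] at e
    have hk : ∃ k, Δ.card = 2 ^ k := by
      by_cases hx : x = 1
      · exact ⟨0, by simp [hΔ, hx, hxy.1 hx]⟩
      have hy : y ≠ 1 := fun e => hx (hxy.2 e)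
      by_cases e1 : y = x
      · exact ⟨1, by simp [hΔ, e1, Finset.pair_comm x⁻¹ x, Finset.card_pair (hne x hx)]⟩
      by_cases e2 : y = x⁻¹
      · exact ⟨1, by simp [hΔ, e2, Finset.pair_comm x⁻¹ x, Finset.card_pair (hne x hx)]⟩
      refine ⟨2, Finset.card_eq_four.2 ⟨x, x⁻¹, y, y⁻¹, hne x hx, Ne.symm e1, fun e => e2 (by rw [e, inv_inv]),
        Ne.symm e2, fun e => e1 (inv_injective e).symm, hne y hy, rfl⟩⟩
    obtain ⟨k, hk⟩ := hk
    have hm2 : (⟨m, hm⟩ : M) = 1 := hsq _ k (hk ▸ hm1)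
    have a2 : ∀ t ∈ Δ, σ t ∈ Δ := fun t ht => by simpa [hm2] using a1 t ht
    have a3 : ∀ x y : M, (σ x = x ∨ σ x = x⁻¹ ∨ σ x = y ∨ σ x = y⁻¹) → (σ y = x ∨ σ y = x⁻¹ ∨ σ y = y ∨ σ y = y⁻¹) →
        σ (σ (σ (σ x))) = x := fun x y b1 b2 => by
      rcases b1 with b1 | b1 | b1 | b1
      · simp [b1]
      · simp [b1]
      · rcases b2 with b2 | b2 | b2 | b2
        · simp [b1, b2]
        · simp [b1, b2]
        · have := σ.injective (b1.trans b2.symm); subst this; simp [b1]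
        · have := σ.injective (b1.trans (by rw [map_inv, b2, inv_inv] : y = σ y⁻¹)); subst this; simp [b2]
      · rcases b2 with b2 | b2 | b2 | b2
        · simp [b1, b2]
        · simp [b1, b2]
        · have := σ.injective (b1.trans (by rw [map_inv, b2] : y⁻¹ = σ y⁻¹)); subst this; simp [b2]
        · have := σ.injective (b1.trans b2.symm); subst this; simp [b1]
    have b1 := a2 x (by simp [hΔ])
    have b2 := a2 y (by simp [hΔ])
    simp only [hΔ, Finset.mem_insert, Finset.mem_singleton] at b1 b2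
    have c : ∀ t : M, σ (σ (σ (σ t))) = t → h ^ 2 ^ 2 * t * (h ^ 2 ^ 2)⁻¹ = t := fun t e => by
      have : h * (h * (h * (h * t * h⁻¹) * h⁻¹) * h⁻¹) * h⁻¹ = t := congrArg Subtype.val e
      exact Eq.trans (by norm_num [pow_succ]; group) this
    have : h ∈ centralizer M ⊓ H := ⟨mem_of_pow_mem hG (k := 2) fun t ht => by
      have := hr _ (c x (a3 x y b1 b2)) (c y (a3 y x (by tauto) (by tauto))) t ht
      exact (mul_inv_eq_iff_eq_mul.1 this).symm, hh⟩
    rw [hCH, mem_bot] at this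
    rw [this, mul_one]; exact congrArg Subtype.val hm2
  by_cases e1 : x = 1
  · exact main ⟨y, hy⟩ ⟨y, hy⟩ Iff.rfl fun g a _ => hr g (by simp [e1]) a
  by_cases e2 : y = 1
  · exact main ⟨x, hx⟩ ⟨x, hx⟩ Iff.rfl fun g a _ => hr g a (by simp [e2])
  exact main ⟨x, hx⟩ ⟨y, hy⟩ (by simp [Subtype.ext_iff, e1, e2]) hr

/-- Gluck's regular subsets for the action on the cosets of a maximal subgroup. -/
theorem gluck {n : ℕ} (ih : IH.{u} n) (hG : Odd (Nat.card G)) {H : Subgroup G} (hH : IsCoatom H) (hn : H.index < n) :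
    ∃ D : Set G, (∀ d ∈ D, ∀ h ∈ H, d * h ∈ D) ∧ ∀ g, (∀ d ∈ D, g * d ∈ D) → g ∈ H.normalCore := by
  set K := H.normalCore
  have hK : K ≤ H := H.normalCore_le
  have hs := QuotientGroup.mk'_surjective K
  have hc : (H.map (QuotientGroup.mk' K)).comap (QuotientGroup.mk' K) = H := comap_map_eq_self (by simpa using hK)
  obtain ⟨D, h1, h2⟩ := gluck_aux (G := G ⧸ K) ih (hG.of_dvd_nat (card_quotient_dvd_card K)) (H := H.map (QuotientGroup.mk' K))
    (fun e => hH.1 (by rw [← hc, e, comap_top])) (by rwa [index_map_eq _ hs (by simpa using hK)])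
    (fun N hN h => by
      have : N.comap (QuotientGroup.mk' K) ≤ K := normal_le_normalCore.2 ((comap_mono h).trans hc.le)
      refine eq_bot_iff.2 fun x hx => ?_
      obtain ⟨x, rfl⟩ := hs x
      exact (QuotientGroup.eq_one_iff x).2 (this hx))
    (fun N hN h => by
      have : N.comap (QuotientGroup.mk' K) ⊔ H = ⊤ := hH.2 _ (right_lt_sup.2 fun e => h (by
        have : N.comap (QuotientGroup.mk' K) ≤ K := normal_le_normalCore.2 e
        refine eq_bot_iff.2 fun x hx => ?_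
        obtain ⟨x, rfl⟩ := hs x
        exact (QuotientGroup.eq_one_iff x).2 (this hx)))
      rw [← map_comap_eq_self_of_surjective hs N, ← Subgroup.map_sup, this, map_top_of_surjective _ hs])
  refine ⟨QuotientGroup.mk' K ⁻¹' D, fun d hd h hh => ?_, fun g hg => (QuotientGroup.eq_one_iff g).1 (h2 _ fun d hd => ?_)⟩
  · show QuotientGroup.mk' K (d * h) ∈ D
    rw [map_mul]; exact h1 _ hd _ ⟨h, hh, rfl⟩
  · obtain ⟨d, rfl⟩ := hs d
    exact hg d hd

theorem Base.ne [Nontrivial V] (h : Base G V) : ∃ v w : V, v ≠ w ∧ Reg G V v w := by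
  obtain ⟨v, w, h⟩ := h
  by_cases e : v = w
  · subst e
    by_cases e : v = 0
    · obtain ⟨x, hx⟩ := exists_ne (0 : V)
      exact ⟨x, 0, hx, fun g _ _ => h g (by simp [e]) (by simp [e])⟩
    · exact ⟨v, 0, e, fun g a _ => h g a a⟩
  · exact ⟨v, w, e, h⟩

/-- The imprimitive case. -/
theorem base_of_imprim (ih : IH.{u} (Nat.card V)) (hG : Odd (Nat.card G)) (hi : Irr G V) {H : Subgroup G}
    (hH : IsCoatom H) (e : V →+ V) (h1 : ∀ v, e (e v) = e v) (h0 : ∃ v, e v ≠ 0) (h2 : ∀ h ∈ H, ∀ v, e (h • v) = h • e v)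
    (h3 : ∀ g ∉ H, ∀ v, e (g • e v) = 0) : Base G V := by
  classical
  obtain ⟨v0, hv0⟩ := h0
  set W := e.range with hW
  have hWe : ∀ w ∈ W, e w = w := by rintro _ ⟨v, rfl⟩; exact h1 v
  have h3' : ∀ g ∉ H, ∀ w ∈ W, e (g • w) = 0 := by rintro g hg _ ⟨v, rfl⟩; exact h3 g hg v
  have hWi : Inv H V W := by rintro h _ ⟨v, rfl⟩; exact ⟨h.1 • v, h2 h h.2 v⟩
  obtain ⟨g0, hg0⟩ : ∃ g, g ∉ H := by simpa [eq_top_iff'] using hH.1
  have hWt : W ≠ ⊤ := fun t => hv0 (by simpa using h3' g0 hg0 (g0⁻¹ • v0) (t ▸ trivial))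
  have span : ∀ U : AddSubgroup V, U ≠ ⊥ → AddSubgroup.closure {x | ∃ a : G, ∃ u ∈ U, x = a • u} = ⊤ := fun U hU =>
    (hi _ fun a v hv => by
      induction hv using AddSubgroup.closure_induction with
      | mem x hx => obtain ⟨b, u, hu, rfl⟩ := hx; exact AddSubgroup.subset_closure ⟨a * b, u, hu, (mul_smul _ _ _).symm⟩
      | zero => rw [smul_zero]; exact zero_mem _
      | add x y _ _ a b => rw [smul_add]; exact add_mem a b
      | neg x _ a => rw [smul_neg]; exact neg_mem a).resolve_left fun t => hU (eq_bot_iff.2 fun u hu =>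
        t ▸ AddSubgroup.subset_closure ⟨1, u, hu, (one_smul _ _).symm⟩)
  letI := subAct hWi
  have hirr : Irr H W := fun U hU => by
    refine or_iff_not_imp_left.2 fun hU0 => eq_top_iff.2 fun w _ => ?_
    have : ∀ x ∈ AddSubgroup.closure {x | ∃ a : G, ∃ u ∈ U.map W.subtype, x = a • u}, e x ∈ U.map W.subtype := fun x hx => by
      induction hx using AddSubgroup.closure_induction with
      | mem x hx =>
        obtain ⟨b, _, ⟨u, hu, rfl⟩, rfl⟩ := hx
        by_cases hb : b ∈ H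
        · rw [h2 b hb, AddSubgroup.coe_subtype, hWe _ u.2]; exact ⟨_, hU ⟨b, hb⟩ u hu, rfl⟩
        · rw [AddSubgroup.coe_subtype, h3' b hb _ u.2]; exact zero_mem _
      | zero => rw [map_zero]; exact zero_mem _
      | add x y _ _ a b => rw [map_add]; exact add_mem a b
      | neg x _ a => rw [map_neg]; exact neg_mem a
    obtain ⟨u, hu, t⟩ := this w (span _ (by rwa [Ne, AddSubgroup.map_eq_bot_iff_of_injective _ W.subtype_injective]) ▸ trivial)
    rw [hWe _ w.2] at t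
    rwa [← Subtype.ext t]
  haveI : Nontrivial W := ⟨⟨⟨e v0, v0, rfl⟩, 0, fun t => hv0 (congrArg Subtype.val t)⟩⟩
  have hH' : Odd (Nat.card H) := hG.of_dvd_nat H.card_subgroup_dvd_card
  obtain ⟨v, w, hvw, hr⟩ := (ih H W hH' (card_lt hWt) hirr.cr).ne
  have hidx : H.index < Nat.card V := by
    have inj : ∀ a b : G, a • e v0 = b • e v0 → a⁻¹ * b ∈ H := fun a b t => by_contra fun hn =>
      hv0 (by have := h3 _ hn v0; rwa [mul_smul, ← t, inv_smul_smul, h1] at this)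
    haveI := Fintype.ofFinite (G ⧸ H)
    haveI := Fintype.ofFinite V
    rw [index, Nat.card_eq_fintype_card, Nat.card_eq_fintype_card]
    refine Fintype.card_lt_of_injective_of_notMem (fun c : G ⧸ H => c.out • e v0) (fun a b t => ?_) (b := 0) ?_
    · rw [← a.out_eq, ← b.out_eq]; exact QuotientGroup.eq.2 (inj _ _ t)
    · rintro ⟨c, hc⟩; exact hv0 ((smul_eq_zero_iff_eq _).1 hc)
  obtain ⟨D, hD1, hD2⟩ := gluck ih hG hH hidx
  haveI := Fintype.ofFinite (G ⧸ H)
  have hD : ∀ a : G, (QuotientGroup.mk a : G ⧸ H).out ∈ D ↔ a ∈ D := fun a => by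
    obtain ⟨h, t⟩ := QuotientGroup.mk_out_eq_mul H a
    rw [t]; exact ⟨fun x => by simpa using hD1 _ x _ (H.inv_mem h.2), fun x => hD1 _ x _ h.2⟩
  have hout : ∀ a : G, a⁻¹ * (QuotientGroup.mk a : G ⧸ H).out ∈ H := fun a => by
    obtain ⟨h, t⟩ := QuotientGroup.mk_out_eq_mul H a
    rw [t]; simp
  have comp : ∀ (p q : W) (a : G), e (a⁻¹ • ∑ c : G ⧸ H, c.out • (if c.out ∈ D then p else q : W).1) =
      (a⁻¹ * (QuotientGroup.mk a : G ⧸ H).out) • (if a ∈ D then p else q : W).1 := fun p q a => by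
    rw [Finset.smul_sum, map_sum, Finset.sum_eq_single (QuotientGroup.mk a : G ⧸ H), ← mul_smul, h2 _ (hout a),
      hWe _ (Subtype.prop _)]
    · simp only [hD]
    · intro c _ hc
      rw [← mul_smul]
      exact h3' _ (fun t => hc (by rw [← c.out_eq]; exact (QuotientGroup.eq.2 t).symm)) _ (Subtype.prop _)
    · simp
  have comp' : ∀ (p q : W) (g a : G), g • (∑ c : G ⧸ H, c.out • (if c.out ∈ D then p else q : W).1) =
      ∑ c : G ⧸ H, c.out • (if c.out ∈ D then p else q : W).1 →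
      (((QuotientGroup.mk a : G ⧸ H).out)⁻¹ * g⁻¹ * (QuotientGroup.mk (g * a) : G ⧸ H).out) •
        (if g * a ∈ D then p else q : W).1 = (if a ∈ D then p else q : W).1 := fun p q g a t => by
    have t1 := comp p q (g * a)
    rw [mul_inv_rev, mul_smul, inv_smul_eq_iff.2 t.symm, comp] at t1
    rw [← inv_smul_eq_iff, ← mul_smul] at t1
    rw [← t1, ← mul_smul]; convert one_smul G _ using 2; group
  have hmem : ∀ g a : G, ((QuotientGroup.mk a : G ⧸ H).out)⁻¹ * g⁻¹ * (QuotientGroup.mk (g * a) : G ⧸ H).out ∈ H :=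
    fun g a => by simpa [mul_assoc] using H.mul_mem (H.inv_mem (hout a)) (hout (g * a))
  refine ⟨∑ c : G ⧸ H, c.out • (if c.out ∈ D then v else w : W).1, ∑ c : G ⧸ H, c.out • (if c.out ∈ D then w else v : W).1,
    fun g e1 e2 => ?_⟩
  have c1 := fun a => comp' v w g a e1
  have c2 := fun a => comp' w v g a e2
  have hg : g ∈ H.normalCore := hD2 g fun d hd => by_contra fun hn => by
    have t1 := c1 d
    have t2 := c2 d
    rw [if_pos hd, if_neg hn] at t1 t2
    set k : H := ⟨_, hmem g d⟩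
    have t1' : k • w = v := Subtype.ext t1
    have t2' : k • v = w := Subtype.ext t2
    have : k ∈ MulAction.stabilizer H v := mem_of_pow_mem hH' (k := 1) (by
      rw [MulAction.mem_stabilizer_iff, pow_one, sq, mul_smul, t2', t1'])
    exact hvw (this.symm.trans t2')
  have fix : ∀ a : G, ∀ x ∈ W, g • a • x = a • x := fun a x hx => by
    have m : (QuotientGroup.mk (g * a) : G ⧸ H) = QuotientGroup.mk a :=
      QuotientGroup.eq.2 (by simpa [mul_assoc] using H.inv_mem (hg a⁻¹))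
    have m' : g * a ∈ D ↔ a ∈ D := by rw [← hD, m, hD]
    have t1 := c1 a
    have t2 := c2 a
    have t3 := hmem g a
    simp only [m, m'] at t1 t2 t3
    have : ∀ x : W, (⟨_, t3⟩ : H) • x = x := by
      by_cases ha : a ∈ D
      · rw [if_pos ha] at t1 t2; exact hr ⟨_, t3⟩ (Subtype.ext t1) (Subtype.ext t2)
      · rw [if_neg ha] at t1 t2; exact hr ⟨_, t3⟩ (Subtype.ext t2) (Subtype.ext t1)
    set o := (QuotientGroup.mk a : G ⧸ H).out
    have t4 : (o⁻¹ * g⁻¹ * o) • ((a⁻¹ * o)⁻¹ • x) = (a⁻¹ * o)⁻¹ • x :=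
      congrArg Subtype.val (this ⟨_, hWi ⟨_, H.inv_mem (hout a)⟩ x hx⟩)
    have t5 := congrArg (fun y => (g * o) • y) t4
    simp only [← mul_smul] at t5 ⊢
    convert t5.symm using 2 <;> group
  intro x
  have hx : x ∈ AddSubgroup.closure {x | ∃ a : G, ∃ u ∈ W, x = a • u} :=
    span W (fun t => hv0 (AddSubgroup.mem_bot.1 (t ▸ ⟨v0, rfl⟩))) ▸ trivial
  induction hx using AddSubgroup.closure_induction with
  | mem x hx => obtain ⟨b, u, hu, rfl⟩ := hx; exact fix b u hu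
  | zero => exact smul_zero _
  | add x y _ _ a b => rw [smul_add, a, b]
  | neg x _ a => rw [smul_neg, a]

end Cfsg.Lib.Block.B2
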