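import Cfsg.Agent.Lib.Block.Base2a

/-! # Base size two: an abelian normal subgroup generates a field, or the module is imprimitive -/

set_option autoImplicit false
set_option linter.unusedSectionVars false
set_option linter.style.haveILetI false

namespace Cfsg.Lib.Block.B2

open Cfsg Cfsg.Lib Subgroup

universe u
variable {G V : Type u} [Group G] [Finite G] [AddCommGroup V] [Finite V] [DistribMulAction G V]

local notation "ρ" => DistribMulAction.toAddMonoidEnd G V

theorem exists_idem_pow {R : Type*} [Monoid R] [Finite R] (r : R) : ∃ k, 0 < k ∧ r ^ k * r ^ k = r ^ k := by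
  obtain ⟨i, j, hij, e⟩ : ∃ i j : ℕ, i < j ∧ r ^ i = r ^ j := by
    obtain ⟨i, j, h, e⟩ := Finite.exists_ne_map_eq_of_infinite (fun n : ℕ => r ^ n)
    rcases lt_or_gt_of_ne h with h | h
    exacts [⟨i, j, h, e⟩, ⟨j, i, h, e.symm⟩]
  obtain ⟨p, rfl⟩ := Nat.exists_eq_add_of_lt hij
  have h : ∀ m n, i ≤ n → r ^ (n + (p + 1) * m) = r ^ n := fun m n hn => by
    induction m with
    | zero => simp
    | succ m ih =>
      obtain ⟨c, rfl⟩ := Nat.exists_eq_add_of_le hn
      rw [show i + c + (p + 1) * (m + 1) = (i + p + 1) + (c + (p + 1) * m) by ring, pow_add, ← e, ← pow_add, ← add_assoc, ih]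
  exact ⟨(p + 1) * (i + 1), by positivity, by rw [← pow_add, h _ _ (by nlinarith)]⟩

variable (V) in
/-- conjugation on endomorphisms -/
def cj (g : G) : AddMonoid.End V →+* AddMonoid.End V where
  toFun r := ρ g * r * ρ g⁻¹
  map_one' := by rw [mul_one, ← map_mul, mul_inv_cancel, map_one]
  map_mul' a b := by
    rw [show ρ g * a * ρ g⁻¹ * (ρ g * b * ρ g⁻¹) = ρ g * a * (ρ g⁻¹ * ρ g) * b * ρ g⁻¹ by simp only [mul_assoc],
      ← map_mul, inv_mul_cancel, map_one, mul_one]
    simp only [mul_assoc]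
  map_zero' := by rw [mul_zero, zero_mul]
  map_add' a b := by rw [mul_add, add_mul]

theorem cj_apply (g : G) (r : AddMonoid.End V) (v : V) : cj V g r v = g • r (g⁻¹ • v) := rfl
theorem cj_cj (a b : G) (r : AddMonoid.End V) : cj V a (cj V b r) = cj V (a * b) r :=
  AddMonoidHom.ext fun v => by
    show cj V a (cj V b r) v = cj V (a * b) r v
    simp only [cj_apply, mul_smul, mul_inv_rev]
theorem cj_one (r : AddMonoid.End V) : cj V (1 : G) r = r := AddMonoidHom.ext fun v => by
  show cj V (1 : G) r v = r v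
  simp [cj_apply]

variable (V) in
def KK (Z : Subgroup G) : Subring (AddMonoid.End V) := Subring.closure (Set.range fun z : Z => ρ z)

theorem cj_mem {Z : Subgroup G} [hZ : Z.Normal] (g : G) {r : AddMonoid.End V} (hr : r ∈ KK V Z) : cj V g r ∈ KK V Z := by
  have : KK V Z ≤ (KK V Z).comap (cj V g) := Subring.closure_le.2 (by
    rintro _ ⟨z, rfl⟩
    refine Subring.subset_closure ⟨⟨_, hZ.conj_mem _ z.2 g⟩, ?_⟩
    show ρ (g * z * g⁻¹) = ρ g * ρ z * ρ g⁻¹
    simp only [map_mul])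
  exact this hr

theorem KK_cent {Z : Subgroup G} {a : G} (ha : a ∈ centralizer (Z : Set G)) {r : AddMonoid.End V} (hr : r ∈ KK V Z) :
    ρ a * r = r * ρ a := by
  have : KK V Z ≤ Subring.centralizer {ρ a} := Subring.closure_le.2 (by
    rintro _ ⟨z, rfl⟩ _ rfl
    show ρ a * ρ z = ρ z * ρ a
    rw [← map_mul, ← map_mul, ha z z.2])
  exact this hr _ rfl

theorem KK_comm {Z : Subgroup G} (hZ : Z ≤ centralizer (Z : Set G)) {r s : AddMonoid.End V} (hr : r ∈ KK V Z)
    (hs : s ∈ KK V Z) : r * s = s * r := by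
  have : KK V Z ≤ Subring.centralizer {s} := Subring.closure_le.2 (by
    rintro _ ⟨z, rfl⟩ _ rfl
    exact (KK_cent (hZ z.2) hs).symm)
  exact (this hr _ rfl).symm

theorem nil_eq_zero [Nontrivial V] (hi : Irr G V) {Z : Subgroup G} [Z.Normal] (hZ : Z ≤ centralizer (Z : Set G))
    {r : AddMonoid.End V} (hr : r ∈ KK V Z) (hn : IsNilpotent r) : r = 0 := by
  classical
  haveI : Finite (AddMonoid.End V) := DFunLike.finite (V →+ V)
  have key : ∀ s : Finset (AddMonoid.End V), (∀ t ∈ s, t ∈ KK V Z ∧ IsNilpotent t) → ∃ w : V, w ≠ 0 ∧ ∀ t ∈ s, t w = 0 := by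
    intro s
    induction s using Finset.induction_on with
    | empty => intro _; obtain ⟨w, hw⟩ := exists_ne (0 : V); exact ⟨w, hw, by simp⟩
    | insert a s _ ih =>
      intro h
      obtain ⟨w, hw, h1⟩ := ih fun t ht => h t (Finset.mem_insert_of_mem ht)
      obtain ⟨ha, n, hn⟩ := h a (Finset.mem_insert_self _ _)
      have ex : ∃ j, (a ^ j) w = 0 := ⟨n, by rw [hn]; rfl⟩
      have h0 : Nat.find ex ≠ 0 := fun e => hw (by have := Nat.find_spec ex; rwa [e, pow_zero] at this)
      obtain ⟨j, hj⟩ := Nat.exists_eq_succ_of_ne_zero h0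
      refine ⟨(a ^ j) w, Nat.find_min ex (by omega), fun t ht => ?_⟩
      rcases Finset.mem_insert.1 ht with rfl | ht
      · have := Nat.find_spec ex
        rwa [hj, pow_succ'] at this
      · show (t * a ^ j) w = 0
        rw [KK_comm hZ (h t (Finset.mem_insert_of_mem ht)).1 (pow_mem ha j)]
        show (a ^ j) (t w) = 0
        rw [h1 t ht, map_zero]
  obtain ⟨w, hw, h⟩ := key (Set.toFinite {t | t ∈ KK V Z ∧ IsNilpotent t}).toFinset (by simp)
  let U : AddSubgroup V :=
    { carrier := {v | ∀ t ∈ KK V Z, IsNilpotent t → t v = 0}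
      zero_mem' := fun t _ _ => map_zero t
      add_mem' := fun ha hb t h1 h2 => by rw [map_add, ha t h1 h2, hb t h1 h2, add_zero]
      neg_mem' := fun ha t h1 h2 => by rw [map_neg, ha t h1 h2, neg_zero] }
  have hU : U = ⊤ := (hi U fun a v hv t h1 h2 => by
    have := hv _ (cj_mem a⁻¹ h1) (h2.map _)
    rwa [cj_apply, inv_inv, smul_eq_zero_iff_eq] at this).resolve_left fun e =>
      hw (AddSubgroup.mem_bot.1 (e ▸ fun t h1 h2 => h t (by simp [h1, h2])))
  exact AddMonoidHom.ext fun v => (hU ▸ trivial : v ∈ U) r hr hn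

theorem base_or_field [Nontrivial V] (ih : IH.{u} (Nat.card V)) (hG : Odd (Nat.card G)) (hi : Irr G V)
    {Z : Subgroup G} [Z.Normal] (hZ : Z ≤ centralizer (Z : Set G)) : Base G V ∨ IsField (KK V Z) := by
  classical
  haveI : Finite (AddMonoid.End V) := DFunLike.finite (V →+ V)
  have h10 : (1 : AddMonoid.End V) ≠ 0 := fun e => by
    obtain ⟨w, hw⟩ := exists_ne (0 : V); exact hw (DFunLike.congr_fun e w)
  obtain ⟨e, ⟨he, he1, he0⟩, hmin⟩ := (InvImage.wf (fun e : AddMonoid.End V => Nat.card (AddMonoidHom.range e))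
    wellFounded_lt).has_min {e | e ∈ KK V Z ∧ e * e = e ∧ e ≠ 0} ⟨1, one_mem _, mul_one _, h10⟩
  have prim : ∀ f ∈ KK V Z, f * f = f → f * e = 0 ∨ f * e = e := fun f hf hf1 => or_iff_not_imp_left.2 fun h0 => by
    have h1 := hmin (f * e) ⟨mul_mem hf he, by
      rw [mul_assoc, ← mul_assoc e, KK_comm hZ he hf, mul_assoc f, he1, ← mul_assoc, hf1], h0⟩
    have h2 : AddMonoidHom.range (f * e) ≤ AddMonoidHom.range e := by
      rintro _ ⟨v, rfl⟩; exact ⟨f v, DFunLike.congr_fun (KK_comm hZ he hf) v⟩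
    have h3 := AddSubgroup.eq_of_le_of_card_ge h2 (not_lt.1 h1)
    refine AddMonoidHom.ext fun v => ?_
    obtain ⟨w, hw⟩ : e v ∈ AddMonoidHom.range (f * e) := h3 ▸ ⟨v, rfl⟩
    show f (e v) = e v
    rw [← hw]; exact DFunLike.congr_fun (by rw [← mul_assoc, hf1] : f * (f * e) = f * e) w
  have idem : ∀ a : G, cj V a e * cj V a e = cj V a e := fun a => by rw [← map_mul, he1]
  have prim' : ∀ a b : G, cj V a e * cj V b e = 0 ∨ cj V a e * cj V b e = cj V b e := fun a b => by
    have : cj V a e * cj V b e = cj V b (cj V (b⁻¹ * a) e * e) := by rw [map_mul, cj_cj]; simp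
    rcases prim _ (cj_mem (b⁻¹ * a) he) (idem _) with h | h <;> rw [this, h] <;> simp
  have orth : ∀ a b : G, cj V a e ≠ cj V b e → cj V a e * cj V b e = 0 := fun a b h =>
    (prim' a b).resolve_right fun h1 => (prim' b a).elim
      (fun h2 => he0 (by
        rw [KK_comm hZ (cj_mem _ he) (cj_mem _ he), h1] at h2
        rw [← cj_one (G := G) e, ← inv_mul_cancel b, ← cj_cj, h2, map_zero]))
      fun h2 => h (by rw [← h2, KK_comm hZ (cj_mem _ he) (cj_mem _ he), h1])
  let H0 : Subgroup G :=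
    { carrier := {g | cj V g e = e}
      one_mem' := cj_one e
      mul_mem' := fun {a b} ha hb => by show _ = _; rw [← cj_cj, hb, ha]
      inv_mem' := fun {a} ha => by show _ = _; nth_rewrite 1 [← ha]; rw [cj_cj, inv_mul_cancel, cj_one] }
  rcases eq_top_or_exists_le_coatom H0 with h | ⟨H, hH, h⟩
  · have hr : AddMonoidHom.range e = ⊤ := (hi _ (by
      rintro a _ ⟨v, rfl⟩
      refine ⟨a • v, ?_⟩
      have := DFunLike.congr_fun (h ▸ trivial : a ∈ H0) (a • v)
      rw [cj_apply, inv_smul_smul] at this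
      exact this.symm)).resolve_left fun t => he0 (AddMonoidHom.ext fun v => AddSubgroup.mem_bot.1 (t ▸ ⟨v, rfl⟩))
    have e1 : e = 1 := AddMonoidHom.ext fun v => by
      obtain ⟨w, rfl⟩ : v ∈ AddMonoidHom.range e := hr ▸ trivial
      exact DFunLike.congr_fun he1 w
    refine Or.inr ⟨⟨1, 0, fun t => h10 (congrArg Subtype.val t)⟩, fun a b => Subtype.ext (KK_comm hZ a.2 b.2), fun {a} ha => ?_⟩
    obtain ⟨k, hk, t⟩ := exists_idem_pow a.1
    rcases prim _ (pow_mem a.2 k) t with t | t <;> rw [e1, mul_one] at t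
    · exact (ha (Subtype.ext (nil_eq_zero hi hZ a.2 ⟨k, t⟩))).elim
    · obtain ⟨k, rfl⟩ := Nat.exists_eq_succ_of_ne_zero hk.ne'
      exact ⟨a ^ k, Subtype.ext (by rw [pow_succ'] at t; exact t)⟩
  · left
    haveI := Fintype.ofFinite H
    set S := Finset.univ.image fun h : H => cj V h.1 e with hS
    have mS : ∀ f, f ∈ S ↔ ∃ h ∈ H, cj V h e = f := fun f => by simp [hS]
    have a1 : ∀ f ∈ S, (∑ f ∈ S, f) * f = f := fun f hf => by
      rw [Finset.sum_mul, Finset.sum_eq_single f]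
      · obtain ⟨a, -, rfl⟩ := (mS f).1 hf; exact idem a
      · intro f' hf' t
        obtain ⟨a, -, rfl⟩ := (mS f).1 hf
        obtain ⟨b, -, rfl⟩ := (mS f').1 hf'
        exact orth _ _ t
      · exact fun t => (t hf).elim
    have a2 : ∀ h ∈ H, cj V h (∑ f ∈ S, f) = ∑ f ∈ S, f := fun h hh => by
      rw [map_sum]
      refine Finset.sum_bij (fun f _ => cj V h f) (fun f hf => ?_) (fun a _ b _ t => ?_) (fun f hf => ?_) fun _ _ => rfl
      · obtain ⟨a, ha, rfl⟩ := (mS f).1 hf; exact (mS _).2 ⟨h * a, H.mul_mem hh ha, (cj_cj _ _ _).symm⟩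
      · simpa [cj_cj, cj_one] using congrArg (cj V h⁻¹) t
      · obtain ⟨a, ha, rfl⟩ := (mS f).1 hf
        exact ⟨_, (mS _).2 ⟨h⁻¹ * a, H.mul_mem (H.inv_mem hh) ha, rfl⟩, by rw [cj_cj]; simp⟩
    refine base_of_imprim ih hG hi hH (∑ f ∈ S, f : AddMonoid.End V) (fun v => ?_) ?_ (fun h hh v => ?_) fun g hg v => ?_
    · exact DFunLike.congr_fun (by rw [Finset.mul_sum]; exact Finset.sum_congr rfl a1 :
        (∑ f ∈ S, f) * (∑ f ∈ S, f) = ∑ f ∈ S, f) v
    · by_contra! t
      exact he0 (by rw [← a1 e ((mS e).2 ⟨1, H.one_mem, cj_one e⟩)]; exact AddMonoidHom.ext fun v => t _)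
    · have := DFunLike.congr_fun (a2 h hh) (h • v)
      rw [cj_apply, inv_smul_smul] at this
      exact this.symm
    · have : (∑ f ∈ S, f) * cj V g (∑ f ∈ S, f) = 0 := by
        rw [map_sum, Finset.sum_mul_sum]
        refine Finset.sum_eq_zero fun f hf => Finset.sum_eq_zero fun f' hf' => ?_
        obtain ⟨a, ha, rfl⟩ := (mS f).1 hf
        obtain ⟨b, hb, rfl⟩ := (mS f').1 hf'
        rw [cj_cj]
        refine orth _ _ fun t => hg ?_
        have : a⁻¹ * (g * b) ∈ H0 := by show _ = _; rw [← cj_cj, ← t, cj_cj, inv_mul_cancel, cj_one]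
        simpa using H.mul_mem (H.mul_mem ha (h this)) (H.inv_mem hb)
      have := DFunLike.congr_fun this (g • v)
      have t : ∀ r : AddMonoid.End V, cj V g r (g • v) = g • r v := fun r => by rw [cj_apply, inv_smul_smul]
      exact (congrArg _ (t _).symm).trans this

end Cfsg.Lib.Block.B2
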