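import Cfsg.Agent.Lib.Block.Base2a
import Cfsg.Agent.Lib.Clifford.Orbits

/-! # Base size two: the symplectic section over a maximal abelian normal subgroup -/

set_option autoImplicit false
set_option linter.unusedSectionVars false
set_option linter.style.haveILetI false

namespace Cfsg.Lib.Block.B2

open Cfsg Cfsg.Lib Subgroup
open scoped commutatorElement

universe u
variable {G : Type u} [Group G] [Finite G] {K : Type*} [Field K] {Z : Subgroup G} [hZn : Z.Normal] {ι : Z →* K}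

local notation "𝐂" S => centralizer (SetLike.coe S)

/-- the centralizer modulo `Z` -/
def cz (Z : Subgroup G) [Z.Normal] (S : Subgroup G) : Subgroup G :=
  (𝐂 (S.map (QuotientGroup.mk' Z))).comap (QuotientGroup.mk' Z)

theorem comm_mem_iff {a b : G} : ⁅a, b⁆ ∈ Z ↔ QuotientGroup.mk' Z a * QuotientGroup.mk' Z b =
    QuotientGroup.mk' Z b * QuotientGroup.mk' Z a := by
  rw [← commutatorElement_eq_one_iff_mul_comm, ← map_commutatorElement]
  exact (QuotientGroup.eq_one_iff _).symm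

theorem mem_cz {S : Subgroup G} {g : G} : g ∈ cz Z S ↔ ∀ s ∈ S, ⁅g, s⁆ ∈ Z :=
  ⟨fun h s hs => comm_mem_iff.2 (h _ ⟨s, hs, rfl⟩).symm, by
    rintro h _ ⟨s, hs, rfl⟩; exact (comm_mem_iff.1 (h s hs)).symm⟩

theorem cz_symm {S T : Subgroup G} (h : S ≤ cz Z T) : T ≤ cz Z S := fun t ht => mem_cz.2 fun s hs =>
  comm_mem_iff.2 (comm_mem_iff.1 (mem_cz.1 (h hs) t ht)).symm

theorem mem_cz_zpowers {u g : G} (h : ⁅u, g⁆ ∈ Z) : u ∈ cz Z (zpowers g) := mem_cz.2 (by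
  rintro _ ⟨k, rfl⟩
  exact comm_mem_iff.2 (by rw [map_zpow]; exact Commute.zpow_right (comm_mem_iff.1 h) k))

theorem cz_anti {S T : Subgroup G} (h : S ≤ T) : cz Z T ≤ cz Z S := fun _ hg => mem_cz.2 fun s hs => mem_cz.1 hg s (h hs)

instance cz_normal (S : Subgroup G) [S.Normal] : (cz Z S).Normal :=
  haveI := Normal.map ‹S.Normal› _ (QuotientGroup.mk'_surjective Z)
  Normal.comap inferInstance _

theorem cent_le_cz (S : Subgroup G) : (𝐂 S) ≤ cz Z S := fun g hg => mem_cz.2 fun s hs => by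
  rw [commutatorElement_eq_one_iff_mul_comm.2 (hg s hs).symm]; exact Z.one_mem

theorem le_cz (S : Subgroup G) : Z ≤ cz Z S := fun g hg => mem_cz.2 fun s _ =>
  comm_mem_iff.2 (by rw [QuotientGroup.mk'_apply Z g, (QuotientGroup.eq_one_iff g).2 hg]; simp)

theorem comm_mul_right {x y y' : G} (hy : y ∈ 𝐂 Z) (h : ⁅x, y'⁆ ∈ Z) : ⁅x, y * y'⁆ = ⁅x, y⁆ * ⁅x, y'⁆ := by
  have := hy _ h
  rw [show ⁅x, y * y'⁆ = ⁅x, y⁆ * (y * ⁅x, y'⁆) * y⁻¹ by simp only [commutatorElement_def]; group, ← this]; group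

theorem comm_mul_left {x x' y : G} (hx : x ∈ 𝐂 Z) (h : ⁅x', y⁆ ∈ Z) : ⁅x * x', y⁆ = ⁅x', y⁆ * ⁅x, y⁆ := by
  have := hx _ h
  rw [show ⁅x * x', y⁆ = (x * ⁅x', y⁆) * x⁻¹ * ⁅x, y⁆ by simp only [commutatorElement_def]; group, ← this]; group

/-- the character `q ↦ ι ⁅p, q⁆` -/
def chi (ι : Z →* K) {Q : Subgroup G} (hQ : Q ≤ 𝐂 Z) (p : G) (hp : p ∈ cz Z Q) : Q →* K where
  toFun q := ι ⟨⁅p, q.1⁆, mem_cz.1 hp q q.2⟩
  map_one' := by rw [← map_one ι]; congr 1; exact Subtype.ext (by simp)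
  map_mul' a b := by rw [← map_mul]; congr 1; exact Subtype.ext (comm_mul_right (hQ a.2) (mem_cz.1 hp _ b.2))

theorem chi_inj (hι : Function.Injective ι) {Q : Subgroup G} (hQ : Q ≤ 𝐂 Z) {p p' : G} (hp : p ∈ cz Z Q)
    (hp' : p' ∈ cz Z Q) (h : chi ι hQ p hp = chi ι hQ p' hp') : p⁻¹ * p' ∈ 𝐂 Q := fun q hq => by
  have : ⁅p, q⁆ = ⁅p', q⁆ := congrArg Subtype.val (hι (DFunLike.congr_fun h ⟨q, hq⟩))
  simp only [commutatorElement_def, mul_left_inj] at this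
  rw [show q * (p⁻¹ * p') = p⁻¹ * (p * q * p⁻¹) * p' by group, this]; group

theorem hb_le (hι : Function.Injective ι) {P Q : Subgroup G} (hQ : Q ≤ 𝐂 Z) (h : P ≤ cz Z Q) :
    (𝐂 Q).relIndex P ≤ (𝐂 P).relIndex Q := by
  classical
  set I := P ⧸ (𝐂 Q).subgroupOf P
  set J := Q ⧸ (𝐂 P).subgroupOf Q
  haveI := Fintype.ofFinite I
  haveI := Fintype.ofFinite J
  have h1 : Function.Injective fun i : I => chi ι hQ i.out.1 (h i.out.2) := fun a b e => by
    rw [← a.out_eq, ← b.out_eq]; exact QuotientGroup.eq.2 (chi_inj hι hQ _ _ e)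
  have h2 := (linearIndependent_monoidHom Q K).comp _ h1
  have h3 : LinearIndependent K fun (i : I) (j : J) => chi ι hQ i.out.1 (h i.out.2) j.out := by
    refine LinearIndependent.of_comp (LinearMap.funLeft K K (QuotientGroup.mk : Q → J)) ?_
    refine Eq.subst (motive := fun f => LinearIndependent K f) (funext fun i => funext fun q => Eq.symm ?_) h2
    obtain ⟨c, e⟩ := QuotientGroup.mk_out_eq_mul ((𝐂 P).subgroupOf Q) q
    show chi ι hQ i.out.1 (h i.out.2) (QuotientGroup.mk q : J).out = chi ι hQ i.out.1 (h i.out.2) q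
    rw [e, map_mul]
    convert mul_one _
    rw [← map_one ι]
    exact congrArg ι (Subtype.ext (commutatorElement_eq_one_iff_mul_comm.2 (c.2 _ i.out.2)))
  simpa [relIndex, index, Nat.card_eq_fintype_card] using h3.fintype_card_le_finrank

theorem hb (hι : Function.Injective ι) {P Q : Subgroup G} (hP : P ≤ 𝐂 Z) (hQ : Q ≤ 𝐂 Z) (h : P ≤ cz Z Q) :
    (𝐂 Q).relIndex P = (𝐂 P).relIndex Q := le_antisymm (hb_le hι hQ h) (hb_le hι hP (cz_symm h))

theorem relIndex_congr {S T U : Subgroup G} (h : S ⊓ U = T ⊓ U) : S.relIndex U = T.relIndex U := by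
  rw [← inf_relIndex_right S, h, inf_relIndex_right]

theorem isSquare_relIndex (hι : Function.Injective ι) (hZ : Z ≤ 𝐂 Z) {U : Subgroup G} (h1 : Z ≤ U) (h2 : U ≤ 𝐂 Z)
    (h3 : U ≤ cz Z U) (h4 : U ⊓ (𝐂 U) ≤ Z) : IsSquare (Z.relIndex U) := by
  obtain ⟨B, -, ⟨b1, b2, b3⟩, hmax⟩ := Finite.exists_le_maximal
    (p := fun B : Subgroup G => Z ≤ B ∧ B ≤ U ∧ B ≤ 𝐂 B) (a := Z) ⟨le_rfl, h1, hZ⟩
  have e : (𝐂 B) ⊓ U = B ⊓ U := le_antisymm (fun c hc => ⟨hmax (y := B ⊔ zpowers c)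
    ⟨b1.trans le_sup_left, sup_le b2 (zpowers_le_of_mem hc.2), by
      have t1 : zpowers c ≤ 𝐂 B := zpowers_le_of_mem hc.1
      have t2 : zpowers c ≤ 𝐂 (zpowers c) := le_centralizer _
      exact sup_le (le_centralizer_iff.1 (sup_le b3 t1)) (le_centralizer_iff.1 (sup_le (le_centralizer_iff.1 t1) t2))⟩
      le_sup_left (mem_sup_right (mem_zpowers c)), hc.2⟩) (inf_le_inf_right _ b3)
  have e' : (𝐂 U) ⊓ B = Z ⊓ B := le_antisymm (fun c hc => ⟨h4 ⟨b2 hc.2, hc.1⟩, hc.2⟩)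
    (inf_le_inf_right _ (le_centralizer_iff.1 h2))
  have := hb hι h2 (b2.trans h2) (h3.trans (cz_anti b2))
  rw [relIndex_congr e, relIndex_congr e'] at this
  exact ⟨Z.relIndex B, by rw [← relIndex_mul_relIndex Z B U b1 b2, this]⟩

theorem le_sup_cent (hι : Function.Injective ι) {U C : Subgroup G} [U.Normal] [C.Normal] (h1 : U ≤ C) (h2 : C ≤ 𝐂 Z)
    (h3 : C ≤ cz Z U) (h4 : U ⊓ (𝐂 U) ≤ Z) : C ≤ U ⊔ (C ⊓ 𝐂 U) := by
  have e := hb hι h2 (h1.trans h2) h3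
  have e1 : (𝐂 C) ⊓ U = (C ⊓ 𝐂 U) ⊓ U := le_antisymm (fun c hc => ⟨⟨h1 hc.2, centralizer_le h1 hc.1⟩, hc.2⟩)
    fun c hc => ⟨le_centralizer_iff.1 h2 (h4 ⟨hc.2, hc.1.2⟩), hc.2⟩
  have e2 : (𝐂 U) ⊓ C = (C ⊓ 𝐂 U) ⊓ C := by rw [inf_comm C, inf_assoc, inf_idem]
  rw [relIndex_congr e1, relIndex_congr e2, ← relIndex_mul_relIndex _ (U ⊔ (C ⊓ 𝐂 U)) C le_sup_right
    (sup_le h1 inf_le_left), relIndex_sup_right] at e
  exact relIndex_eq_one.1 (Nat.eq_of_mul_eq_mul_left (Nat.pos_of_ne_zero index_ne_zero_of_finite) (e.trans (mul_one _).symm))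

/-- `Z` is a maximal abelian normal subgroup embedded in a field. -/
structure Cx (Z : Subgroup G) [Z.Normal] (ι : Z →* K) : Prop where
  odd : Odd (Nat.card G)
  inj : Function.Injective ι
  comm : Z ≤ 𝐂 Z
  max : ∀ N : Subgroup G, N.Normal → Z ≤ N → N ≤ (𝐂 N) → N ≤ Z

structure Ex (Z : Subgroup G) [Z.Normal] (E : Subgroup G) : Prop where
  le : Z ≤ E
  le' : E ≤ 𝐂 Z
  ab : E ≤ cz Z E
  self : (𝐂 Z) ⊓ cz Z E ≤ E

theorem Cx.nondeg (h : Cx Z ι) {U : Subgroup G} [U.Normal] (h1 : Z ≤ U) (h2 : U ≤ 𝐂 Z) : U ⊓ (𝐂 U) ≤ Z :=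
  h.max _ inferInstance (le_inf h1 (le_centralizer_iff.1 h2)) (inf_le_right.trans (centralizer_le inf_le_left))

theorem Cx.exists_E (h : Cx Z ι) : ∃ E : Subgroup G, E.Normal ∧ Ex Z E := by
  haveI := FT.odd_order_solvable G h.odd
  obtain ⟨E, -, ⟨hE, e1, e2, e3⟩, hmax⟩ := Finite.exists_le_maximal
    (p := fun E : Subgroup G => E.Normal ∧ Z ≤ E ∧ E ≤ (𝐂 Z) ∧ E ≤ cz Z E) (a := Z) ⟨hZn, le_rfl, h.comm, le_cz _⟩
  refine ⟨E, hE, e1, e2, e3, ?_⟩
  have t := le_sup_cent h.inj (U := E) (C := (𝐂 Z) ⊓ cz Z E) (le_inf e2 e3) inf_le_left inf_le_right (h.nondeg e1 e2)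
  refine t.trans (sup_le le_rfl ?_)
  set D := ((𝐂 Z) ⊓ cz Z E) ⊓ 𝐂 E
  refine Core.solvable_normal_induction (S := D) (fun M => M ≤ E) bot_le fun M hM hMD hM' => ?_
  have t1 : M ≤ 𝐂 E := hMD.trans inf_le_right
  have t2 : M ≤ cz Z M := fun a ha => mem_cz.2 fun b hb =>
    h.nondeg e1 e2 ⟨hM' (commutator_mem_commutator ha hb), t1 (commutator_le_left M M (commutator_mem_commutator ha hb))⟩
  have t3 : M ≤ cz Z E := t1.trans (cent_le_cz _)
  exact le_sup_right.trans (hmax (y := E ⊔ M) ⟨inferInstance, e1.trans le_sup_left,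
    sup_le e2 (hMD.trans (inf_le_left.trans inf_le_left)),
    sup_le (cz_symm (sup_le e3 t3)) (cz_symm (sup_le (cz_symm t3) t2))⟩ le_sup_left)

variable {E : Subgroup G} [E.Normal]

theorem comm_pow {x y : G} (hy : y ∈ 𝐂 Z) (h : ⁅x, y⁆ ∈ Z) (n : ℕ) : ⁅x, y ^ n⁆ = ⁅x, y⁆ ^ n := by
  induction n with
  | zero => simp
  | succ n ih => rw [pow_succ, comm_mul_right (pow_mem hy n) h, ih, pow_succ]

theorem Cx.prime_dvd (h : Cx Z ι) (hE : Ex Z E) {r : ℕ} (hr : r.Prime) (hd : r ∣ Z.relIndex E) : r ∣ Nat.card Z := by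
  haveI := Fact.mk hr
  obtain ⟨y, hy⟩ := exists_prime_orderOf_dvd_card' (G := E ⧸ Z.subgroupOf E) r hd
  obtain ⟨y, rfl⟩ := QuotientGroup.mk_surjective y
  have h1 : y.1 ∉ Z := fun t => hr.ne_one (by rw [← hy, (QuotientGroup.eq_one_iff y).2 t, orderOf_one])
  have h2 : y.1 ^ r ∈ Z := (QuotientGroup.eq_one_iff (N := Z.subgroupOf E) (y ^ r)).1 (by
    rw [QuotientGroup.mk_pow, ← hy, pow_orderOf_eq_one])
  obtain ⟨x, hx, t⟩ : ∃ x ∈ E, x * y ≠ y * x := by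
    by_contra! t; exact h1 (h.nondeg hE.le hE.le' ⟨y.2, t⟩)
  have h3 := mem_cz.1 (hE.ab hx) _ y.2
  have h4 : ⁅x, y.1⁆ ^ r = 1 := by
    rw [← comm_pow (hE.le' y.2) h3]; exact commutatorElement_eq_one_iff_mul_comm.2 (hE.le' hx _ h2).symm
  rw [← orderOf_eq_prime h4 (fun e => t (commutatorElement_eq_one_iff_mul_comm.1 e))]
  exact Z.orderOf_dvd_natCard h3

theorem Cx.isSquare_fix (h : Cx Z ι) (hE : Ex Z E) {g : G} (hg : g ∈ 𝐂 Z) {s : ℕ} (hs : s.Coprime (Z.relIndex E))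
    (hgs : g ^ s ∈ E) : IsSquare (Z.relIndex (E ⊓ cz Z (zpowers g))) := by
  refine isSquare_relIndex h.inj h.comm (le_inf hE.le (le_cz _)) (inf_le_left.trans hE.le')
    (inf_le_left.trans (hE.ab.trans (cz_anti inf_le_left))) fun u hu => h.nondeg hE.le hE.le' ⟨hu.1.1, fun e he => ?_⟩
  have hm : ∀ i : ℕ, g ^ i * e * (g ^ i)⁻¹ ∈ E := fun i => Normal.conj_mem inferInstance _ he _
  let P : ℕ → G := fun n => Nat.rec 1 (fun i p => p * (g ^ i * e * (g ^ i)⁻¹)) n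
  have P1 : ∀ n, P (n + 1) = P n * (g ^ n * e * (g ^ n)⁻¹) := fun _ => rfl
  have P2 : ∀ n, P n ∈ E := fun n => by
    induction n with
    | zero => exact E.one_mem
    | succ n ih => exact E.mul_mem ih (hm n)
  have P3 : ∀ n, e * (g * P n * g⁻¹) = P (n + 1) := fun n => by
    induction n with
    | zero => simp [P]
    | succ n ih => rw [P1 (n + 1)]; nth_rewrite 2 [← ih]; rw [P1, pow_succ']; group
  have c1 : ∀ a ∈ E, ⁅u, a⁆ ∈ Z := fun a ha => mem_cz.1 (hE.ab hu.1.1) a ha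
  have P4 : ∀ n, ⁅u, P n⁆ = ⁅u, e⁆ ^ n := fun n => by
    induction n with
    | zero => simp [P]
    | succ n ih =>
      rw [P1, comm_mul_right (hE.le' (P2 n)) (c1 _ (hm n)), ih, pow_succ]
      congr 1
      have t1 : ⁅(g ^ n)⁻¹, u⁆ ∈ Z := mem_cz.1 (cz_symm (zpowers_le_of_mem hu.1.2) (inv_mem (pow_mem (mem_zpowers g) n))) u
        (mem_zpowers u)
      have t2 := hE.le' he _ t1
      have t3 : ⁅⁅(g ^ n)⁻¹, u⁆ * u, e⁆ = ⁅u, e⁆ := by
        rw [comm_mul_left (h.comm t1) (c1 e he), commutatorElement_eq_one_iff_mul_comm.2 t2, mul_one]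
      have t4 := pow_mem hg n _ (c1 e he)
      rw [show ⁅u, g ^ n * e * (g ^ n)⁻¹⁆ = g ^ n * ⁅⁅(g ^ n)⁻¹, u⁆ * u, e⁆ * (g ^ n)⁻¹ by
        simp only [commutatorElement_def]; group, t3, ← t4]
      group
  have P5 : P s ∈ E ⊓ cz Z (zpowers g) := ⟨P2 s, mem_cz_zpowers (comm_mem_iff.2 (by
    have t := congrArg (QuotientGroup.mk' Z) ((P3 s).trans (P1 s))
    have t1 := comm_mem_iff.1 (mem_cz.1 (hE.ab hgs) e he)
    have t2 := comm_mem_iff.1 (mem_cz.1 (hE.ab (P2 s)) e he)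
    simp only [map_mul, map_inv] at t
    rw [t1, mul_inv_cancel_right, t2, mul_right_inj, mul_inv_eq_iff_eq_mul] at t
    exact t.symm))⟩
  have t1 : ⁅u, e⁆ ^ s = 1 := by rw [← P4]; exact commutatorElement_eq_one_iff_mul_comm.2 (hu.2 _ P5).symm
  have t2 : ⁅u, e⁆ ^ Z.relIndex E = 1 := by
    rw [← comm_pow (hE.le' he) (c1 e he)]
    exact commutatorElement_eq_one_iff_mul_comm.2 (hE.le' hu.1.1 _ (pow_relIndex_mem Z he)).symm
  have := pow_gcd_eq_one.2 ⟨t1, t2⟩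
  rw [hs, pow_one] at this
  exact (commutatorElement_eq_one_iff_mul_comm.1 this).symm

theorem card_map_mk (S : Subgroup G) : Nat.card (S.map (QuotientGroup.mk' Z)) = Z.relIndex S := by
  rw [← relIndex_ker, QuotientGroup.ker_mk']

theorem Cx.cr (h : Cx Z ι) (hE : Ex Z E) (U : Subgroup (G ⧸ Z)) (hU : U.Normal) (hUE : U ≤ E.map (QuotientGroup.mk' Z)) :
    ∃ W : Subgroup (G ⧸ Z), W.Normal ∧ W ≤ E.map (QuotientGroup.mk' Z) ∧ U ⊓ W = ⊥ ∧ E.map (QuotientGroup.mk' Z) ≤ U ⊔ W := by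
  have hs := QuotientGroup.mk'_surjective Z
  set U' := U.comap (QuotientGroup.mk' Z)
  have h1 : Z ≤ U' := fun z hz => by
    show QuotientGroup.mk' Z z ∈ U
    rw [QuotientGroup.mk'_apply, (QuotientGroup.eq_one_iff z).2 hz]; exact U.one_mem
  have h2 : U' ≤ E := (comap_mono hUE).trans (comap_map_eq_self (by simpa using hE.le)).le
  have h3 := h.nondeg h1 (h2.trans hE.le')
  refine ⟨(E ⊓ 𝐂 U').map (QuotientGroup.mk' Z), Normal.map inferInstance _ hs, map_mono inf_le_left, eq_bot_iff.2 ?_, ?_⟩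
  · rintro _ ⟨a, w, hw, rfl⟩
    exact (QuotientGroup.eq_one_iff w).2 (h3 ⟨a, hw.2⟩)
  · rw [← map_comap_eq_self_of_surjective hs U, ← Subgroup.map_sup]
    exact map_mono (le_sup_cent h.inj h2 hE.le' (hE.ab.trans (cz_anti h2)) h3)

theorem Ex.comm (hE : Ex Z E) : ∀ a ∈ E.map (QuotientGroup.mk' Z), ∀ b ∈ E.map (QuotientGroup.mk' Z), a * b = b * a := by
  rintro _ ⟨a, ha, rfl⟩ _ ⟨b, hb, rfl⟩
  exact comm_mem_iff.1 (mem_cz.1 (hE.ab ha) b hb)

theorem Cx.idx_le {n : ℕ} (ih : IH.{u} n) (h : Cx Z ι) (hE : Ex Z E) (hn : Z.relIndex E < n) :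
    E.relIndex (𝐂 Z) ≤ Z.relIndex E ^ 2 := by
  haveI hX := Normal.map ‹E.Normal› _ (QuotientGroup.mk'_surjective Z)
  obtain ⟨x, hx, y, hy, hr⟩ := ih.mul (h.odd.of_dvd_nat (card_quotient_dvd_card Z)) (E.map (QuotientGroup.mk' Z)) hE.comm
    (by rwa [card_map_mk]) (h.cr hE)
  rw [← card_map_mk (Z := Z), sq, ← Nat.card_prod]
  refine Nat.card_le_card_of_injective (fun c : (𝐂 Z) ⧸ E.subgroupOf (𝐂 Z) =>
    ((⟨_, hX.conj_mem x hx (QuotientGroup.mk' Z c.out.1)⟩, ⟨_, hX.conj_mem y hy (QuotientGroup.mk' Z c.out.1)⟩) :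
      E.map (QuotientGroup.mk' Z) × E.map (QuotientGroup.mk' Z))) fun a b e => ?_
  rw [← a.out_eq, ← b.out_eq]
  refine QuotientGroup.eq.2 (hE.self ⟨(a.out⁻¹ * b.out).2, fun t ht => ?_⟩)
  simp only [Prod.mk.injEq, Subtype.mk.injEq] at e
  have key : ∀ p q z : G ⧸ Z, p * z * p⁻¹ = q * z * q⁻¹ → p⁻¹ * q * z * (p⁻¹ * q)⁻¹ = z := fun p q z e => by
    rw [show p⁻¹ * q * z * (p⁻¹ * q)⁻¹ = p⁻¹ * (q * z * q⁻¹) * p by group, ← e]; group
  exact (mul_inv_eq_iff_eq_mul.1 (hr _ (key _ _ _ e.1) (key _ _ _ e.2) t ht)).symm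

theorem small_aux (hG : Odd (Nat.card G)) {X A : Subgroup G} [hX : X.Normal] [hA : A.Normal] {b : ℕ}
    (hb : b = 3 ∨ b = 5 ∨ b = 7 ∨ b = 9) (hc : Nat.card X = b ^ 2) (h1 : X ≤ A) (h2 : X ≤ 𝐂 X) (h3 : A ⊓ (𝐂 X) ≤ X)
    (hcr : ∀ U : Subgroup G, U.Normal → U ≤ X → ∃ W : Subgroup G, W.Normal ∧ W ≤ X ∧ U ⊓ W = ⊥ ∧ X ≤ U ⊔ W)
    (hsq : ∀ g ∈ A, ∀ s : ℕ, s.Coprime (b ^ 2) → g ^ s ∈ X → IsSquare (Nat.card ↥(X ⊓ 𝐂 (zpowers g)))) :
    X.relIndex A ∣ b ^ 2 - 1 := by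
  classical
  obtain ⟨r, hr, k, hk⟩ : ∃ r : ℕ, r.Prime ∧ ∃ k, b = r ^ k := by
    rcases hb with rfl | rfl | rfl | rfl
    exacts [⟨3, by norm_num, 1, rfl⟩, ⟨5, by norm_num, 1, rfl⟩, ⟨7, by norm_num, 1, rfl⟩, ⟨3, by norm_num, 2, rfl⟩]
  haveI := Fact.mk hr
  have hXp : IsPGroup r X := IsPGroup.of_card (n := k * 2) (by rw [hc, hk, pow_mul])
  have c1 : ∀ P : Subgroup G, P.Normal → P ≤ A → IsPGroup r P → P ≤ X := fun P hP hPA hPp => by
    obtain ⟨W, w1, w2, w3, w4⟩ := hcr (X ⊓ 𝐂 P) inferInstance inf_le_left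
    have : W = ⊥ := by_contra fun t => Core.inf_centralizer_ne_bot_of_isPGroup (hXp.to_le w2) hPp le_normalizer_of_normal t
      (eq_bot_iff.2 fun a ha => w3 ▸ ⟨⟨w2 ha.1, ha.2⟩, ha.1⟩)
    rw [this, sup_bot_eq] at w4
    exact (le_inf hPA (le_centralizer_iff.1 (w4.trans inf_le_right))).trans h3
  have c2 : ∀ g ∈ A, g ∉ X → ∀ s : ℕ, s.Prime → s ≠ r → g ^ s ∈ X → ∀ x ∈ X, g * x * g⁻¹ = x → x = 1 :=
      fun g hg hgX s hs hsr hgs x hx e => by
    haveI := Fact.mk hs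
    have co : s.Coprime (b ^ 2) := by rw [hk, ← pow_mul]; exact ((Nat.coprime_primes hs hr).2 hsr).pow_right _
    have mem : ∀ x, g * x * g⁻¹ = x ↔ x ∈ 𝐂 (zpowers g) := fun x => by
      rw [zpowers_eq_closure, centralizer_closure, mem_centralizer_singleton_iff, mul_inv_eq_iff_eq_mul, eq_comm]
    obtain ⟨c, t1⟩ := hsq g hg s co hgs
    have t2 : Nat.card ↥(X ⊓ 𝐂 (zpowers g)) ∣ b ^ 2 := hc ▸ card_dvd_of_le inf_le_left
    have t3 : Nat.card ↥(X ⊓ 𝐂 (zpowers g)) ≠ b ^ 2 := fun t => hgX (h3 ⟨hg, le_centralizer_iff.1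
      ((eq_of_le_of_card_ge inf_le_left (hc.trans t.symm).le).ge.trans inf_le_right) (mem_zpowers g)⟩)
    have t4 := IsPGroup.card_modEq_card_fixedPoints (G := zpowers (MulAut.conjNormal g : MulAut X)) (p := s)
      (Core.isPGroup_zpowers_of_pow_eq_one (k := 1) (by
        ext x
        rw [pow_one, ← map_pow]
        exact mul_inv_eq_iff_eq_mul.2 (h2 hgs _ x.2).symm)) X
    rw [hc, Nat.card_congr
      (show MulAction.fixedPoints (zpowers (MulAut.conjNormal g : MulAut X)) X ≃ ↥(X ⊓ 𝐂 (zpowers g)) from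
        { toFun := fun x => ⟨x.1.1, x.1.2, (mem _).1 (congrArg Subtype.val (x.2 ⟨_, mem_zpowers _⟩))⟩
          invFun := fun x => ⟨⟨x.1, x.2.1⟩, fun a => zpowers_le_of_mem (H := MulAction.stabilizer (MulAut X) (⟨x.1, x.2.1⟩ : X))
            (g := MulAut.conjNormal g) (Subtype.ext ((mem _).2 x.2.2)) a.2⟩
          left_inv := fun _ => rfl
          right_inv := fun _ => rfl })] at t4
    have t5 : s ≠ 2 := fun t => hgX (mem_of_pow_mem hG (k := 1) (by rwa [t] at hgs))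
    have t6 : Nat.card ↥(X ⊓ 𝐂 (zpowers g)) = 1 := by
      rw [t1] at t2 t3 t4 ⊢
      have t7 : c ∣ b := (Nat.pow_dvd_pow_iff two_ne_zero).1 (by rwa [sq c])
      have t8 : c ≠ b := fun t => t3 (by rw [t, sq])
      have b0 : 0 < b := by omega
      have t9 := (Nat.modEq_iff_dvd' (Nat.le_of_dvd (by positivity) t2)).1 t4.symm
      have := Nat.le_of_dvd b0 t7
      rcases hb with rfl | rfl | rfl | rfl <;> interval_cases c <;> first | omega | skip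
      exfalso
      have : s ∣ 2 ^ 3 * 3 ^ 2 := t9
      rcases (Nat.Prime.dvd_mul hs).1 this with t | t
      · exact t5 ((Nat.prime_dvd_prime_iff_eq hs Nat.prime_two).1 (hs.dvd_of_dvd_pow t))
      · exact (Nat.Prime.coprime_iff_not_dvd hs).1 co (t.trans (by norm_num))
    exact mem_bot.1 (card_eq_one.1 t6 ▸ ⟨hx, (mem x).1 e⟩)
  have hs := QuotientGroup.mk'_surjective X
  have hD : Odd (Nat.card (G ⧸ X)) := hG.of_dvd_nat (card_quotient_dvd_card X)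
  set B := A.map (QuotientGroup.mk' X)
  haveI hB : B.Normal := Normal.map hA _ hs
  have hcB : B.comap (QuotientGroup.mk' X) = A := comap_map_eq_self (by simpa using h1)
  set F := fittingOf B
  have hFB : F ≤ B := Core.fittingOf_le B
  haveI : F.Normal := Core.normal_fittingOf B
  have c3 : ∀ g, QuotientGroup.mk' X g ∈ F → g ∉ X → ∀ x ∈ X, g * x * g⁻¹ = x → x = 1 := fun g hg hgX x hx e => by
    have o1 : orderOf (QuotientGroup.mk' X g) ≠ 1 := fun t => hgX ((QuotientGroup.eq_one_iff g).1 (orderOf_eq_one_iff.1 t))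
    obtain ⟨s, hs1, m, hm⟩ := Nat.exists_prime_and_dvd o1
    have o2 : orderOf (QuotientGroup.mk' X (g ^ m)) = s := by
      have : 0 < m := Nat.pos_of_ne_zero fun t => (orderOf_pos _).ne' (by rw [hm, t, mul_zero])
      rw [map_pow, orderOf_pow' _ this.ne', hm, Nat.gcd_eq_right (dvd_mul_left _ _), Nat.mul_div_cancel _ this]
    have o3 : g ^ m ∉ X := fun t => hs1.ne_one (by
      rw [← o2, QuotientGroup.mk'_apply, (QuotientGroup.eq_one_iff _).2 t, orderOf_one])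
    have o4 : QuotientGroup.mk' X (g ^ m) ∈ F := by rw [map_pow]; exact pow_mem hg m
    refine c2 (g ^ m) (hcB ▸ hFB o4) o3 s hs1 (fun t => o3 (c1 ((pCore r (G ⧸ X) ⊓ B).comap (QuotientGroup.mk' X))
      inferInstance ((comap_mono inf_le_right).trans hcB.le) (Core.isPGroup_comap_mk' X hXp ((Core.isPGroup_pCore r _).to_le inf_le_left))
      ⟨Core.le_pCore_of_le_fitting hr (Core.isPGroup_zpowers_of_orderOf (k := 1) (by rw [o2, t, pow_one]))
        (zpowers_le_of_mem (Core.fittingOf_le_fitting B o4)) (mem_zpowers _), hFB o4⟩))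
      ((QuotientGroup.eq_one_iff _).1 (by rw [← QuotientGroup.mk'_apply, map_pow, ← o2, pow_orderOf_eq_one])) x hx ?_
    exact mul_inv_eq_iff_eq_mul.2 (Commute.pow_left (mul_inv_eq_iff_eq_mul.1 e) m)
  have c4 : Nat.card F ∣ b ^ 2 - 1 := by
    have := Clifford.dvd_ncard_of_act (H := F.comap (QuotientGroup.mk' X)) (fun a (x : G) => a.1 * x * a.1⁻¹) (by simp)
      (fun a b x => by simp [mul_assoc]) ((X : Set G) \ {1}) (Set.toFinite _)
      (fun a x hx => ⟨hX.conj_mem x hx.1 a, fun t => hx.2 (by simpa using t)⟩) (X.relIndex (F.comap (QuotientGroup.mk' X)))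
      fun x hx => ⟨X.subgroupOf _, rfl, fun a => ⟨fun t => mul_inv_eq_iff_eq_mul.2 (h2 t x hx.1).symm,
        fun t => by_contra fun t' => hx.2 (c3 a a.2 t' x hx.1 t)⟩⟩
    rwa [← card_map_mk, map_comap_eq_self_of_surjective hs, Set.ncard_diff_singleton_of_mem X.one_mem,
      ← Nat.card_coe_set_eq, show Nat.card (X : Set G) = b ^ 2 from hc] at this
  have c5 : Nat.card F = 1 ∨ Nat.card F = 3 ∨ Nat.card F = 5 := by
    obtain ⟨m, hm⟩ := hD.of_dvd_nat F.card_subgroup_dvd_card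
    rw [hm] at c4 ⊢
    have := Nat.le_of_dvd (by rcases hb with rfl | rfl | rfl | rfl <;> norm_num) c4
    have : m ≤ 40 := by rcases hb with rfl | rfl | rfl | rfl <;> omega
    rcases hb with rfl | rfl | rfl | rfl <;> interval_cases m <;> omega
  haveI : IsCyclic F := by
    rcases c5 with t | t | t
    · haveI := (Nat.card_eq_one_iff_unique.1 t).1; infer_instance
    · exact isCyclic_of_prime_card (hp := ⟨Nat.prime_three⟩) t
    · exact isCyclic_of_prime_card (hp := ⟨Nat.prime_five⟩) t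
  have c6 : Nat.card (MulAut F) ∣ 2 ^ 2 := by
    rw [IsCyclic.card_mulAut]
    rcases c5 with t | t | t <;> rw [t] <;> decide
  haveI := FT.odd_order_solvable B (hD.of_dvd_nat B.card_subgroup_dvd_card)
  have c7 : B ≤ F := fun g hg => Core.inf_centralizer_fittingOf_le B ⟨hg, mem_of_pow_mem hD (k := 2) fun x hx => by
    have : MulAut.conjNormal (H := F) (g ^ 2 ^ 2) = 1 := by
      rw [map_pow]; exact orderOf_dvd_iff_pow_eq_one.1 ((_root_.orderOf_dvd_natCard _).trans c6)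
    exact (mul_inv_eq_iff_eq_mul.1 (congrArg Subtype.val (DFunLike.congr_fun this ⟨x, hx⟩))).symm⟩
  rw [← card_map_mk]
  exact (card_dvd_of_le c7).trans c4

theorem Cx.small (h : Cx Z ι) (hE : Ex Z E) {b : ℕ} (hb : b = 3 ∨ b = 5 ∨ b = 7 ∨ b = 9) (hc : Z.relIndex E = b ^ 2) :
    E.relIndex (𝐂 Z) ∣ b ^ 2 - 1 := by
  have hs := QuotientGroup.mk'_surjective Z
  haveI hX := Normal.map ‹E.Normal› _ hs
  haveI hA := Normal.map (inferInstance : (𝐂 Z).Normal) _ hs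
  have hcE : (E.map (QuotientGroup.mk' Z)).comap (QuotientGroup.mk' Z) = E := comap_map_eq_self (by simpa using hE.le)
  have := small_aux (h.odd.of_dvd_nat (card_quotient_dvd_card Z)) (X := E.map (QuotientGroup.mk' Z))
    (A := (𝐂 Z).map (QuotientGroup.mk' Z)) hb (by rwa [card_map_mk]) (map_mono hE.le') (fun a ha b hb => hE.comm b hb a ha)
    (by rintro _ ⟨⟨a, ha, rfl⟩, t⟩; exact ⟨a, hE.self ⟨ha, t⟩, rfl⟩) (h.cr hE) (by
      rintro _ ⟨g, hg, rfl⟩ s hs hgs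
      have := h.isSquare_fix hE hg (hc ▸ hs) (hcE ▸ (by rwa [← map_pow] at hgs))
      rwa [← card_map_mk, cz, ← hcE, ← comap_inf, map_comap_eq_self_of_surjective (QuotientGroup.mk'_surjective Z),
        MonoidHom.map_zpowers] at this)
  rwa [← relIndex_comap, hcE] at this

end Cfsg.Lib.Block.B2
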