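import Cfsg.Agent.Lib.Block.Base2b
import Cfsg.Agent.Lib.Block.Base2c

/-! # Base size two for odd-order completely reducible linear groups: the primitive case -/

set_option autoImplicit false
set_option linter.unusedSectionVars false
set_option linter.style.haveILetI false

namespace Cfsg.Lib.Block.B2

open Cfsg Cfsg.Lib Subgroup
open scoped commutatorElement

universe u
variable {G V : Type u} [Group G] [Finite G] [AddCommGroup V] [Finite V] [DistribMulAction G V]
  {K : Type*} [Field K] [Finite K] [Module K V] {Z : Subgroup G} [hZn : Z.Normal] {ι : Z →* K} {E : Subgroup G} [E.Normal]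

local notation "𝐂" S => centralizer (SetLike.coe S)

theorem pow18 (b : ℕ) (h : 23 ≤ b) : b ^ 18 ≤ 4 ^ (2 * b - 3) := by
  induction b, h using Nat.le_induction with
  | base => norm_num
  | succ b hb ih =>
    have h1 : (23 * (b + 1)) ^ 18 ≤ (24 * b) ^ 18 := Nat.pow_le_pow_left (by omega) _
    rw [mul_pow, mul_pow] at h1
    rw [show 2 * (b + 1) - 3 = 2 * b - 3 + 2 by omega, pow_add]
    have h2 : 23 ^ 18 * (b + 1) ^ 18 ≤ 23 ^ 18 * (b ^ 18 * 4 ^ 2) :=
      h1.trans (by rw [mul_comm (b ^ 18), ← mul_assoc]; exact Nat.mul_le_mul_right _ (by norm_num))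
    exact (Nat.le_of_mul_le_mul_left h2 (by norm_num)).trans (Nat.mul_le_mul_right _ ih)

theorem numer {z q b a d : ℕ} (z0 : 0 < z) (hz : z + 1 ≤ q) (hb : Odd b) (b5 : 5 ≤ b) (bd : b ≤ d) (ha : a ≤ (b * b) ^ 2)
    (hp : ∀ r : ℕ, r.Prime → r ∣ b * b → r ∣ z) (hs : b = 5 ∨ b = 7 ∨ b = 9 → a ∣ b ^ 2 - 1) (ao : Odd a) :
    (z * (b * b) * a) ^ 3 < (q ^ d) ^ 2 := by
  have fin : q ^ (2 * b) ≤ (q ^ d) ^ 2 := by rw [← pow_mul]; exact Nat.pow_le_pow_right (by omega) (by omega)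
  have gen : ∀ q0 a0, q0 ≤ q → a ≤ a0 → (b * b * a0) ^ 3 ≤ q0 ^ (2 * b - 3) → (z * (b * b) * a) ^ 3 < (q ^ d) ^ 2 := fun q0 a0 h1 h2 h3 => by
    refine lt_of_lt_of_le ?_ fin
    rw [show 2 * b = 3 + (2 * b - 3) by omega, pow_add, mul_assoc, mul_pow]
    exact Nat.mul_lt_mul_of_lt_of_le (Nat.pow_lt_pow_left (by omega) three_ne_zero)
      ((Nat.pow_le_pow_left (Nat.mul_le_mul_left _ h2) 3).trans (h3.trans (Nat.pow_le_pow_left h1 _))) (by
        have : 0 < q := by omega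
        positivity)
  have hp' : ∀ r : ℕ, r.Prime → r ∣ b → r ∣ z := fun r h1 h2 => hp r h1 (h2.mul_right _)
  have sm : ∀ n, 0 < n → a ∣ n → a ≤ n := fun n h1 h2 => Nat.le_of_dvd h1 h2
  obtain ⟨c, rfl⟩ := ao
  by_cases h23 : 23 ≤ b
  · obtain ⟨r, hr, t⟩ := Nat.exists_prime_and_dvd (n := b) (by omega)
    have := Nat.le_of_dvd z0 (hp' r hr t)
    have := hr.two_le
    have : r ≠ 2 := by rintro rfl; exact (Nat.not_even_iff_odd.2 hb) (even_iff_two_dvd.2 t)
    exact gen 4 _ (by omega) ha (by convert pow18 b h23 using 1; ring)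
  have p3 := hp' 3 (by norm_num)
  have p5 := hp' 5 (by norm_num)
  have p7 := hp' 7 (by norm_num)
  have p11 := hp' 11 (by norm_num)
  have p13 := hp' 13 (by norm_num)
  have p17 := hp' 17 (by norm_num)
  have p19 := hp' 19 (by norm_num)
  obtain ⟨k, rfl⟩ := hb
  have : 2 ≤ k := by omega
  have : k ≤ 10 := by omega
  interval_cases k
  · have t := hs (by norm_num)
    have := sm _ (by norm_num) t
    have : c ≤ 11 := by omega
    have : 2 * c + 1 ≤ 3 := by interval_cases c <;> omega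
    by_cases z5 : z = 5
    · subst z5
      refine lt_of_lt_of_le ?_ fin
      calc _ ≤ (5 * (5 * 5) * 3) ^ 3 := Nat.pow_le_pow_left (Nat.mul_le_mul_left _ this) 3
        _ < 6 ^ 10 := by norm_num
        _ ≤ _ := Nat.pow_le_pow_left hz _
    · exact gen 7 3 (by omega) this (by norm_num)
  · have t := hs (by norm_num)
    have := sm _ (by norm_num) t
    have : c ≤ 23 := by omega
    exact gen 8 3 (by omega) (by interval_cases c <;> omega) (by norm_num)
  · have t := hs (by norm_num)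
    have := sm _ (by norm_num) t
    have : c ≤ 39 := by omega
    exact gen 4 5 (by omega) (by interval_cases c <;> omega) (by norm_num)
  · exact gen 11 _ (by omega) ha (by norm_num)
  · exact gen 13 _ (by omega) ha (by norm_num)
  · exact gen 15 _ (by omega) ha (by norm_num)
  · exact gen 17 _ (by omega) ha (by norm_num)
  · exact gen 19 _ (by omega) ha (by norm_num)
  · exact gen 21 _ (by omega) ha (by norm_num)

variable (V) in
def fx (g : G) : AddSubgroup V where
  carrier := {v | g • v = v}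
  zero_mem' := smul_zero g
  add_mem' := fun {a b} ha hb => by show _ = _; rw [smul_add, ha, hb]
  neg_mem' := fun {a} ha => by show _ = _; rw [smul_neg, ha]

theorem fx_sq (g x : G) : Nat.card (fx V g) ^ 2 ≤ Nat.card V * Nat.card (fx V ⁅x, g⁆) := by
  let φ : fx V g × fx V g →+ V :=
    { toFun p := p.1.1 - x • p.2.1
      map_zero' := by simp
      map_add' a b := by simp only [Prod.fst_add, Prod.snd_add, AddSubgroup.coe_add, smul_add]; abel }
  rw [sq, ← Nat.card_prod, ← φ.ker.index_mul_card, AddSubgroup.index_ker]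
  refine Nat.mul_le_mul (Nat.card_le_card_of_injective _ φ.range.subtype_injective) (Nat.card_le_card_of_injective
    (fun p : φ.ker => (⟨p.1.1.1, ?_⟩ : fx V ⁅x, g⁆)) fun a b e => ?_)
  · have h1 : p.1.1.1 = x • p.1.2.1 := sub_eq_zero.1 p.2
    have h2 : g⁻¹ • p.1.1.1 = p.1.1.1 := inv_smul_eq_iff.2 (Eq.symm p.1.1.2)
    show ⁅x, g⁆ • p.1.1.1 = p.1.1.1
    rw [commutatorElement_def, mul_smul, h2, h1, mul_smul, inv_smul_smul, mul_smul, show g • p.1.2.1 = _ from p.1.2.2]
  · have h1 : a.1.1.1 = x • a.1.2.1 := sub_eq_zero.1 a.2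
    have h2 : b.1.1.1 = x • b.1.2.1 := sub_eq_zero.1 b.2
    have h3 : a.1.1.1 = b.1.1.1 := Subtype.mk.inj e
    exact Subtype.ext (Prod.ext (Subtype.ext h3) (Subtype.ext (smul_left_cancel x (h1.symm.trans (h3.trans h2)))))

variable (V) in
structure Lx (Z : Subgroup G) (ι : Z →* K) : Prop where
  faith : ∀ g : G, (∀ v : V, g • v = v) → g = 1
  smul : ∀ (z : Z) (v : V), (z : G) • v = ι z • v
  lin : ∀ a ∈ 𝐂 Z, ∀ (k : K) (v : V), a • k • v = k • a • v

theorem Lx.ne_one (h : Lx V Z ι) {z : Z} (hz : z ≠ 1) : ι z ≠ 1 := fun e =>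
  hz (Subtype.ext (h.faith _ fun v => by rw [h.smul, e, one_smul]))

theorem Lx.inj (h : Lx V Z ι) : Function.Injective ι := (injective_iff_map_eq_one ι).2 fun _ e => by_contra fun t => h.ne_one t e

theorem Lx.fpf (h : Lx V Z ι) {z : G} (hz : z ∈ Z) (h1 : z ≠ 1) {v : V} (hv : z • v = v) : v = 0 := by
  have : (ι ⟨z, hz⟩ - 1) • v = 0 := by rw [sub_smul, ← h.smul, one_smul, sub_eq_zero]; exact hv
  exact (smul_eq_zero.1 this).resolve_left (sub_ne_zero.2 (h.ne_one fun e => h1 (congrArg Subtype.val e)))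

theorem Lx.fx_sq (h : Lx V Z ι) {g x : G} (h1 : ⁅x, g⁆ ∈ Z) (h2 : x * g ≠ g * x) : Nat.card (fx V g) ^ 2 ≤ Nat.card V := by
  have : fx V ⁅x, g⁆ = ⊥ := eq_bot_iff.2 fun v hv => h.fpf h1 (fun e => h2 (commutatorElement_eq_one_iff_mul_comm.1 e)) hv
  simpa [this] using B2.fx_sq (V := V) g x

theorem Lx.fx_cube (h : Lx V Z ι) (hG : Odd (Nat.card G)) {x y : G} (hx : x ∈ 𝐂 Z) (hy : y ∈ 𝐂 Z) (h1 : ⁅y, x⁆ ∈ Z)
    (h2 : y * x ≠ x * y) : Nat.card (fx V y) ^ 3 ≤ Nat.card V := by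
  set u := ι ⟨_, h1⟩ with hu
  have n1 : (⟨_, h1⟩ : Z) ≠ 1 := fun e => h2 (commutatorElement_eq_one_iff_mul_comm.1 (congrArg Subtype.val e))
  have u1 : u - 1 ≠ 0 := sub_ne_zero.2 (h.ne_one n1)
  have u0 : u ≠ 0 := ((Group.isUnit _).map ι).ne_zero
  have u2 : u + 1 ≠ 0 := fun e => h.ne_one (z := ⟨_, h1⟩ ^ 2 ^ 1)
    (fun t => n1 (mem_bot.1 (mem_of_pow_mem (hG.of_dvd_nat Z.card_subgroup_dvd_card) (mem_bot.2 t))))
    (by rw [map_pow, ← hu]; linear_combination (u - 1) * e)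
  have s1 : ∀ v : V, y • x • v = u • x • y • v := fun v => by
    rw [hu, ← h.smul, ← mul_smul, ← mul_smul, ← mul_smul]; congr 1; simp [commutatorElement_def]
  let φ : fx V y × fx V y × fx V y →+ V :=
    { toFun p := p.1.1 + x • p.2.1.1 + x • x • p.2.2.1
      map_zero' := by simp
      map_add' a b := by simp only [Prod.fst_add, Prod.snd_add, AddSubgroup.coe_add, smul_add]; abel }
  rw [pow_succ', sq, ← Nat.card_prod, ← Nat.card_prod]
  refine Nat.card_le_card_of_injective φ ((injective_iff_map_eq_zero φ).2 fun ⟨⟨a, ha⟩, ⟨b, hb⟩, ⟨c, hc⟩⟩ e1 => ?_)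
  replace e1 : a + x • b + x • x • c = 0 := e1
  replace ha : y • a = a := ha
  have hb' : y • x • b = u • x • b := by rw [s1, show y • b = b from hb]
  have hc' : y • x • x • c = u • u • x • x • c := by rw [s1, s1, show y • c = c from hc, h.lin x hx]
  have e2 := congrArg (fun v => y • v) e1
  simp only [smul_add, smul_zero, ha, hb', hc'] at e2
  have e3 := congrArg (fun v => y • v) e2
  simp only [smul_add, smul_zero, ha, h.lin y hy, hb', hc'] at e3
  have t1 : (u * (u - 1) ^ 2 * (u + 1)) • x • x • c = 0 := by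
    generalize x • x • c = c', x • b = b' at *
    linear_combination (norm := module) e3 - (u + 1) • e2 + u • e1
  have t2 := (smul_eq_zero.1 t1).resolve_left (by simp [u0, u1, u2])
  rw [t2] at e1 e2
  have t3 : (u - 1) • x • b = 0 := by
    generalize x • b = b' at *
    linear_combination (norm := module) e2 - e1
  have t4 := (smul_eq_zero.1 t3).resolve_left u1
  rw [t4, add_zero, add_zero] at e1
  simp only [smul_eq_zero_iff_eq] at t2 t4
  simp [e1, t2, t4]

theorem Lx.dim [Nontrivial V] (h : Lx V Z ι) (hc : Cx Z ι) (hE : Ex Z E) : Z.relIndex E ≤ Module.finrank K V ^ 2 := by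
  classical
  set I := E ⧸ Z.subgroupOf E
  haveI := Fintype.ofFinite I
  let T : I → (V →ₗ[K] V) := fun i =>
    { toFun v := i.out.1 • v
      map_add' := smul_add _
      map_smul' := h.lin _ (hE.le' i.out.2) }
  have h1 : Function.Injective fun i : I => chi ι hE.le' i.out.1 (hE.ab i.out.2) := fun a b e => by
    rw [← a.out_eq, ← b.out_eq]
    exact QuotientGroup.eq.2 (hc.nondeg hE.le hE.le' ⟨(a.out⁻¹ * b.out).2, chi_inj hc.inj hE.le' _ _ e⟩)
  have h2 := Fintype.linearIndependent_iff.1 ((linearIndependent_monoidHom E K).comp _ h1)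
  have h3 : LinearIndependent K T := Fintype.linearIndependent_iff.2 fun c e i => by
    obtain ⟨v, hv⟩ := exists_ne (0 : V)
    have t : ∀ φ : Module.Dual K V, φ (c i • (i.out.1 • v)) = 0 := fun φ => by
      refine h2 (fun i => φ (c i • (i.out.1 • v))) (funext fun x => ?_) i
      have t1 := DFunLike.congr_fun e (x.1 • v)
      have t2 : ∀ j : I, (c j • T j) (x.1 • v) = x.1 • (chi ι hE.le' j.out.1 (hE.ab j.out.2) x • c j • (j.out.1 • v)) := fun j => by
        rw [h.lin _ (hE.le' x.2), h.lin _ (hE.le' x.2), smul_comm]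
        show c j • (j.out.1 • x.1 • v) = c j • ι _ • _
        rw [← h.smul, ← mul_smul, ← mul_smul, ← mul_smul]; congr 2; simp [commutatorElement_def]
      rw [LinearMap.sum_apply, Finset.sum_congr rfl fun j _ => t2 j, ← Finset.smul_sum, LinearMap.zero_apply,
        smul_eq_zero_iff_eq] at t1
      have t3 := congrArg φ t1
      rw [map_sum, map_zero] at t3
      rw [Finset.sum_apply, Pi.zero_apply, ← t3]
      exact Finset.sum_congr rfl fun j _ => by rw [map_smul φ (chi _ _ _ _ _), smul_eq_mul, mul_comm]; rfl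
    exact (smul_eq_zero.1 ((Module.forall_dual_apply_eq_zero_iff K _).1 t)).resolve_right
      (fun t => hv ((smul_eq_zero_iff_eq _).1 t))
  have := h3.fintype_card_le_finrank
  rwa [Module.finrank_linearMap, ← sq, ← Nat.card_eq_fintype_card] at this

theorem count (hG : Odd (Nat.card G)) (h : ∀ v w : V, ∃ g ∉ Z, g • v = v ∧ g • w = w) {A : Subgroup G} {m : ℕ}
    (h1 : ∀ g ∈ A, g ∉ Z → Nat.card (fx V g) ^ 2 ≤ m) (h2 : ∀ g ∉ A, Nat.card (fx V g) ^ 2 ≤ Nat.card V) :
    2 * Nat.card V ^ 2 ≤ Nat.card A * m + Nat.card G * Nat.card V := by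
  classical
  haveI := Fintype.ofFinite G
  haveI := Fintype.ofFinite V
  calc 2 * Nat.card V ^ 2 = ∑ p : V × V, 2 := by simp [sq, mul_comm]
    _ ≤ ∑ p : V × V, ∑ g : G, if g ∉ Z ∧ g • p.1 = p.1 ∧ g • p.2 = p.2 then 1 else 0 := Finset.sum_le_sum fun p _ => by
      obtain ⟨g, a1, a2, a3⟩ := h p.1 p.2
      rw [← Finset.card_filter]
      refine Finset.one_lt_card.2 ⟨g, by simp [a1, a2, a3], g⁻¹, by simp [a1, inv_smul_eq_iff, a2, a3], fun e => a1 ?_⟩
      exact mem_of_pow_mem hG (k := 1) (by rw [pow_one, sq]; nth_rewrite 2 [e]; simp)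
    _ ≤ ∑ g : G, ((if g ∈ A then m else 0) + Nat.card V) := by
      rw [Finset.sum_comm]
      refine Finset.sum_le_sum fun g _ => ?_
      by_cases hg : g ∈ Z
      · simp [hg]
      have : ∑ p : V × V, (if g ∉ Z ∧ g • p.1 = p.1 ∧ g • p.2 = p.2 then 1 else 0) = Nat.card (fx V g) ^ 2 := by
        rw [← Finset.card_filter, sq, ← Nat.card_prod, ← Nat.card_eq_finsetCard]
        exact Nat.card_congr
          { toFun := fun p => (⟨p.1.1, (Finset.mem_filter.1 p.2).2.2.1⟩, ⟨p.1.2, (Finset.mem_filter.1 p.2).2.2.2⟩)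
            invFun := fun p => ⟨(p.1.1, p.2.1), Finset.mem_filter.2 ⟨Finset.mem_univ _, hg, p.1.2, p.2.2⟩⟩
            left_inv := fun _ => rfl
            right_inv := fun _ => rfl }
      rw [this]
      split_ifs with t
      · exact (h1 g t hg).trans (Nat.le_add_right _ _)
      · simpa using h2 g t
    _ = _ := by
      rw [Finset.sum_add_distrib, ← Finset.sum_filter]
      simp [Nat.card_eq_fintype_card, Fintype.card_subtype]

theorem prim [Nontrivial V] (ih : IH.{u} (Nat.card V)) (hc : Cx Z ι) (h : Lx V Z ι) : Base G V := by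
  classical
  obtain ⟨E, hEn, hE⟩ := hc.exists_E
  haveI := isCyclic_of_injective_ringHom ι hc.inj
  obtain ⟨z0, hz0⟩ := IsCyclic.exists_generator (α := Z)
  have cen : ∀ g : G, g * z0 * g⁻¹ = z0 → g ∈ 𝐂 Z := fun g e z hz => by
    obtain ⟨k, t⟩ := hz0 ⟨z, hz⟩
    obtain rfl : z0.1 ^ k = z := congrArg Subtype.val t
    exact (Commute.zpow_right (mul_inv_eq_iff_eq_mul.1 e) k).symm
  by_cases hEZ : E ≤ Z
  · obtain ⟨v, hv⟩ := exists_ne (0 : V)
    refine ⟨v, z0.1 • v, fun g e1 e2 x => ?_⟩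
    have t1 : z0.1⁻¹ * (g * z0 * g⁻¹) = 1 := by_contra fun t => hv (h.fpf (Z.mul_mem (Z.inv_mem z0.2) (hZn.conj_mem _ z0.2 g)) t
      (by rw [mul_smul, mul_smul, mul_smul, inv_smul_eq_iff.2 e1.symm, e2, inv_smul_smul]))
    have t2 : g ∈ Z := hEZ (hE.self ⟨cen g (inv_mul_eq_one.1 t1).symm, cz_symm (S := E) (T := ⊤) (hEZ.trans (le_cz _)) trivial⟩)
    rw [(by_contra fun t => hv (h.fpf t2 t e1) : g = 1), one_smul]
  by_contra hb
  obtain ⟨e0, he0, he0'⟩ := SetLike.not_le_iff_exists.1 hEZ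
  have H1 : ∀ v w : V, ∃ g ∉ Z, g • v = v ∧ g • w = w := fun v w => by
    simp only [Base, Reg, not_exists, not_forall] at hb
    obtain ⟨g, a1, a2, x, a3⟩ := hb v w
    by_cases hg : g ∈ Z
    · have : g ≠ 1 := fun t => a3 (by simp [t])
      exact ⟨e0, he0', by simp [h.fpf hg this a1], by simp [h.fpf hg this a2]⟩
    · exact ⟨g, hg, a1, a2⟩
  have H2 : ∀ g ∉ 𝐂 Z, Nat.card (fx V g) ^ 2 ≤ Nat.card V := fun g hg => by
    simp only [mem_centralizer_iff, not_forall] at hg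
    obtain ⟨z, hz, t⟩ := hg
    exact h.fx_sq (mem_cz.1 (le_cz ⊤ hz) g trivial) t
  have H3 : ∀ g ∈ E, g ∉ Z → ∃ x ∈ E, x * g ≠ g * x := fun g hg hg' => by
    by_contra! t; exact hg' (hc.nondeg hE.le hE.le' ⟨hg, t⟩)
  have H4 : ∀ g ∈ E, g ∉ Z → Nat.card (fx V g) ^ 2 ≤ Nat.card V := fun g hg hg' => by
    obtain ⟨x, hx, t⟩ := H3 g hg hg'
    exact h.fx_sq (mem_cz.1 (hE.ab hx) g hg) t
  have H5 : ∀ g ∈ 𝐂 Z, g ∉ Z → (Nat.card (fx V g) ^ 2) ^ 3 ≤ Nat.card V ^ 4 := fun g hg hg' => by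
    by_cases t : g ∈ E
    · exact (Nat.pow_le_pow_left (H4 g t hg') 3).trans (Nat.pow_le_pow_right Nat.card_pos (by norm_num))
    obtain ⟨e, he, t1⟩ : ∃ e ∈ E, ⁅e, g⁆ ∉ Z := by
      by_contra! t1
      exact t (hE.self ⟨hg, mem_cz.2 fun s hs => comm_mem_iff.2 (comm_mem_iff.1 (t1 s hs)).symm⟩)
    have t2 : ⁅e, g⁆ ∈ E := commutator_le_left E ⊤ (commutator_mem_commutator he trivial)
    obtain ⟨x, hx, t3⟩ := H3 _ t2 t1
    have := h.fx_cube hc.odd (hE.le' hx) (hE.le' t2) (mem_cz.1 (hE.ab t2) x hx) t3.symm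
    refine (Nat.pow_le_pow_left (B2.fx_sq g e) 3).trans ?_
    rw [mul_pow, pow_succ _ 3]; exact Nat.mul_le_mul_left _ this
  obtain ⟨b, hb2⟩ := isSquare_relIndex hc.inj hc.comm hE.le hE.le' hE.ab (hc.nondeg hE.le hE.le')
  have hAo : Odd (Nat.card (𝐂 Z)) := hc.odd.of_dvd_nat (card_subgroup_dvd_card _)
  have hA : Nat.card (𝐂 Z) = Nat.card Z * (b * b) * E.relIndex (𝐂 Z) := by
    rw [← hb2, mul_assoc, relIndex_mul_relIndex _ _ _ hE.le hE.le', ← relIndex_bot_left, ← relIndex_bot_left,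
      relIndex_mul_relIndex _ _ _ bot_le hc.comm]
  have bo : Odd b := hAo.of_dvd_nat (hA ▸ ((dvd_mul_left b b).mul_left _).mul_right _)
  have ao : Odd (E.relIndex (𝐂 Z)) := hAo.of_dvd_nat (hA ▸ dvd_mul_left _ _)
  have b1 : b ≠ 1 := fun t => hEZ (relIndex_eq_one.1 (by rw [hb2, t]))
  have bd : b ≤ Module.finrank K V := by
    have := h.dim hc hE
    rw [hb2, ← sq] at this
    exact (Nat.pow_le_pow_iff_left two_ne_zero).1 this
  have hN : Nat.card V = Nat.card K ^ Module.finrank K V := Module.natCard_eq_pow_finrank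
  have hq : Nat.card Z + 1 ≤ Nat.card K := by
    haveI := Fintype.ofFinite Z
    haveI := Fintype.ofFinite K
    rw [Nat.card_eq_fintype_card, Nat.card_eq_fintype_card]
    refine Fintype.card_lt_of_injective_of_notMem ι hc.inj (b := 0) ?_
    rintro ⟨z, hz⟩; exact ((Group.isUnit z).map ι).ne_zero hz
  have hGA : Nat.card G ≤ Nat.card Z * Nat.card (𝐂 Z) := by
    rw [← (𝐂 Z).index_mul_card]
    refine Nat.mul_le_mul_right _ (Nat.card_le_card_of_injective
      (fun c : G ⧸ 𝐂 Z => (⟨_, hZn.conj_mem _ z0.2 c.out⟩ : Z)) fun a b e => ?_)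
    rw [← a.out_eq, ← b.out_eq]
    refine QuotientGroup.eq.2 (cen _ ?_)
    rw [show a.out⁻¹ * b.out * z0 * (a.out⁻¹ * b.out)⁻¹ = a.out⁻¹ * (b.out * z0 * b.out⁻¹) * a.out by group, ← Subtype.mk.inj e]
    group
  have hp : ∀ r : ℕ, r.Prime → r ∣ b * b → r ∣ Nat.card Z := fun r h1 h2 => hc.prime_dvd hE h1 (hb2 ▸ h2)
  have hs := fun hb => hc.small hE (b := b) hb (by rw [hb2, sq])
  have z0 : 0 < Nat.card Z := Nat.card_pos
  have N0 : 0 < Nat.card V := Nat.card_pos
  have b3 : 3 ≤ b := by obtain ⟨k, rfl⟩ := bo; omega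
  have z3 : 3 ≤ Nat.card Z := by
    obtain ⟨r, hr, t⟩ := Nat.exists_prime_and_dvd b1
    have := Nat.le_of_dvd z0 (hp r hr (t.mul_right _))
    have := hr.two_le
    have : r ≠ 2 := by rintro rfl; exact (Nat.not_even_iff_odd.2 bo) (even_iff_two_dvd.2 t)
    omega
  have hN3 : (Nat.card Z + 1) ^ 3 ≤ Nat.card V :=
    hN ▸ (Nat.pow_le_pow_left hq 3).trans (Nat.pow_le_pow_right (by omega) (b3.trans bd))
  by_cases t : b = 3
  · subst t
    have a1 : E.relIndex (𝐂 Z) = 1 := by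
      have t := hs (Or.inl rfl)
      have := Nat.le_of_dvd (by norm_num) t
      obtain ⟨c, hc⟩ := ao
      rw [hc] at t this ⊢
      have : c ≤ 3 := by omega
      interval_cases c <;> omega
    have := count hc.odd H1 (fun g hg => H4 g (relIndex_eq_one.1 a1 hg)) H2
    rw [a1] at hA
    rw [sq, ← mul_assoc, ← add_mul] at this
    have := Nat.le_of_mul_le_mul_right this N0
    rw [hA] at this hGA
    generalize Nat.card Z = z at *
    have h1 : 2 * (z + 1) ^ 3 ≤ (z + 1) * (9 * z) := by nlinarith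
    have h2 : (z + 1) * (2 * (z + 1) ^ 2) ≤ (z + 1) * (9 * z) := by nlinarith
    have := Nat.le_of_mul_le_mul_left h2 (by omega)
    nlinarith
  have b5 : 5 ≤ b := by obtain ⟨k, rfl⟩ := bo; omega
  have lt : Z.relIndex E < Nat.card V := by
    have t1 : ∀ n, n * n < 4 ^ n := fun n => by
      have := Nat.lt_two_pow_self (n := n)
      rw [show 4 = 2 * 2 from rfl, mul_pow]; exact Nat.mul_lt_mul'' this this
    rw [hb2, hN]
    exact (t1 b).trans_le ((Nat.pow_le_pow_left (by omega) b).trans (Nat.pow_le_pow_right (by omega) bd))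
  have key := numer z0 hq bo b5 bd (hb2 ▸ hc.idx_le ih hE lt) hp (fun t => hs (Or.inr t)) ao
  rw [← hA, ← hN] at key
  set m := Nat.nthRoot 3 (Nat.card V ^ 4)
  have c1 := count hc.odd H1 (m := m) (fun g h1 h2 => (Nat.le_nthRoot_iff three_ne_zero).2 (H5 g h1 h2)) H2
  have c2 : Nat.card Z * Nat.card V ≤ m := (Nat.le_nthRoot_iff three_ne_zero).2 (by
    rw [mul_pow, pow_succ' _ 3]
    exact Nat.mul_le_mul_right _ ((Nat.pow_le_pow_left (Nat.le_succ _) 3).trans hN3))
  have c3 : m ^ 3 ≤ Nat.card V ^ 4 := Nat.pow_nthRoot_le (Or.inl three_ne_zero)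
  have c4 : Nat.card V ^ 2 ≤ Nat.card (𝐂 Z) * m := by
    have : Nat.card G * Nat.card V ≤ Nat.card (𝐂 Z) * m :=
      (Nat.mul_le_mul_right _ hGA).trans (by rw [mul_comm (Nat.card Z), mul_assoc]; exact Nat.mul_le_mul_left _ c2)
    omega
  have c5 := Nat.pow_le_pow_left c4 3
  rw [mul_pow] at c5
  have c6 := c5.trans_lt (Nat.mul_lt_mul_of_lt_of_le key c3 (by positivity))
  rw [← pow_mul, ← pow_add] at c6
  exact lt_irrefl _ c6

theorem ih_all (n : ℕ) : IH.{u} n := by
  induction n with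
  | zero => intro G V _ _ _ _ _ _ h; omega
  | succ n ih =>
  intro G V _ _ _ _ _ hG hn hcr
  by_cases t : Nat.card V < n
  · exact ih G V hG t hcr
  obtain rfl : n = Nat.card V := by omega
  by_cases hi : Irr G V
  swap
  · exact base_of_not_irr ih hG hcr hi
  rcases subsingleton_or_nontrivial V with _ | _
  · exact ⟨0, 0, fun _ _ _ _ => Subsingleton.elim _ _⟩
  set φ := DistribMulAction.toModuleAut ℤ V (S := G)
  haveI : Finite φ.range := Finite.of_surjective _ φ.rangeRestrict_surjective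
  suffices Base φ.range V by
    obtain ⟨v, w, h⟩ := this
    exact ⟨v, w, fun g => h (φ.rangeRestrict g)⟩
  have hG' : Odd (Nat.card φ.range) := hG.of_dvd_nat (card_dvd_of_surjective _ φ.rangeRestrict_surjective)
  have hi' : Irr φ.range V := fun U hU => hi U fun a => hU (φ.rangeRestrict a)
  obtain ⟨Z, -, ⟨hZ, hZ'⟩, hmax⟩ := Finite.exists_le_maximal
    (p := fun Z : Subgroup φ.range => Z.Normal ∧ Z ≤ 𝐂 Z) (a := ⊥) ⟨inferInstance, bot_le⟩
  refine (base_or_field ih hG' hi' hZ').elim id fun hK => ?_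
  letI := hK.toField
  haveI : Finite (AddMonoid.End V) := DFunLike.finite (V →+ V)
  let ι : Z →* KK V Z := ((DistribMulAction.toAddMonoidEnd φ.range V).comp Z.subtype).codRestrict (KK V Z)
    fun z => Subring.subset_closure ⟨z, rfl⟩
  have hL : Lx V Z ι := ⟨fun g hg => Subtype.ext (LinearEquiv.ext hg), fun _ _ => rfl,
    fun a ha k v => DFunLike.congr_fun (KK_cent ha k.2) v⟩
  exact prim ih ⟨hG', hL.inj, hZ', fun N h1 h2 h3 => hmax ⟨h1, h3⟩ h2⟩ hL

end Cfsg.Lib.Block.B2
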