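import Cfsg.Agent.Lib.Gsm.Main
import Cfsg.Agent.Lib.U3.Even
import Cfsg.Agent.Lib.Forms.Bridge

/-! Groups with a Sylow `2`-subgroup of type `U₃(2ⁿ)`: the `2`-group and the almost simple case. -/

set_option autoImplicit false
set_option linter.unusedSectionVars false

namespace Cfsg.Lib.Block.Col
open Subgroup Cfsg.Lib.Core Cfsg.Lib.BG1 Cfsg.Lib.Invol Cfsg.Lib.Layer Cfsg.Lib.Gold Cfsg.Lib.Gsm
open Cfsg.Lib.Amalg hiding le_cent_symm op_top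
open Cfsg.Lib.GW hiding Ctx
open scoped Cfsg.Lib.Wal commutatorElement
open Cfsg.Lib.BS (RO R2 Q0g Wg Kg Dg Vg C3 Good Q0g_le mem_Q0g_of Wg_le Kg_le)

universe u

theorem map_mem_su {F K : Type*} [Field F] [Field K] {n q : ℕ} (f : F ≃+* K) {g : Matrix.SpecialLinearGroup (Fin n) F}
    (hg : g ∈ SU n F q) : Linear.slMapEquiv (Fin n) f g ∈ SU n K q := fun u v => by
  have := congrArg f (hg (f.symm ∘ u) (f.symm ∘ v))
  simpa [hermForm, Matrix.mulVec, dotProduct, slToMat] using this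

/-- Unitary groups over isomorphic fields. -/
def psuMap {F K : Type*} [Field F] [Field K] (n q : ℕ) (f : F ≃+* K) : PSU n F q ≃* PSU n K q :=
  Linear.quotientCenterCongr (Forms.subgroupEquivOfIff (Linear.slMapEquiv (Fin n) f) _ _ fun g =>
    ⟨map_mem_su f, fun h => (Linear.slMapEquiv (Fin n) f).symm_apply_apply g ▸ map_mem_su f.symm h⟩)

variable {G : Type u} [Group G] [Finite G] {S Z B E L R : Subgroup G} {q : ℕ} {x y z : G}

/-- the properties of a Sylow 2-subgroup `S` of `U₃(q)` with centre `Z` -/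
structure US (S Z : Subgroup G) (q : ℕ) : Prop where
  le : Z ≤ S
  mem : ∀ x ∈ S, x ∈ Z ↔ x * x = 1
  cen : ∀ z ∈ Z, ∀ x ∈ S, Commute z x
  sq : ∀ x ∈ S, x * x ∈ Z
  com : ∀ x ∈ S, ∀ y ∈ S, x * y * x⁻¹ * y⁻¹ ∈ Z
  surj : ∀ x ∈ S, x ∉ Z → ∀ z ∈ Z, ∃ y ∈ S, x * y * x⁻¹ * y⁻¹ = z
  ab : ∀ x ∈ S, x ∉ Z → ∀ y ∈ S, ∀ w ∈ S, Commute x y → Commute x w → Commute y w
  cZ : Nat.card Z = q
  cS : Nat.card S = q ^ 3

theorem us_of_heis {F : Type*} [Field F] {σ : F →+* F} {n : ℕ} (c : Forms.IsConj σ (2 ^ n)) (ι : U3.Heis c →* G)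
    (hι : Function.Injective ι) : US ι.range ((center _).map ι) (2 ^ n) := by
  have h2 := U3.two_eq_zero c rfl
  have m : ∀ x : U3.Heis c, ι x ∈ (center _).map ι ↔ x.a = 0 := fun x =>
    (mem_map_iff_mem hι).trans U3.Heis.mem_center
  have k : ∀ x y : U3.Heis c, Commute (ι x) (ι y) ↔ σ x.a * y.a = σ y.a * x.a := fun x y => by
    rw [← U3.Heis.commute_iff, Commute, SemiconjBy, ← map_mul, ← map_mul, hι.eq_iff]
  refine ⟨map_le_range _ _, ?_, ?_, ?_, ?_, ?_, ?_, ?_, ?_⟩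
  · rintro _ ⟨x, rfl⟩
    rw [m, ← map_mul, map_eq_one_iff _ hι, U3.Heis.mul_self_eq_one h2]
  · rintro _ ⟨z, hz, rfl⟩ _ ⟨x, rfl⟩
    exact (show Commute z x from (mem_center_iff.1 hz x).symm).map ι
  · rintro _ ⟨x, rfl⟩
    rw [← map_mul, m, U3.Heis.mul_self_a h2]
  · rintro _ ⟨x, rfl⟩ _ ⟨y, rfl⟩
    rw [← map_inv, ← map_inv, ← map_mul, ← map_mul, ← map_mul, m]
    exact U3.Heis.commutator_a x y
  · rintro _ ⟨x, rfl⟩ hx _ ⟨z, hz, rfl⟩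
    rw [m] at hx
    have h0 := U3.Heis.mem_center.1 hz
    obtain ⟨θ, hθ⟩ := c.exists_trace_eq (U3.Heis.fixed_b h2 h0)
    have h3 : σ x.a ≠ 0 := (map_ne_zero σ).2 hx
    obtain ⟨y, hy⟩ := U3.Heis.exists_a (h := c) (θ / σ x.a)
    refine ⟨_, ⟨y, rfl⟩, ?_⟩
    rw [← map_inv, ← map_inv, ← map_mul, ← map_mul, ← map_mul]
    refine congrArg ι (U3.Heis.ext ((U3.Heis.commutator_a x y).trans h0.symm) ((U3.Heis.commutator_b x y).trans ?_))
    rw [hy, map_div₀, c.σσ, div_mul_cancel₀ _ hx, mul_div_cancel₀ _ h3]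
    linear_combination hθ - θ * h2
  · rintro _ ⟨x, rfl⟩ hx _ ⟨y, rfl⟩ _ ⟨w, rfl⟩ e1 e2
    rw [m] at hx
    rw [k] at e1 e2 ⊢
    exact mul_left_cancel₀ hx (by linear_combination y.a * e2 - w.a * e1)
  · rw [card_map_of_injective hι, U3.Heis.card_center]
  · rw [← U3.Heis.card c]; exact (Nat.card_congr (MonoidHom.ofInjective hι).toEquiv).symm

theorem ro_psu [IsSimpleGroup G] {H Q : Subgroup G} {t : G} (h : RO H Q t) (h2 : R2 (⊤ : Subgroup G)) (hV : Vg H t ≠ ⊥)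
    {n : ℕ} (hn : Nat.card (Q0g Q) = 2 ^ n) {F : Type*} [Field F] [Fintype F] (hF : Fintype.card F = 4 ^ n) :
    Nonempty (G ≃* PSU 3 F (2 ^ n)) := by
  have IH0 : ∀ x ∈ Vg H t, R2 (centralizer ({x} : Set G)) →
      Good (H ⊓ centralizer ({x} : Set G)) (Q ⊓ centralizer ({x} : Set G)) t := fun x hx h3 => by
    have h4 := h.cent (X := {x}) (by simpa) (mem_cent.2 (h.commute_V_t hx).symm)
    exact (h4.good_of_map _ h4.ker_mk_le (h4.quot.1.good h4.quot.2 (h4.r2_map h3.top_of _ h4.ker_mk_le))).of_subgroupOf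
  have IHW : ∀ w ∈ Wg H Q t, w ≠ 1 →
      Good (H ⊓ centralizer ({w} : Set G)) (Q ⊓ centralizer ({w} : Set G)) t := fun w hw h1 => by
    obtain ⟨x, hx, y, hy, h3, h4, h5⟩ := h.r2_Q h2
    exact IH0 w (h.W_le_V hw) ⟨x, mem_cent.2 ((h.mem_W.1 hw).2 x (h.le hx) h3).symm, y,
      mem_cent.2 ((h.mem_W.1 hw).2 y (h.le hy) h4).symm, h3, h4, h5⟩
  obtain ⟨s, h3, -, ω, hω, h0, ζ, hζ, h1, e⟩ := h.exists_c3 h2 h.core_bot (h.good' h2).two hV fun x hx e =>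
    e.elim (fun hp => IH0 x hx (h.first_case h2 IHW hx hp)) fun e => IHW x e.1 e.2
  obtain ⟨K, _, _, _, ρ, ψ, κ, β, hU⟩ := h3.exists_uc hω h0 hζ h1 e
  obtain ⟨m, hm, hq⟩ := h.exists_card_Q0 h2
  obtain rfl : m = n := Nat.pow_right_injective le_rfl (hq.symm.trans hn)
  obtain ⟨f⟩ := hU.iso h.core_bot (h.gen h2) hm hq
  exact ⟨f.trans (psuMap _ _ (FiniteField.ringEquivOfCardEq (by
    rw [← Nat.card_eq_fintype_card, hU.ec.conj.card, hq, hF, ← pow_mul, mul_comm, pow_mul]; rfl)))⟩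

theorem core (hE : IsSimpleGroup E) (hn : ¬ IsMulCommutative E) [E.Normal] (hC : 𝐂(E) = ⊥) (hR : Syl 2 R ⊤) (hB : SA B)
    (h0 : B ≠ ⊥) (hBE : B ≤ E) (hBR : B ≤ R) (hc : R ≤ 𝐂(B)) (hd : ∀ x ∈ R, ∀ y ∈ R, x * y * x⁻¹ * y⁻¹ ∈ B)
    (hne : ¬ R ⊓ E ≤ B) : R ≤ E ∧ (Nat.card R = Nat.card B ^ 2 ∨ Nat.card R = Nat.card B ^ 3 ∧
      ∀ (n : ℕ) (F : Type*) [Field F] [Fintype F], Nat.card B = 2 ^ n → Fintype.card F = 4 ^ n →
        Nonempty (E ≃* PSU 3 F (2 ^ n))) := by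
  have h1 : ∀ {g : G}, g ∈ 𝐍(E) := fun {g} => le_normalizer_of_normal (mem_top g)
  have hT := (hR.inf_normal_top E).subgroupOf_top
  obtain ⟨b, hb, b1⟩ := B.bot_or_exists_ne_one.resolve_left h0
  rcases kn_aux _ E rfl hE hn _ (hB.sub fun _ _ => h1) (fun e => h0 (by
    rw [← map_subgroupOf_eq_of_le hBE, e, Subgroup.map_bot])) with hk | ⟨H, hH⟩
  · have gd := Wal.gd_of_comm hn hT (hk _ hT.isPGroup)
    refine absurd (fun x hx => ?_) hne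
    by_cases x1 : x = 1
    · exact x1 ▸ one_mem _
    obtain ⟨g, e⟩ := isConj_iff.1 (gd.one ⟨b, hBE hb⟩ ⟨x, hx.2⟩ (two_of_mul_self (Subtype.ext (hB.sq b hb)) fun e =>
      b1 (congrArg Subtype.val e)) (two_of_mul_self (gd.el _ (Two.of_mem hT.isPGroup hx)) fun e => x1 (congrArg Subtype.val e)))
    have e' : (g : G) * b * (g : G)⁻¹ = x := congrArg Subtype.val e
    exact e' ▸ hB.cl R hR.isPGroup hBR b hb g (e' ▸ hx.1)
  have hO : oddCore E = ⊥ := BS.oddCore_eq_bot_of_simple (hH.2.1.trans_dvd (card_subgroup_dvd_card H))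
  obtain ⟨H, Q, t, h, r2, hQ⟩ : ∃ (H Q : Subgroup E) (t : E), RO H Q t ∧ R2 (⊤ : Subgroup E) ∧ ∀ x : E, x ∈ Q ↔ (x : G) ∈ R := by
    obtain ⟨Q, t, h, r2, -⟩ := ro_of_se hH hO
    obtain ⟨g, -, e⟩ := (ro_syl h r2).exists_conj hT
    exact ⟨_, _, _, h.map (MulAut.conj g).toMonoidHom (MulAut.conj g).surjective
      (((MonoidHom.ker_eq_bot_iff _).2 (MulAut.conj g).injective).le.trans bot_le), r2, fun x => by
        rw [e]; exact ⟨fun e => e.1, fun e => ⟨e, x.2⟩⟩⟩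
  have m : ∀ x : E, (x : G) ∈ B → x ∈ Q0g Q := fun x hx => mem_Q0g_of ((hQ x).2 (hBR hx)) (Subtype.ext (hB.sq x hx))
  have hV : ∀ x : E, (x : G) ∈ B ↔ x ∈ Q0g Q := fun x => ⟨m x, fun hx => by
    by_cases x1 : x = 1
    · rw [x1]; exact one_mem _
    have b2 := m ⟨b, hBE hb⟩ hb
    obtain ⟨k, -, rfl⟩ := h.exists_K' (h.two_V r2 b2 fun e => b1 (congrArg Subtype.val e)) (h.le (Q0g_le Q b2))
      (h.two_V r2 hx x1) (h.le (Q0g_le Q hx))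
    exact hB.cl R hR.isPGroup hBR b hb k ((hQ _).1 (Q0g_le Q hx))⟩
  have a1 : ∀ a ∈ R, ∀ v ∈ Q0g Q, E.normalizerMonoidHom ⟨a, h1⟩ v = v := fun a ha v hv =>
    Subtype.ext (mul_inv_eq_iff_eq_mul.2 (mem_centS.1 (hc ha) _ ((hV v).2 hv)).eq)
  have a2 : ∀ a ∈ R, ∀ x ∈ Q, E.normalizerMonoidHom ⟨a, h1⟩ x * x⁻¹ ∈ Q0g Q := fun a ha x hx => m _ (hd a ha x ((hQ x).1 hx))
  have a3 : (Dg H t).map E.subtype ≤ 𝐍(R) := by
    rintro _ ⟨d, hd, rfl⟩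
    refine mem_normalizer_of_conj_mem fun a ha => ?_
    simpa [mul_assoc] using mul_mem ((hQ _).1 (h.aut_HQ r2 (a1 _ ha) (a2 _ ha) hd.1)) ha
  have a4 : R ≤ E := (comm_sup_cent_of_pPrime (p := 2) (by
      rw [card_map_of_injective E.subtype_injective]; exact h.odd.coprime_two_right) hR.isPGroup a3).ge.trans
    (sup_le (commutator_le.2 fun a ha d hd => mul_mem ((mem_normalizer_iff.1 h1 d).1 (map_subtype_le _ hd))
      (inv_mem (map_subtype_le _ hd))) fun a ha => by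
      rw [mem_bot.1 (hC.le (cent_of_aut h1 (h.aut_B r2 (a1 a ha.1) (a2 a ha.1) fun d hd =>
        Subtype.ext (mul_inv_eq_iff_eq_mul.2 (ha.2 d ⟨d, hd, rfl⟩).symm))))]
      exact one_mem _)
  have c1 : Nat.card R = Nat.card Q := by
    rw [← card_subgroupOf_of_le a4, show R.subgroupOf E = Q from Subgroup.ext fun x => (hQ x).symm]
  have c2 := ro_card h r2 hBE hV
  refine ⟨a4, ?_⟩
  rw [c1, c2]
  by_cases v : Vg H t = ⊥
  · rcases h.tri3 r2 with ⟨-, e | ⟨-, e, -⟩⟩ | ⟨s, -, -, hW⟩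
    · exact absurd (fun x hx => (hV ⟨x, hx.2⟩).2 (e.ge ((hQ _).2 hx.1))) hne
    · exact Or.inl e
    · exact absurd (le_bot_iff.1 (h.W_le_V.trans v.le)) hW
  · obtain ⟨s, c, -⟩ := h.c3_of r2 v
    exact Or.inr ⟨c.card, fun n F _ _ e1 e2 => ro_psu h r2 v e1 e2⟩

end Cfsg.Lib.Block.Col
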