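import Cfsg.Agent.Lib.Block.ColA
import Cfsg.Agent.Lib.Core.UpperP

/-! Collins' theorem: groups with a Sylow `2`-subgroup of type `U₃(2ⁿ)`. -/

set_option autoImplicit false
set_option linter.unusedSectionVars false

namespace Cfsg.Lib.Block.Col
open Subgroup Cfsg.Lib.Core Cfsg.Lib.BG1 Cfsg.Lib.Invol Cfsg.Lib.Layer Cfsg.Lib.Gold Cfsg.Lib.Gsm
open Cfsg.Lib.Amalg hiding le_cent_symm op_top
open Cfsg.Lib.GW hiding Ctx
open scoped Cfsg.Lib.Wal commutatorElement

universe u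

variable {G : Type u} [Group G] [Finite G] {S Z K L : Subgroup G} {q : ℕ} {x y z : G}

theorem core_comp (hO : pPrimeCore 2 G = ⊥) (hL : IsComponent L) : pPrimeCore 2 L = ⊥ :=
  (map_eq_bot_iff_of_injective _ L.subtype_injective).1
    (le_bot_iff.1 (hO ▸ pPrimeCoreOf_le_pPrimeCore_of_isSubnormal hL.1))

theorem two_center (hO : pPrimeCore 2 G = ⊥) (hL : IsComponent L) : IsPGroup 2 ↥(L ⊓ 𝐂(L)) := by
  rw [← Layer.map_subtype_center]
  exact ((isPGroup_pCore 2 L).to_le (center_le_fit.trans (fit_eq_pCore (core_comp hO hL)).le)).map _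

theorem cent_map (hL : ⁅L, L⁆ = L) [𝐂(L).Normal] : 𝐂(L.map (QuotientGroup.mk' 𝐂(L))) = ⊥ := eq_bot_iff.2 fun x hx => by
  obtain ⟨x, rfl⟩ := QuotientGroup.mk'_surjective _ x
  refine (QuotientGroup.eq_one_iff x).2 (zpowers_le.1 (comm_eq_bot_iff'.1 (commutator_eq_bot_of_perfect hL
    (comm_eq_bot_iff.2 (commutator_le.2 fun a ha l hl => (QuotientGroup.eq_one_iff _).1 ?_)))))
  have : QuotientGroup.mk' 𝐂(L) a ∈ 𝐂(L.map (QuotientGroup.mk' 𝐂(L))) :=
    (zpowers_le (H := comap (QuotientGroup.mk' 𝐂(L)) 𝐂(L.map (QuotientGroup.mk' 𝐂(L))))).2 hx ha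
  exact (map_commutatorElement (QuotientGroup.mk' 𝐂(L)) a l).trans
    (commutatorElement_eq_one_iff_mul_comm.2 (mem_centS.1 this _ (mem_map_of_mem _ hl)).eq)

namespace US
variable (u : US S Z q) (hS : Syl 2 S ⊤)
include u

theorem comm (h : K ≤ Z) : IsMulCommutative K :=
  PGrp.isMulCommutative_iff_forall.2 fun x hx y hy => u.cen x (h hx) y (u.le (h hy))

theorem mem_of_cent (h : K ≤ S) (hK : ¬ IsMulCommutative K) (hy : y ∈ S) (h1 : y ∈ 𝐂(K)) : y ∈ Z := by_contra fun e =>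
  hK (PGrp.isMulCommutative_iff_forall.2 fun a ha b hb =>
    u.ab y hy e a (h ha) b (h hb) (mem_centS.1 h1 a ha) (mem_centS.1 h1 b hb))

theorem exists_not (hq : 1 < q) : ∃ x ∈ S, x ∉ Z := SetLike.not_le_iff_exists.1 fun e => by
  have := card_le_of_le e
  rw [u.cZ, u.cS] at this
  exact absurd (Nat.pow_lt_pow_right hq (show 1 < 3 by norm_num)) (by rw [pow_one]; omega)

include hS

theorem sa : SA Z := sa_of_closed hS (fun a ha => (u.mem a (u.le ha)).1 ha) ⟨u.le, fun a ha g hg =>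
  (u.mem _ hg).2 (by rw [conj_mul, (u.mem a (u.le ha)).1 ha, mul_one, mul_inv_cancel])⟩

theorem normal (hC : 𝐂(pCore 2 G) ≤ pCore 2 G) : S.Normal := by
  have c := u.sa hS
  have h1 : S ≤ St Z := le_inf (fun x hx => mem_centS.2 fun z hz => (u.cen z hz.1 x hx).symm)
    (le_centQuo (le_top.trans c.norm_pcore) (le_top.trans c.norm_pcore) (le_inf
      (commutator_le.2 fun x hx y hy => u.com x (hS.pCore_le hx) y hy) (comm_le_left le_normalizer_of_normal)))
  haveI := normal_of_top_le_normalizer c.norm_St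
  rw [le_antisymm (h1.trans (le_pCore (isPGroup_iff_mem.2 fun x hx => ?_))) hS.pCore_le]
  · infer_instance
  obtain ⟨s, -, y, y1, s1, y2, e⟩ := exists_two_odd x
  have y3 := hC (c.odd_St (Nat.card_zpowers y ▸ y2) (zpowers_le.2 (zpowers_le.2 hx y1)) (mem_zpowers y))
  rw [e, eq_one_of_odd_of_mem (isPGroup_pCore 2 G) y3 y2, mul_one]
  exact s1

variable (hO : pPrimeCore 2 G = ⊥) (hq : 2 < q) (hL : IsComponent L)
include hO hq hL

theorem nonab : ¬ IsMulCommutative ↥(S ⊓ L) := fun hc => by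
  have hT : Syl 2 (S ⊓ L) L := hS.inf_subnormalIn (subnormalIn_iff.2 ⟨le_top, hL.1.subgroupOf⟩)
  have hz : L ⊓ 𝐂(L) = ⊥ := le_bot_iff.1 ((inf_der_le_der_syl hT (two_center hO hL)
    (inf_le_left.trans (IsComponent.commutator_self hL).ge) inf_le_right).trans
    (comm_eq_bot_iff.2 (le_centralizer_iff_isMulCommutative.2 hc)).le)
  haveI := IsQuasisimple.isSimpleGroup hL.2 ((map_eq_bot_iff_of_injective _ L.subtype_injective).1
    ((Layer.map_subtype_center L).trans hz))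
  have gd := Wal.gd_of_comm (IsQuasisimple.not_isMulCommutative hL.2) hT.subgroupOf_top inferInstance
  have h1 : S ⊓ L ≤ Z := fun x hx => (u.mem x hx.1).2
    (congrArg Subtype.val (gd.el ⟨x, hx.2⟩ (Two.of_mem hT.subgroupOf_top.isPGroup hx)))
  obtain ⟨v, v1, v2⟩ := (S ⊓ L).bot_or_exists_ne_one.resolve_left (hT.ne_bot (two_dvd_card_of_quasisimple hL.2))
  have h2 : S ≤ 𝐍(L) := fun s hs => by_contra fun e => v2 (mem_bot.1 (hz.le ⟨v1.2, IsComponent.cj_le_cent hL e (by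
    have := conj_mem_cj s v1.2
    rwa [← (u.cen v (h1 v1) s hs).eq, mul_inv_cancel_right] at this)⟩))
  obtain ⟨x, x1, x2⟩ := u.exists_not (by omega)
  obtain ⟨y, y1, e⟩ := u.surj x x1 x2 v (h1 v1)
  obtain ⟨k, hk⟩ := Two.of_mem hS.isPGroup x1
  obtain ⟨s, s1, s2⟩ := exists_inner_cent hT hc (by
    rw [← map_pPrimeCore_subtype Nat.prime_two, core_comp hO hL, Subgroup.map_bot]) (h2 x1)
    (mem_centS.2 fun z hz => (u.cen z (h1 hz) x x1).symm) hk
  refine v2 (mem_bot.1 (hz.le ⟨v1.2, ?_⟩))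
  have := mul_mem s2 (conj_mem_norm (mem_norm_centS (h2 y1)) (inv_mem s2))
  rwa [show x * s * (y * (x * s)⁻¹ * y⁻¹) = x * (s * y * s⁻¹) * x⁻¹ * y⁻¹ by group, (u.cen s (h1 s1) y y1).eq,
    mul_inv_cancel_right, e] at this

theorem inf_cent : S ⊓ 𝐂(L) ≤ Z := fun _ hy =>
  u.mem_of_cent inf_le_left (u.nonab hS hO hq hL) hy.1 (cent_anti inf_le_right hy.2)

theorem comp_normal : L.Normal := normal_of_top_le_normalizer fun g _ => by_contra fun e =>
  u.nonab hS hO hq (IsComponent.cj hL g) (u.comm ((inf_le_inf_left S (IsComponent.cj_le_cent hL e)).trans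
    (u.inf_cent hS hO hq hL)))

theorem main : S ≤ L ∧ ∀ (n : ℕ) (F : Type*) [Field F] [Fintype F], q = 2 ^ n → Fintype.card F = 4 ^ n →
    Nonempty (L ≃* PSU 3 F (2 ^ n)) := by
  haveI := u.comp_normal hS hO hq hL
  haveI : 𝐂(L).Normal := inferInstance
  let f := QuotientGroup.mk' 𝐂(L)
  have f0 : Function.Surjective f := QuotientGroup.mk'_surjective _
  have f1 : ∀ x, f x = 1 ↔ x ∈ 𝐂(L) := QuotientGroup.eq_one_iff
  have hC : 𝐂(L.map f) = ⊥ := cent_map (IsComponent.commutator_self hL)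
  have hE := (IsComponent.map hL f0 fun e => IsQuasisimple.not_le_centralizer hL.2 fun x hx =>
    (f1 x).1 (mem_bot.1 (e.le (mem_map_of_mem f hx)))).2
  haveI : (L.map f).Normal := Normal.map inferInstance f f0
  have h1 := IsQuasisimple.isSimpleGroup hE ((map_eq_bot_iff_of_injective _ (subtype_injective _)).1
    ((Layer.map_subtype_center _).trans (by rw [hC, inf_bot_eq])))
  have h2 := IsQuasisimple.not_isMulCommutative hE
  have hT := hS.inf_normal_top L
  have h3 := u.inf_cent hS hO hq hL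
  obtain ⟨x, x1, x2⟩ := SetLike.not_le_iff_exists.1 fun e => u.nonab hS hO hq hL (u.comm e)
  have h4 : Z ≤ L := fun z hz => by
    obtain ⟨y, y1, rfl⟩ := u.surj x x1.1 x2 z hz
    simpa [mul_assoc] using mul_mem x1.2 ((inferInstance : L.Normal).conj_mem _ (inv_mem x1.2) y)
  by_cases h5 : Z ≤ 𝐂(L)
  · have t1 := (hT.map f).subgroupOf_top
    have gd := Wal.gd_of_comm h2 t1 (PGrp.isMulCommutative_iff_forall.2 (by
      rintro ⟨_, a0⟩ ⟨a, a1, rfl⟩ ⟨_, b0⟩ ⟨b, b1, rfl⟩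
      refine Subtype.ext (mul_inv_eq_one.1 ?_)
      have := (f1 _).2 (h5 (u.com a a1.1 b b1.1))
      simpa [mul_assoc] using this))
    have o : ∀ a (ha : a ∈ S ⊓ L), a ∉ Z → orderOf (⟨f a, mem_map_of_mem f ha.2⟩ : L.map f) = 2 := fun a ha a1 =>
      two_of_mul_self (Subtype.ext ((map_mul f a a).symm.trans ((f1 _).2 (h5 (u.sq a ha.1))))) fun e =>
        a1 (h3 ⟨ha.1, (f1 a).1 (congrArg Subtype.val e)⟩)
    have k : ∀ a ∈ S ⊓ L, a * a ∈ zpowers (x * x) := fun a ha => by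
      by_cases a1 : a ∈ Z
      · rw [(u.mem a ha.1).1 a1]; exact one_mem _
      obtain ⟨⟨_, g, g1, rfl⟩, e⟩ := isConj_iff.1 (gd.one _ _ (o x x1 x2) (o a ha a1))
      replace g1 : g ∈ L := g1
      have e1 : g * x * g⁻¹ * a⁻¹ ∈ L ⊓ 𝐂(L) := mem_inf.2 ⟨mul_mem (mul_mem (mul_mem g1 x1.2) (inv_mem g1))
        (inv_mem (mem_inf.1 ha).2), (f1 _).1 (by
        rw [map_mul, map_mul, map_mul, map_inv, map_inv, mul_inv_eq_one]; exact congrArg Subtype.val e)⟩
      have e2 := h3 ⟨(hS.le_of_normal (two_center hO hL) le_top le_normalizer_of_normal) e1, e1.2⟩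
      have e3 : g * (x * x) * g⁻¹ = x * x := by rw [← (mem_centS.1 (h5 (u.sq x x1.1)) g g1).eq, mul_inv_cancel_right]
      rw [← e3, ← conj_mul, ← inv_mul_cancel_right (g * x * g⁻¹) a, (u.cen _ e2 a ha.1).symm.mul_mul_mul_comm,
        (u.mem _ (u.le e2)).1 e2, one_mul]
      exact mem_zpowers _
    have h6 : Z ≤ zpowers (x * x) := (inf_der_le_der_syl hT (hS.isPGroup.to_le u.le)
      (h4.trans (IsComponent.commutator_self hL).ge) h5).trans (commutator_le.2 fun a ha b hb => by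
        have := mul_mem (mul_mem (k _ (mul_mem ha hb)) (inv_mem (k a ha))) (inv_mem (k b hb))
        rw [← mul_inv_cancel_right (a * a)⁻¹ b⁻¹, (u.cen _ (inv_mem (u.sq a ha.1)) _ (inv_mem (mem_inf.1 hb).1)).eq] at this
        convert this using 1
        rw [commutatorElement_def]; group)
    have h7 := card_le_of_le h6
    rw [u.cZ, Nat.card_zpowers] at h7
    exact absurd (h7.trans (orderOf_le_of_pow_eq_one two_pos ((pow_two _).trans ((u.mem _ (mul_mem x1.1 x1.1)).1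
      (u.sq x x1.1))))) (by omega)
  have c := (u.sa hS).mim (f := f.comp (⊤ : Subgroup G).subtype) (fun y => let ⟨x, e⟩ := f0 y; ⟨⟨x, trivial⟩, e⟩) le_top
  rw [mim_restrict_top] at c
  obtain ⟨r1, r2⟩ := core h1 h2 hC (hS.map_top f0) c (fun e => h5 fun z hz => (f1 z).1 (mem_bot.1 (e.le (mem_map_of_mem f hz))))
    (map_mono h4) (map_mono u.le) (by
      rintro _ ⟨a, a1, rfl⟩
      refine mem_centS.2 ?_
      rintro _ ⟨z, z1, rfl⟩
      exact (u.cen z z1 a a1).symm.map f) (by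
      rintro _ ⟨a, a1, rfl⟩ _ ⟨b, b1, rfl⟩
      simpa only [map_mul, map_inv] using mem_map_of_mem f (u.com a a1 b b1)) fun e => by
      obtain ⟨z, z1, e1⟩ := e ⟨mem_map_of_mem f x1.1, mem_map_of_mem f x1.2⟩
      replace z1 : z ∈ Z := z1
      exact x2 ((mul_mem_cancel_left (inv_mem z1)).1 (h3 (mem_inf.2 ⟨mul_mem (inv_mem (u.le z1)) x1.1, (f1 _).1 (by
        rw [map_mul, map_inv, e1, inv_mul_cancel])⟩)))
  have c1 := card_map_mul_card_inf_ker f S
  have c2 := card_map_mul_card_inf_ker f Z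
  rw [show f.ker ⊓ Z = f.ker ⊓ S from le_antisymm (inf_le_inf_left _ u.le) fun y hy =>
    ⟨hy.1, h3 ⟨hy.2, (f1 y).1 hy.1⟩⟩, u.cZ] at c2
  rw [u.cS, ← c2] at c1
  have p1 : 0 < Nat.card (Z.map f) := Nat.card_pos
  have p2 : 0 < Nat.card ↥(f.ker ⊓ S) := Nat.card_pos
  rcases r2 with r2 | ⟨r2, r3⟩
  · rw [r2] at c1
    have : 1 = Nat.card (Z.map f) * Nat.card ↥(f.ker ⊓ S) * Nat.card ↥(f.ker ⊓ S) :=
      Nat.eq_of_mul_eq_mul_left (Nat.mul_pos (pow_pos p1 2) p2) ((mul_one _).trans (c1.trans (by ring)))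
    rw [c2] at this
    exact absurd (Nat.eq_one_of_mul_eq_one_right this.symm) (by omega)
  rw [r2] at c1
  have c3 : Nat.card ↥(f.ker ⊓ S) = 1 := Nat.eq_one_of_mul_eq_one_right
    (Nat.eq_of_mul_eq_mul_left (Nat.mul_pos (pow_pos p1 3) p2) ((mul_one _).trans (c1.trans (by ring))) :
      1 = Nat.card ↥(f.ker ⊓ S) * Nat.card ↥(f.ker ⊓ S)).symm
  have f2 : Function.Injective f := (MonoidHom.ker_eq_bot_iff f).1 (le_bot_iff.1 (hO ▸ le_pPrimeCore
    ((Nat.prime_two.coprime_iff_not_dvd.2 ((hS.inf_normal_top _).eq_bot_iff.1 (by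
      rw [inf_comm]; exact card_eq_one.1 c3))).symm)))
  refine ⟨(map_le_map_iff_of_injective f2).1 r1, fun n F _ _ e1 e2 => ?_⟩
  obtain ⟨g⟩ := r3 n F (by rw [← e1, ← c2, c3, mul_one]) e2
  exact ⟨(L.equivMapOfInjective f f2).trans g⟩

omit hL in
theorem cases : S.Normal ∨ ∃ L : Subgroup G, L.Normal ∧ Odd L.index ∧ ∀ (n : ℕ) (F : Type*) [Field F] [Fintype F],
    q = 2 ^ n → Fintype.card F = 4 ^ n → Nonempty (L ≃* PSU 3 F (2 ^ n)) := by
  by_cases e : layer G = ⊥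
  · refine Or.inl (u.normal hS ?_)
    have := centralizer_fstar_le (G := G)
    rwa [fstar_eq_of_pPrimeCore_eq_bot hO, e, bot_sup_eq] at this
  obtain ⟨L, hL⟩ := not_forall_not.1 (mt layer_eq_bot_iff.2 e)
  obtain ⟨h1, h2⟩ := u.main hS hO hq hL
  exact Or.inr ⟨L, u.comp_normal hS hO hq hL, Nat.not_even_iff_odd.1 fun e =>
    hS.not_dvd_index (e.two_dvd.trans (index_dvd_of_le h1)), h2⟩

end US

theorem collins {n : ℕ} (hn : 2 ≤ n) {F : Type*} [Field F] [Fintype F] (hF : Fintype.card F = 4 ^ n) (S : Sylow 2 G)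
    (P : Sylow 2 (PSU 3 F (2 ^ n))) (hS : Nonempty ((S : Subgroup G) ≃* (P : Subgroup (PSU 3 F (2 ^ n))))) :
    (Group.IsSolvable G ∧ PLengthLE 2 1 G) ∨
      ∃ N : Subgroup (G ⧸ oddCore G), N.Normal ∧ Odd N.index ∧ Nonempty (N ≃* PSU 3 F (2 ^ n)) := by
  obtain ⟨σ, c⟩ := Forms.isConj_of_card (F := F) (q := 2 ^ n) (by rw [hF, ← pow_mul, mul_comm, pow_mul]; rfl)
  obtain ⟨e⟩ := hS
  obtain ⟨f⟩ := U3.sylow_psu c (k := n) rfl P
  let π := QuotientGroup.mk' (oddCore G)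
  let ι := (π.comp (S : Subgroup G).subtype).comp (e.trans f).symm.toMonoidHom
  have h1 : ι.range = (S : Subgroup G).map π := by
    rw [MonoidHom.range_comp, MonoidHom.range_eq_top.2 (e.trans f).symm.surjective, ← MonoidHom.range_eq_map,
      MonoidHom.range_comp, range_subtype]
  have h2 : Function.Injective ι := ((injective_iff_map_eq_one (π.comp (S : Subgroup G).subtype)).2 fun x hx => Subtype.ext
    (eq_one_of_odd_of_mem S.isPGroup' x.2 (odd_of_mem (odd_card_oddCore G) ((QuotientGroup.eq_one_iff _).1 hx)))).comp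
    (e.trans f).symm.injective
  have h3 : Syl 2 ι.range ⊤ := h1 ▸ (syl_top S).map_top (QuotientGroup.mk'_surjective _)
  refine ((us_of_heis c ι h2).cases h3 pPrimeCore_quotient_pPrimeCore (lt_of_lt_of_le (by norm_num)
    (Nat.pow_le_pow_right two_pos hn))).imp (fun h => ?_) fun ⟨L, l1, l2, l3⟩ => ⟨L, l1, l2, l3 n F rfl hF⟩
  haveI : ι.range.Normal := h
  haveI := solvable_of_odd (odd_card_oddCore G)
  haveI := solvable_of_pgroup Nat.prime_two h3.isPGroup
  haveI := FT.odd_order_solvable (_ ⧸ ι.range) (Nat.not_even_iff_odd.1 fun e => h3.not_dvd_index e.two_dvd)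
  haveI := isSolvable_of_normal_of_quotient ι.range
  refine ⟨isSolvable_of_normal_of_quotient (oddCore G), pLengthLE_of_quotient_of_coprime _ (coprime_card_pPrimeCore 2 G)
    ((pLengthLE_one_iff_sylow_le h3.toSylowTop).2 ((le_pCore h3.isPGroup).trans pCore_le_pPrimePCore))⟩

end Cfsg.Lib.Block.Col
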