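import Cfsg.Agent.Lib.CS3.Basic
import Cfsg.Agent.S4249
import Cfsg.Agent.Lib.FT.Sec14d

/-! Groups with the class sizes of `PSL₂(q)`, I: the Sylow `p`-subgroups. -/

set_option autoImplicit false
set_option linter.unusedSectionVars false
set_option maxHeartbeats 400000

namespace Cfsg.Lib.Block.CsL

open Subgroup Cfsg.Lib.Hall Cfsg.Lib.CS3 Cfsg.Lib.Transfer

variable {G : Type*} [Group G] [Finite G]

/-- an element whose centraliser is comparable with no other proper centraliser -/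
def Iso (x : G) : Prop := x ∉ center G ∧ ∀ y, y ∉ center G → (C[x] ≤ C[y] ∨ C[y] ≤ C[x]) → C[x] = C[y]

theorem iso_of {x : G} (hx : x ∉ center G)
    (h : ∀ y, y ∉ center G → (cs x ∣ cs y ∨ cs y ∣ cs x) → cs x = cs y) : Iso x :=
  ⟨hx, fun y hy e => e.elim
    (fun e => cent_eq_of_le_of_cs_le e (h y hy (Or.inr (index_dvd_of_le e))).le)
    fun e => (cent_eq_of_le_of_cs_le e (h y hy (Or.inl (index_dvd_of_le e))).ge).symm⟩

theorem Iso.congr {x w : G} (h : Iso x) (hw : w ∉ center G) (e : C[w] = C[x]) : Iso w :=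
  ⟨hw, fun y hy h1 => e ▸ h.2 y hy (e ▸ h1)⟩

theorem Iso.cop {x v : G} (h : Iso x) (hv : v ∈ C[x]) (hz : v ∉ center G)
    (hc : (orderOf x).Coprime (orderOf v)) : C[v] = C[x] := by
  have h1 : Commute x v := (mem_cent_iff.1 hv).symm
  have h2 := cent_mul_of_coprime h1 hc
  have h3 := h.2 _ (mul_not_mem_center h1 hc h.1) (Or.inr (h2 ▸ inf_le_left))
  exact (h.2 v hz (Or.inl (h3.le.trans (h2 ▸ inf_le_right)))).symm

theorem split {x : G} (hx : x ∉ center G) {s : ℕ} (hs : s.Prime) :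
    ∃ w, w ∉ center G ∧ w ∈ zpowers x ∧ (PE s w ∨ (orderOf w).Coprime s) := by
  obtain ⟨a, ha, b, hb, e, h1, h2⟩ := exists_pPart hs x
  by_cases h : a ∈ center G
  · exact ⟨b, fun h' => hx (e ▸ mul_mem h h'), hb, Or.inr h2⟩
  · exact ⟨a, h, ha, Or.inl h1⟩

theorem Iso.pe {x v : G} (h : Iso x) {s : ℕ} (hs : s.Prime) (hv : v ∈ C[x]) (hz : v ∉ center G)
    (hp : PE s v) : ∃ w, w ∉ center G ∧ PE s w ∧ C[w] = C[x] := by
  obtain ⟨w, h1, h2, h3⟩ := split h.1 hs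
  have e := (h.2 w h1 (Or.inl (cent_le_of_mem_zpowers h2))).symm
  rcases h3 with h3 | h3
  · exact ⟨w, h1, h3, e⟩
  · exact ⟨v, hz, hp, ((h.congr h1 e).cop (e ▸ hv) hz
      (coprime_orderOf_of_isPGroup hs hp h3).symm).trans e⟩

theorem exists_pe {s : ℕ} (hs : s.Prime) {x : G} (hx : s ∣ cs x) {H : Subgroup G} (hH : ¬ s ∣ H.index) :
    ∃ v ∈ H, v ∉ center G ∧ PE s v := by
  haveI := Fact.mk hs
  obtain ⟨P, hP⟩ := exists_sylow_le_of_not_dvd_index hH
  obtain ⟨v, h1, h2⟩ := SetLike.not_le_iff_exists.1 fun e => not_dvd_cs_of_sylow_le_center P e x hx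
  exact ⟨v, hP h1, h2, isPGroup_zpowers_of_mem P.isPGroup' h1⟩

theorem exists_conj_comm {s : ℕ} (hs : s.Prime) {u w : G} (hu : ¬ s ∣ cs u) (hw : PE s w) :
    ∃ g : G, g * u * g⁻¹ ∈ C[w] := by
  haveI := Fact.mk hs
  obtain ⟨P, hP⟩ := hw.exists_le_sylow
  obtain ⟨g, hg⟩ := exists_conj_mem_centralizer_sylow P hu
  exact ⟨g, mem_cent_iff.2 (hg w (hP (mem_zpowers w))).symm⟩

theorem conj_not_mem {u : G} (hu : u ∉ center G) (g : G) : g * u * g⁻¹ ∉ center G := by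
  rwa [← cs_eq_one_iff, cs_conj, cs_eq_one_iff]

theorem idx (x : G) : (center G).relIndex C[x] * cs x = (center G).index :=
  relIndex_mul_index (center_le_cent x)

/-- the hypothesis on the class sizes -/
structure Hy (G : Type*) [Group G] (p f A : ℕ) : Prop where
  hp : p.Prime
  hf : 0 < f
  exA : ∃ x : G, x ∉ center G ∧ cs x = A
  pA : ¬ p ∣ A
  oth : ∀ x : G, x ∉ center G → cs x = A ∨ ∃ m, ¬ p ∣ m ∧ cs x = p ^ f * m
  isoA : ∀ x y : G, x ∉ center G → y ∉ center G → cs x = A → (cs x ∣ cs y ∨ cs y ∣ cs x) → cs x = cs y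
  exC : ∃ y : G, y ∉ center G ∧ cs y ≠ A ∧
    (∀ x, x ∉ center G → (cs y ∣ cs x ∨ cs x ∣ cs y) → cs y = cs x) ∧ ∃ r, r.Prime ∧ r ∣ A ∧ ¬ r ∣ cs y
  h4 : ∀ s : ℕ, s.Prime → s ≠ p → ∀ x : G, s ∣ cs x → s ∣ A
  h5 : ∀ s : ℕ, s.Prime → s ∣ A → ∃ y : G, y ∉ center G ∧ ¬ s ∣ cs y

namespace Hy
variable {p f A : ℕ} (h : Hy G p f A)
include h

theorem iso {x : G} (hx : x ∉ center G) (e : cs x = A) : Iso x := iso_of hx fun y hy => h.isoA x y hx hy e

theorem dvd_of_ne {x : G} (hx : x ∉ center G) (e : cs x ≠ A) : p ^ f ∣ cs x := by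
  obtain ⟨m, -, e⟩ := (h.oth x hx).resolve_left e
  exact e ▸ Dvd.intro _ rfl

theorem exP : ∃ u : G, u ∉ center G ∧ PE p u ∧ cs u = A := by
  obtain ⟨x, hx, e⟩ := h.exA
  obtain ⟨y, hy, h1, -⟩ := h.exC
  obtain ⟨v, h2, h3, h4⟩ := exists_pe h.hp ((dvd_pow_self p h.hf.ne').trans (h.dvd_of_ne hy h1))
    (H := C[x]) (e ▸ h.pA)
  obtain ⟨w, h5, h6, h7⟩ := (h.iso hx e).pe h.hp h2 h3 h4
  exact ⟨w, h5, h6, by rw [h7, e]⟩

theorem fact : (center G).index.factorization p = f := by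
  obtain ⟨y, hy, h1, h2, r, hr, h3, h4⟩ := h.exC
  have hi := iso_of hy h2
  have h5 : ¬ p ∣ (center G).relIndex C[y] := fun hd => by
    obtain ⟨v, h6, h7, h8⟩ := exists_pe_of_dvd h.hp hd
    obtain ⟨w, -, h9, h10⟩ := hi.pe h.hp h6 h7 h8
    obtain ⟨u, hu, h11, h12⟩ := h.exP
    obtain ⟨g, hg⟩ := exists_conj_comm h.hp (u := u) (h12 ▸ h.pA) h9
    obtain ⟨v', h13, h14, h15⟩ := exists_pe hr (x := u) (h12 ▸ h3) h4
    obtain ⟨w', h16, h17, h18⟩ := hi.pe hr h13 h14 h15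
    have := (hi.congr h16 h18).cop (h18 ▸ h10 ▸ hg) (conj_not_mem hu g)
      (PE.coprime hr h.hp (fun e => h.pA (e ▸ h3)) h17 (h11.conj g))
    exact h1 (by rw [← h18, ← this, cs_conj, h12])
  obtain ⟨m, hm, e⟩ := (h.oth y hy).resolve_left h1
  have h6 : (center G).relIndex C[y] ≠ 0 := index_ne_zero_of_finite
  have h7 : m ≠ 0 := fun e => hm (e ▸ dvd_zero p)
  rw [← idx y, e, Nat.factorization_mul h6 (mul_ne_zero (pow_ne_zero _ h.hp.ne_zero) h7),
    Nat.factorization_mul (pow_ne_zero _ h.hp.ne_zero) h7, Nat.factorization_pow]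
  simp [Nat.factorization_eq_zero_of_not_dvd h5, Nat.factorization_eq_zero_of_not_dvd hm,
    h.hp.factorization_self]

theorem cs_pe {u : G} (hu : u ∉ center G) (hp : PE p u) : cs u = A := by
  by_contra e
  have h1 := Nat.mul_dvd_mul (dvd_relIndex_of_pe h.hp (H := C[u]) le_normalizer_of_normal (self_mem_cent u) hu hp)
    (h.dvd_of_ne hu e)
  rw [idx, ← pow_succ', h.hp.pow_dvd_iff_le_factorization index_ne_zero_of_finite, h.fact] at h1
  omega

theorem mem_center {u v : G} (hu : u ∉ center G) (hp : PE p u) (hv : v ∈ C[u])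
    (hc : (orderOf v).Coprime p) : v ∈ center G := by
  by_contra hz
  have hA := h.cs_pe hu hp
  have hi := h.iso hu hA
  obtain ⟨s, hs, w, hw, h1, h2⟩ : ∃ s : ℕ, s.Prime ∧ ∃ w ∈ zpowers v, w ∉ center G ∧ PE s w := by
    by_contra! h1
    exact hz (le_of_forall_isPGroup (H := zpowers v) (fun s hs w hw h2 => by_contra fun h3 => h1 s hs w hw h3 h2)
      (mem_zpowers v))
  have hc' : (orderOf w).Coprime p := hc.coprime_dvd_left (orderOf_dvd_of_mem_zpowers hw)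
  have hsp : s ≠ p := by
    rintro rfl
    exact h1 ((orderOf_eq_one_iff.1 (Nat.coprime_self _ |>.1 (coprime_orderOf_of_isPGroup hs h2 hc'))) ▸ one_mem _)
  have e := hi.cop (zpowers_le.2 hv hw) h1 (coprime_orderOf_of_isPGroup h.hp hp hc')
  have hsA : s ∣ A := by
    haveI := Fact.mk hs
    obtain ⟨P, hP⟩ := h2.exists_le_sylow
    by_contra h3
    exact h1 (sylow_le_center_of_forall_not_dvd P (fun x hx => h3 (h.h4 s hs hsp x hx)) (hP (mem_zpowers w)))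
  obtain ⟨z, h3, h4⟩ := h.h5 s hs hsA
  obtain ⟨g, hg⟩ := exists_conj_comm hs h4 h2
  obtain ⟨z', h5, h6, h7⟩ := split (conj_not_mem h3 g) h.hp
  have h8 : z' ∈ C[w] := zpowers_le.2 hg h6
  have h9 : C[z'] = C[u] := h7.elim
    (fun h7 => ((hi.congr h1 e).cop h8 h5 (coprime_orderOf_of_isPGroup h.hp h7 hc').symm).trans e)
    fun h7 => hi.cop (e ▸ h8) h5 (coprime_orderOf_of_isPGroup h.hp hp h7)
  refine h4 (hsA.trans ?_)
  rw [← hA, ← h9, ← cs_conj g z]
  exact cs_dvd_of_mem_zpowers h6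

theorem relIndex_pe {u : G} (hu : u ∉ center G) (hp : PE p u) : (center G).relIndex C[u] = p ^ f := by
  have h1 : (center G).relIndex C[u] ≠ 0 := index_ne_zero_of_finite
  have h2 := Nat.eq_prime_pow_of_unique_prime_dvd (p := p) h1 fun {s} hs hd => by
    by_contra e
    obtain ⟨v, h3, h4, h5⟩ := exists_pe_of_dvd hs hd
    exact h4 (h.mem_center hu hp h3 (coprime_orderOf_of_isPGroup hs h5
      ((Nat.coprime_primes h.hp hs).2 (Ne.symm e))))
  have h3 := h.fact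
  have h4 : A ≠ 0 := fun e => h.pA (e ▸ dvd_zero p)
  rw [← idx u, h.cs_pe hu hp, Nat.factorization_mul h1 h4, h2, Nat.factorization_pow] at h3
  simp [Nat.factorization_eq_zero_of_not_dvd h.pA, h.hp.factorization_self] at h3
  rw [h2]; simp [h3]

theorem index : (center G).index = p ^ f * A := by
  obtain ⟨u, h1, h2, h3⟩ := h.exP
  rw [← idx u, h.relIndex_pe h1 h2, h3]

end Hy

end Cfsg.Lib.Block.CsL
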