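import Cfsg.Agent.Lib.Block.CsL1
import Cfsg.Agent.Lib.Core.PSolvable
import Cfsg.Agent.Lib.Coprime.FrobCompl

/-! If the centraliser of every non-trivial `p`-element is a Sylow `p`-subgroup, the Sylow
`p`-subgroups are abelian. -/

set_option autoImplicit false
set_option linter.unusedSectionVars false
set_option maxHeartbeats 400000

namespace Cfsg.Lib.Block.CsL

open Subgroup Cfsg.Lib.Hall Cfsg.Lib.CS3 Cfsg.Lib.Transfer Cfsg.Lib.Core QuotientGroup

variable {G : Type*} [Group G] [Finite G] {p : ℕ}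

theorem pe_of_mem {H : Subgroup G} (h : IsPGroup p H) {x : G} (hx : x ∈ H) : PE p x :=
  h.to_le (zpowers_le.2 hx)

theorem exists_normal (hp : p.Prime) (hp2 : p ≠ 2) (h1 : ∀ x : G, x ≠ 1 → PE p x → IsPGroup p C[x])
    (hD : pCore p G ≠ ⊥) (hT : pCore p G ≠ ⊤) :
    ∃ N : Subgroup (G ⧸ pCore p G), N.Normal ∧ N ≠ ⊥ ∧ (Nat.card N).Coprime p := by
  rcases Nat.even_or_odd (Nat.card G) with he | ho
  · haveI : Fact (Nat.Prime 2) := ⟨Nat.prime_two⟩
    obtain ⟨t, ht⟩ := exists_prime_orderOf_dvd_card' (G := G) 2 he.two_dvd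
    have ht2 : t * t = 1 := by rw [← sq, ← ht, pow_orderOf_eq_one]
    have hnp : ¬ PE p t := fun h => by
      have := coprime_orderOf_of_isPGroup hp h ((Nat.coprime_primes Nat.prime_two hp).2 hp2.symm)
      rw [ht] at this
      exact absurd this (by decide)
    have h2 : ∀ s : G, ¬ PE p s → pCore p G ⊓ C[s] = ⊥ := fun s hs => eq_bot_iff.2 fun d hd => by
      by_contra e
      exact hs (pe_of_mem (h1 d e (pe_of_mem (isPGroup_pCore p G) hd.1)) (mem_cent_comm.1 hd.2))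
    have hi : ∀ d ∈ pCore p G, t * d * t⁻¹ = d⁻¹ := fun d hd =>
      Coprime.conj_eq_inv_of_fpf (le_normalizer_of_normal (mem_top t)) ht2 (h2 t hnp) hd
    obtain ⟨x, hx, hx1⟩ := (pCore p G).bot_or_exists_ne_one.resolve_left hD
    have hC : centralizer (pCore p G : Set G) ≤ pCore p G := le_pCore
      ((h1 x hx1 (pe_of_mem (isPGroup_pCore p G) hx)).to_le (centralizer_le (by simpa using hx)))
    have hc : (t : G ⧸ pCore p G) ∈ center _ := mem_center_iff.2 fun g => by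
      obtain ⟨g, rfl⟩ := mk_surjective g
      rw [← mk_mul, ← mk_mul, QuotientGroup.eq]
      refine hC fun d hd => ?_
      have e1 := hi _ ((inferInstance : (pCore p G).Normal).conj_mem d hd g)
      have e2 := hi _ hd
      calc d * ((g * t)⁻¹ * (t * g)) = t⁻¹ * (t * d * t⁻¹) * (g⁻¹ * t * g) := by group
        _ = t⁻¹ * g⁻¹ * (g * d * g⁻¹)⁻¹ * t * g := by rw [e2]; group
        _ = _ := by rw [← e1]; group
    have ho : orderOf (t : G ⧸ pCore p G) = 2 := orderOf_eq_prime (by rw [← mk_pow, sq, ht2]; rfl)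
      fun e => hnp (pe_of_mem (isPGroup_pCore p G) ((eq_one_iff t).1 e))
    refine ⟨zpowers (t : G ⧸ pCore p G), ⟨fun n hn g => by
      rwa [mem_center_iff.1 (zpowers_le.2 hc hn) g, mul_inv_cancel_right]⟩, fun e => ?_, ?_⟩
    · rw [zpowers_eq_bot] at e; simp [e] at ho
    · rw [Nat.card_zpowers, ho]; exact (Nat.coprime_primes Nat.prime_two hp).2 hp2.symm
  · haveI := FT.odd_order_solvable G ho
    haveI : Nontrivial (G ⧸ pCore p G) := QuotientGroup.nontrivial_iff.2 hT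
    exact ⟨_, inferInstance, (pCore_ne_bot_or_of_isPSolvable hp (isPSolvable_of_isSolvable hp)).resolve_left
      fun e => e pCore_quotient_pCore, coprime_card_pPrimeCore p _⟩

theorem closed (hp : p.Prime) (hp2 : p ≠ 2) (h1 : ∀ x : G, x ≠ 1 → PE p x → IsPGroup p C[x])
    (h2 : ∀ x : G, PE p x → x ^ p = 1) (hD : pCore p G ≠ ⊥) : ¬ p ∣ (pCore p G).index := fun hd => by
  haveI := Fact.mk hp
  obtain ⟨N₀, _, h3, h4⟩ := exists_normal hp hp2 h1 hD fun e => by
    rw [e, index_top] at hd; exact hp.one_lt.ne' (Nat.dvd_one.1 hd)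
  set N := N₀.comap (mk' (pCore p G)) with hN
  have h5 : p ∣ Nat.card (G ⧸ N) := by
    rw [← index_eq_card, index_comap_of_surjective _ (mk'_surjective _)]
    rw [index_eq_card, ← N₀.card_mul_index] at hd
    exact (h4.symm.dvd_mul_left).1 hd
  obtain ⟨k, hk⟩ := exists_prime_orderOf_dvd_card' p h5
  set Y := (zpowers k).comap (mk' N)
  have hNY : N ≤ Y := fun x hx => by
    change (x : G ⧸ N) ∈ zpowers k
    rw [(eq_one_iff x).2 hx]; exact one_mem _
  obtain ⟨y₀, h6, h7⟩ := Coprime.exists_mem_orderOf_prime h3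
  obtain ⟨y, rfl, h8⟩ := exists_lift_coprime (mk'_surjective (pCore p G)) (coprime_orderOf_of_mem h4 h6)
  have hy1 : y ≠ 1 := by rintro rfl; simp at h7; exact Nat.not_prime_one h7
  have hy : ¬ PE p y := fun h => hy1 (orderOf_eq_one_iff.1
    ((Nat.coprime_self _).1 (coprime_orderOf_of_isPGroup hp h h8)))
  have h9 : closure {g : Y | g ^ p ≠ 1} ≤ N.subgroupOf Y := (closure_le _).2 fun g hg => by
    by_contra hgN
    refine hg (Subtype.ext (h2 g ?_))
    obtain ⟨a, ha, b, hb, e, h10, h11⟩ := exists_pPart hp (g : G)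
    refine pe_of_mem (h1 a (fun ea => hgN ?_) h10) (mem_cent_iff.2 (commute_of_mem_zpowers (mem_zpowers _) ha))
    rw [ea, one_mul] at e
    have h12 : orderOf ((g : G) : G ⧸ N) ∣ p := by
      have := orderOf_dvd_natCard (zpowers k) (x := ((g : G) : G ⧸ N)) g.2
      rwa [Nat.card_zpowers, hk] at this
    exact (eq_one_iff (N := N) (g : G)).1 (orderOf_eq_one_iff.1 (Nat.eq_one_of_dvd_coprimes h11
      (by rw [e]; exact orderOf_map_dvd (mk' N) b) h12))
  have h10 : N.subgroupOf Y ≠ ⊤ := fun e => by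
    obtain ⟨g, rfl⟩ := mk_surjective k
    rw [(eq_one_iff g).2 (subgroupOf_eq_top.1 e (mem_zpowers (g : G ⧸ N))), orderOf_one] at hk
    exact hp.one_lt.ne hk
  obtain ⟨h11, h12⟩ := Agent.S4249.result (G := Y) p hp
    (fun h => hy (pe_of_mem h (hNY h6))) fun e => h10 (eq_top_iff.2 (e.ge.trans h9))
  rw [eq_of_le_of_index_le h9 (by
    rw [h12, (Nat.dvd_prime hp).1 (h12 ▸ index_dvd_of_le h9) |>.resolve_left (mt index_eq_one.1 h10)])] at h11
  obtain ⟨x, hx, hx1⟩ := (pCore p G).bot_or_exists_ne_one.resolve_left hD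
  have hxN : x ∈ N := by
    change (x : G ⧸ pCore p G) ∈ N₀
    rw [(eq_one_iff x).2 hx]; exact one_mem _
  have hxp := pe_of_mem (isPGroup_pCore p G) hx
  have := commute_of_coprime_of_mem_nilpotent (L := N.subgroupOf Y) (x := ⟨y, hNY h6⟩) (y := ⟨x, hNY hxN⟩)
    h6 hxN (by rw [orderOf_mk, orderOf_mk]; exact (coprime_orderOf_of_isPGroup hp hxp h8).symm)
  exact hy (pe_of_mem (h1 x hx1 hxp) (mem_cent_iff.2 (congrArg Subtype.val this)))

theorem ti [Fact p.Prime] (h : ∀ M : Subgroup G, pCore p M ≠ ⊥ → ¬ p ∣ (pCore p M).index) {P₀ P₁ : Sylow p G}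
    (hne : P₀ ≠ P₁) : (P₀ : Subgroup G) ⊓ P₁ = ⊥ := by
  haveI : Nonempty {z : Sylow p G × Sylow p G // z.1 ≠ z.2} := ⟨⟨(P₀, P₁), hne⟩⟩
  obtain ⟨⟨⟨P, Q⟩, hPQ⟩, hm⟩ := Finite.exists_max
    fun z : {z : Sylow p G × Sylow p G // z.1 ≠ z.2} => Nat.card ↥((z.1.1 : Subgroup G) ⊓ z.1.2)
  by_contra h0
  set D := (P : Subgroup G) ⊓ Q with hD
  have hD1 : D ≠ ⊥ := fun e => by
    have := hm ⟨(P₀, P₁), hne⟩
    simp only [← hD, e, card_bot] at this
    exact h0 (eq_bot_of_card_le _ this)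
  have h1 := h (normalizer (D : Set G)) fun e => hD1 (eq_bot_iff.2 ((le_pCoreOf le_normalizer le_rfl
    (P.isPGroup'.to_le inf_le_left)).trans (pCoreOf_eq_bot_iff.2 e).le))
  obtain ⟨R, hR⟩ := (isPGroup_pCoreOf (p := p) (normalizer (D : Set G))).exists_le_sylow
  have key : ∀ S : Sylow p G, D < S → S = R := fun S hS => by
    by_contra e
    have h2 : D < (S : Subgroup G) ⊓ R := (lt_inf_normalizer S.isPGroup' hS).trans_le (le_inf inf_le_left
      fun x hx => hR (by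
        by_contra h3
        refine h1 ?_
        have := dvd_relIndex_of_pe Fact.out (le_normalizer_pCoreOf _) hx.2 h3 (pe_of_mem S.isPGroup' hx.1)
        rwa [relIndex, subgroupOf, comap_map_eq_self_of_injective (subtype_injective _)] at this))
    exact h2.ne (eq_of_le_of_card_ge h2.le (hm ⟨(S, R), e⟩))
  exact hPQ ((key P (inf_lt_left.2 fun e => hPQ (Sylow.ext (P.is_maximal' Q.isPGroup' e).symm))).trans
    (key Q (inf_lt_right.2 fun e => hPQ (Sylow.ext (Q.is_maximal' P.isPGroup' e)))).symm)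

theorem cent_eq (hp : p.Prime) (h : ∀ x : G, x ≠ 1 → PE p x → IsPGroup p C[x] ∧ ¬ p ∣ cs x) {x₀ y₀ : G}
    (hx : x₀ ≠ 1) (hxp : PE p x₀) (hy : y₀ ≠ 1) (hc : y₀ ∈ C[x₀]) : C[y₀] = C[x₀] := by
  haveI := Fact.mk hp
  by_contra hne
  let S : ∀ x : G, x ≠ 1 → PE p x → Sylow p G := fun x h1 h2 => (h x h1 h2).1.toSylow (h x h1 h2).2
  have hle : ∀ x y : G, x ≠ 1 → PE p x → y ≠ 1 → PE p y → C[x] ≤ C[y] → C[y] = C[x] :=
    fun x y h1 h2 h3 h4 h5 => (S x h1 h2).is_maximal' (h y h3 h4).1 h5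
  have hyp := pe_of_mem (h x₀ hx hxp).1 hc
  have h2 : ∀ x : G, PE p x → x ^ p = 1 := fun x h1 => by
    by_contra h3
    have h4 : x ≠ 1 := by rintro rfl; simp at h3
    obtain ⟨g, hg⟩ := MulAction.exists_smul_eq G (S x₀ hx hxp) (S x h4 h1)
    have h5 : C[g * x₀ * g⁻¹] = C[x] := by
      rw [← cj_cent]; exact congrArg Sylow.toSubgroup hg
    obtain ⟨y, h6, h7⟩ := Coprime.exists_mem_orderOf_prime (R := zpowers (g * y₀ * g⁻¹)) (by simpa using hy)
    have h8 : g * y₀ * g⁻¹ ∈ C[x] := by rw [← h5, ← cj_cent]; exact conj_mem_cj.2 hc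
    have h9 : y ∈ C[x] := zpowers_le.2 h8 h6
    have h10 := pe_of_mem (h x h4 h1).1 h9
    have h11 : y ≠ 1 := by rintro rfl; simp at h7; exact Nat.not_prime_one h7
    have h12 : y ^ p = 1 := by
      obtain ⟨k, hk⟩ := (Hall.isPGroup_zpowers_iff hp).1 h10
      rw [← (Nat.prime_dvd_prime_iff_eq h7 hp).1 (h7.dvd_of_dvd_pow hk.dvd), pow_orderOf_eq_one]
    have h13 : C[y] ≠ C[x] := fun e => hne (by
      rw [hle _ y (by simpa using hy) (hyp.conj g) h11 h10 (cent_le_of_mem_zpowers h6), ← h5, ← cj_cent,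
        ← cj_cent] at e
      exact cj_inj.1 e)
    have h14 : Commute x y := (mem_cent_iff.1 h9).symm
    have h15 : (x * y) ^ p = x ^ p := by rw [h14.mul_pow, h12, mul_one]
    have h16 := pe_of_mem (h x h4 h1).1 (pow_mem (self_mem_cent x) p)
    have h17 : C[x * y] = C[x] := by
      rw [← hle x _ h4 h1 h3 h16 (cent_le_of_mem_zpowers (npow_mem_zpowers x p)), ← h15]
      exact (hle _ _ (fun e => h3 (by rw [← h15, e, one_pow])) (pe_of_mem (h x h4 h1).1
        (mul_mem (self_mem_cent x) h9)) (h15 ▸ h3) (h15 ▸ h16)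
        (cent_le_of_mem_zpowers (npow_mem_zpowers _ p))).symm
    refine h13 (hle x y h4 h1 h11 h10 fun z hz => ?_)
    have := cent_inf_le_mul x⁻¹ (x * y) ⟨by rwa [cent_inv], h17 ▸ hz⟩
    rwa [inv_mul_cancel_left] at this
  by_cases hp2 : p = 2
  · subst hp2
    refine hne (hle _ _ hx hxp hy hyp fun z hz => mem_cent_iff.2 ?_)
    have e := fun w (hw : w ∈ C[x₀]) => (eq_inv_iff_mul_eq_one.2 (sq w ▸ h2 w (pe_of_mem (h x₀ hx hxp).1 hw)) : w = w⁻¹)
    rw [e _ (mul_mem hz hc), mul_inv_rev, ← e _ hz, ← e _ hc]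
  have := ti (fun M => closed hp hp2 (fun x h1 h3 => ?_) fun x h3 => Subtype.ext (h2 x ?_))
    (P₀ := S y₀ hy hyp) (P₁ := S x₀ hx hxp) fun e => hne (congrArg Sylow.toSubgroup e)
  · exact hy (mem_bot.1 (this ▸ ⟨self_mem_cent y₀, hc⟩))
  · rw [← cent_subgroupOf]
    exact isPGroup_subgroupOf (h x (fun e => h1 (Subtype.ext e)) (by
      have := h3.map M.subtype
      rwa [MonoidHom.map_zpowers] at this)).1 M
  · have := h3.map M.subtype
    rwa [MonoidHom.map_zpowers] at this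

end Cfsg.Lib.Block.CsL
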