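import Cfsg.Agent.Lib.Block.CsL2
import Cfsg.Agent.Lib.Exc.PSL
import Cfsg.Agent.Lib.BN.ZassFeit
import Cfsg.Agent.Lib.Small.Simple

/-! Groups with the class sizes of `PSL₂(q)`, III: the central quotient is a Zassenhaus group. -/

set_option autoImplicit false
set_option linter.unusedSectionVars false
set_option maxHeartbeats 400000

namespace Cfsg.Lib.Block.CsL

open Subgroup Cfsg.Lib.Hall Cfsg.Lib.CS3 Cfsg.Lib.Transfer Cfsg.Lib.Core QuotientGroup MulAction Cfsg.Lib.BN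

universe u

variable {G : Type u} [Group G] [Finite G] {p : ℕ}

theorem pow_mem_cent {g x : G} {n : ℕ} (h : (g : G ⧸ center G) ∈ C[(x : G ⧸ center G)]) (hx : x ^ n = 1) :
    g ^ n ∈ C[x] := by
  have h1 : (x * g)⁻¹ * (g * x) ∈ center G := QuotientGroup.eq.1 (mem_cent_iff.1 h).symm
  set z := (x * g)⁻¹ * (g * x) with hz
  have h2 : g * x = x * z * g := by rw [mul_assoc, ← mem_center_iff.1 h1 g, hz]; group
  have h3 : ∀ m : ℕ, g ^ m * x = x * z ^ m * g ^ m := fun m => by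
    induction m with
    | zero => simp
    | succ m ih =>
      rw [pow_succ, mul_assoc, h2, ← mul_assoc, ← mul_assoc, ih, mul_assoc _ _ z, mem_center_iff.1 h1, pow_succ z]
      simp only [mul_assoc]
  have h4 : z ^ n = 1 := by
    have h5 : (g * x * g⁻¹) ^ n = 1 := by rw [conj_pow, hx]; simp
    rwa [h2, mul_inv_cancel_right, (show Commute x z from mem_center_iff.1 h1 x).mul_pow, hx, one_mul] at h5
  rw [mem_cent_iff, h3, h4, mul_one]

theorem cs_eq_pow_mul {s : ℕ} (hs : s.Prime) {x : G} (hx : PE s x) :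
    ∃ k, cs x = s ^ k * cs (x : G ⧸ center G) := by
  have h1 : C[x] ≤ C[(x : G ⧸ center G)].comap (mk' (center G)) := map_le_iff_le_comap.1 (map_cent_le _ x)
  have h0 := Nat.eq_prime_pow_of_unique_prime_dvd (p := s)
    (n := C[x].relIndex (C[(x : G ⧸ center G)].comap (mk' (center G)))) index_ne_zero_of_finite fun {r} hr hd => by
    by_contra e
    obtain ⟨v, h2, h3, h4⟩ := exists_pe_of_dvd hr hd
    obtain ⟨k, hk⟩ := isPGroup_iff_forall_mem.1 hx x (mem_zpowers x)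
    exact h3 (Hall.mem_of_pow_mem_of_coprime (coprime_orderOf_of_isPGroup hr h4
      (((Nat.coprime_primes hs hr).2 (Ne.symm e)).pow_left k)).symm (pow_mem_cent h2 hk))
  exact ⟨_, by rw [← h0, ← relIndex_mul_index h1, index_comap_of_surjective _ (mk'_surjective _)]⟩

theorem Hy.quot {f A : ℕ} (h : Hy G p f A) {y : G ⧸ center G} (hy : y ≠ 1) (hp : PE p y) : cs y = A := by
  obtain ⟨x, rfl, hx⟩ := exists_lift_isPGroup (mk'_surjective (center G)) h.hp hp
  obtain ⟨k, hk⟩ := cs_eq_pow_mul h.hp hx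
  rw [h.cs_pe (fun e => hy ((eq_one_iff x).2 e)) hx] at hk
  rcases k with _ | k
  · simpa using hk.symm
  · exact (h.pA (hk ▸ (dvd_pow_self p k.succ_ne_zero).mul_right _)).elim

theorem arith {q d w n : ℕ} (hq : 1 < q) (hd : d = 1 ∨ d = 2) (hw : w < q) (hn : n ≡ 1 [MOD q])
    (h : d * (w * n) + 1 = q ^ 2) : n = q + 1 := by
  have h1 : q ∣ d * w + 1 := by
    have := ((hn.mul_left w).mul_left d).add_right 1
    rw [h, mul_one] at this
    exact (Nat.modEq_zero_iff_dvd.1 (this.symm.trans (Nat.modEq_zero_iff_dvd.2 (dvd_pow_self q two_ne_zero))))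
  obtain ⟨c, hc⟩ := h1
  have h2 : c = 1 := by
    rcases c with _ | _ | c
    · omega
    · rfl
    · rcases hd with rfl | rfl <;> nlinarith
  subst h2
  rw [← mul_assoc] at h
  obtain ⟨m, hm⟩ : ∃ m, m = d * w := ⟨_, rfl⟩
  rw [← hm] at h hc
  obtain rfl : q = m + 1 := by omega
  exact Nat.eq_of_mul_eq_mul_left (show 0 < m by omega) (by nlinarith)

theorem psl_of_cent (hp : p.Prime) {f A d : ℕ} (hf : 0 < f) (hpA : ¬ p ∣ A) (hG : Nat.card G = p ^ f * A)
    (h : ∀ x : G, x ≠ 1 → PE p x → cs x = A) (hd : d = 1 ∧ p = 2 ∨ d = 2 ∧ 3 < p ^ f)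
    (hA : d * A + 1 = (p ^ f) ^ 2) (hN : d = 2 → ∀ N : Subgroup G, N.Normal → Nat.card N ≠ p ^ f + 1) :
    ∃ (k : Type u) (_ : Field k) (_ : Finite k), Nat.card k = p ^ f ∧ Nonempty (G ≃* Linear.PSL2 k) := by
  haveI := Fact.mk hp
  have hA0 : 0 < A := Nat.pos_of_ne_zero fun e => hpA (e ▸ dvd_zero p)
  have hc : ∀ x : G, x ≠ 1 → PE p x → Nat.card C[x] = p ^ f := fun x h1 h2 =>
    Nat.eq_of_mul_eq_mul_right hA0 (by rw [← hG, ← h x h1 h2, card_mul_index])
  have h1 : ∀ x : G, x ≠ 1 → PE p x → IsPGroup p C[x] ∧ ¬ p ∣ cs x := fun x h1 h2 =>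
    ⟨IsPGroup.of_card (hc x h1 h2), h x h1 h2 ▸ hpA⟩
  obtain ⟨x, hx⟩ := exists_prime_orderOf_dvd_card' (G := G) p (hG ▸ (dvd_pow_self p hf.ne').mul_right _)
  have hx1 : x ≠ 1 := by rintro rfl; simp at hx; exact hp.one_lt.ne hx
  have hxp : PE p x := isPGroup_zpowers_of_orderOf (k := 1) (by rw [hx, pow_one])
  have hC : ∀ y ∈ C[x], y ≠ 1 → C[y] = C[x] := fun y h2 h3 => cent_eq hp h1 hx1 hxp h3 h2
  have hti : ∀ g, ∀ y ∈ C[x], y ≠ 1 → g * y * g⁻¹ ∈ C[x] → g ∈ normalizer (C[x] : Set G) := fun g y h2 h3 h4 =>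
    mem_normalizer_of_cj_le (le_of_eq <| by rw [← hC y h2 h3, cj_cent, hC y h2 h3, hC _ h4 (by simpa using h3)])
  have hq := hc x hx1 hxp
  have hq2 : 2 ≤ p ^ f := Nat.one_lt_pow hf.ne' hp.one_lt
  let P := (h1 x hx1 hxp).1.toSylow (h1 x hx1 hxp).2
  have h2 := Small.card_sylow_modEq_one_of_relIndex P (m := p ^ f) fun R hR => by
    obtain ⟨g, rfl⟩ := exists_smul_eq G P R
    rw [← inf_relIndex_right, show ((g • P : Sylow p G) : Subgroup G) ⊓ P = ⊥ from eq_bot_iff.2 fun y hy =>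
      by_contra fun e => hR (Sylow.smul_eq_iff_mem_normalizer.2 (inv_mem_iff.1 (hti g⁻¹ y hy.2 e
        (by rw [inv_inv]; exact mem_cj.1 hy.1)))), relIndex_bot_left]
    exact hq.symm.dvd
  rw [Sylow.card_eq_index_normalizer P] at h2
  have h3 : C[x].relIndex (normalizer (C[x] : Set G)) < p ^ f := hq ▸ index_lt_card _
    (fun a : normalizer (C[x] : Set G) => (⟨a * x * a⁻¹, Core.conj_mem_of_mem_normalizer a.2 (self_mem_cent x)⟩ : C[x]))
    (fun a b e => mem_cent_iff.2 (by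
      have : (a : G) * x * (a : G)⁻¹ = b * x * (b : G)⁻¹ := congrArg Subtype.val e
      calc (a : G)⁻¹ * b * x = (a : G)⁻¹ * (b * x * (b : G)⁻¹) * b := by group
        _ = _ := by rw [← this]; simp [mul_assoc])) 1 fun a e => hx1 (by simpa using congrArg Subtype.val e)
  have h4 : (normalizer (C[x] : Set G)).index = Nat.card C[x] + 1 := hq ▸
    arith hq2 (hd.imp And.left And.left) h3 h2 (by rw [relIndex_mul_index le_normalizer, h x hx1 hxp, hA])
  obtain ⟨z, hK⟩ := Exc.z3_of_ti (fun y h2 h3 => (hC y h2 h3).le) hti h4 (hq ▸ hq2)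
  obtain ⟨b, hab⟩ := z.exists_ne ((1 : G) : G ⧸ normalizer (C[x] : Set G))
  have h5 := z.card_G hab
  have h6 := z.card_K ((1 : G) : G ⧸ normalizer (C[x] : Set G))
  rw [hK, hq] at h5 h6
  have h7 : d * Nat.card (E2 G ((1 : G) : G ⧸ normalizer (C[x] : Set G)) b) + 1 = p ^ f := by
    rw [hG, mul_comm (p ^ f + 1), mul_assoc, Nat.mul_right_inj (by omega)] at h5
    rw [h5] at hA
    refine Nat.eq_of_mul_eq_mul_left (Nat.succ_pos (p ^ f)) ?_
    nlinarith
  rcases hd with ⟨rfl, rfl⟩ | ⟨rfl, h8⟩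
  · obtain ⟨k, _, _, hk, e⟩ := z.pgl_of_sharp_odd hab (by rw [hK, hq]; omega)
      (h6 ▸ (Nat.even_pow.2 ⟨even_two, hf.ne'⟩).add_one)
    rw [hK, hq] at hk
    exact ⟨k, _, ‹_›, hk, psl_of_pgl_even (hk ▸ Nat.even_pow.2 ⟨even_two, hf.ne'⟩) e⟩
  · have hZ : IsZassenhausGroup G (G ⧸ normalizer (C[x] : Set G)) := by
      refine ⟨⟨fun {a b} e => inv_mul_eq_one.1 (z.faithful fun c => by rw [mul_smul, ← e, inv_smul_smul])⟩,
        is_two_pretransitive_iff.2 fun h1 h2 => z.two h1 h2, fun g a b c => z.three, ?_,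
        fun N h9 h10 => ⟨b, fun e => hN rfl N h9 ?_⟩⟩
      · obtain ⟨g, h9, h10⟩ := (E2 G ((1 : G) : G ⧸ normalizer (C[x] : Set G)) b).bot_or_exists_ne_one.resolve_left
          fun e => by rw [e, card_bot] at h7; omega
        exact ⟨g, h10, _, _, hab, h9.1, h9.2⟩
      · rw [h6, ← @index_stabilizer_of_transitive N _ _ _ b h10]
        exact index_bot.symm.trans (congrArg index e.symm)
    obtain ⟨k, _, _, hk, -, e⟩ := zass_psl_of_half hZ z hab (by rw [hK, hq]; omega)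
    exact ⟨k, _, ‹_›, by rw [hk, hK, hq], e⟩

end Cfsg.Lib.Block.CsL
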