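import Cfsg.Agent.Lib.Block.CsL3
import Cfsg.Agent.Lib.Mult.Transfer
import Cfsg.Agent.Lib.Known.PSL2
import Cfsg.Agent.S2507
import Cfsg.Agent.S2508

/-! Groups with the class sizes of `PSL₂(q)`, IV: the central quotient. -/

set_option autoImplicit false
set_option linter.unusedSectionVars false
set_option maxHeartbeats 400000

namespace Cfsg.Lib.Block.CsL

open Subgroup Cfsg.Lib.Hall Cfsg.Lib.CS3 Cfsg.Lib.Transfer Cfsg.Lib.Core QuotientGroup

universe u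

variable {G : Type u} [Group G] [Finite G]

/-- the class sizes are `1, uv, qu, qv` and possibly `2qu` -/
structure Sz (G : Type*) [Group G] (p f u v : ℕ) : Prop where
  hp : p.Prime
  hf : 0 < f
  hu : 1 < u
  hv : 2 < v
  pu : ¬ p ∣ u
  pv : ¬ p ∣ v
  uv : u.Coprime v
  all : ∀ x : G, x ∉ center G →
    cs x = u * v ∨ cs x = p ^ f * u ∨ cs x = p ^ f * v ∨ (2 ∣ v ∧ cs x = p ^ f * (2 * u))
  exA : ∃ x : G, cs x = u * v
  exU : ∃ x : G, cs x = p ^ f * u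
  exV : ∃ x : G, cs x = p ^ f * v

namespace Sz
variable {p f u v : ℕ} (h : Sz G p f u v)
include h

theorem qu : (p ^ f).Coprime u := (h.hp.coprime_iff_not_dvd.2 h.pu).pow_left f
theorem qv : (p ^ f).Coprime v := (h.hp.coprime_iff_not_dvd.2 h.pv).pow_left f
theorem pA : ¬ p ∣ u * v := h.hp.not_dvd_mul h.pu h.pv
theorem q0 : 0 < p ^ f := pow_pos h.hp.pos f
theorem pq (m : ℕ) : ¬ p ^ f * m ∣ u * v := fun e => h.pA (((dvd_pow_self p h.hf.ne').mul_right m).trans e)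

theorem u_dvd {m : ℕ} (e : u ∣ p ^ f * v * m) : u ∣ m := (h.qu.symm.mul_right h.uv).dvd_of_dvd_mul_left e
theorem v_dvd {m : ℕ} (e : v ∣ p ^ f * u * m) : v ∣ m := (h.qv.symm.mul_right h.uv.symm).dvd_of_dvd_mul_left e

theorem nu : ¬ u ∣ p ^ f * v := fun e => h.hu.ne' (Nat.dvd_one.1 (h.u_dvd (by rwa [mul_one])))
theorem nv : ¬ v ∣ p ^ f * (2 * u) := fun e => h.hv.not_ge (Nat.le_of_dvd two_pos (h.v_dvd (by
  rwa [mul_assoc, mul_comm u])))
theorem nv' : ¬ v ∣ p ^ f * u := fun e => h.nv (e.trans (Nat.mul_dvd_mul_left _ (Dvd.intro_left 2 rfl)))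

theorem hy : Hy G p f (u * v) := by
  have nc : ∀ {x : G} {a b : ℕ}, 1 < b → 0 < a → cs x = a * b → x ∉ center G := fun h1 h2 e hc => by
    rw [cs_eq_one_iff.2 hc] at e; nlinarith
  have hv := h.hv
  have hu := h.hu
  obtain ⟨x, hx⟩ := h.exA
  obtain ⟨y, hy⟩ := h.exU
  obtain ⟨z, hz⟩ := h.exV
  refine ⟨h.hp, h.hf, ⟨x, nc (by omega) (by omega) hx, hx⟩, h.pA, fun w hw => ?_, fun a b _ hb e h1 => ?_,
    ⟨z, nc (by omega) h.q0 hz, fun e => h.pq v (hz.symm.trans e).dvd, fun w hw h1 => ?_,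
      _, Nat.minFac_prime hu.ne', (Nat.minFac_dvd u).mul_right v, fun e => ?_⟩, fun s hs hsp w hw => ?_,
    fun s hs h1 => ?_⟩
  · rcases h.all w hw with e | e | e | ⟨h2, e⟩
    exacts [Or.inl e, Or.inr ⟨_, h.pu, e⟩, Or.inr ⟨_, h.pv, e⟩, Or.inr ⟨_, h.hp.not_dvd_mul
      (fun h3 => h.pv (h3.trans h2)) h.pu, e⟩]
  · rw [e] at h1 ⊢
    rcases h.all b hb with e | e | e | ⟨-, e⟩ <;> rw [e] at h1 ⊢
    · exact (h1.elim (fun h2 => h.nv' ((Dvd.intro_left u rfl).trans h2)) (h.pq _)).elim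
    · exact (h1.elim (fun h2 => h.nu ((Dvd.intro v rfl).trans h2)) (h.pq _)).elim
    · exact (h1.elim (fun h2 => h.nv ((Dvd.intro_left u rfl).trans h2)) (h.pq _)).elim
  · rw [hz] at h1 ⊢
    rcases h.all w hw with e | e | e | ⟨-, e⟩ <;> rw [e] at h1 ⊢
    · exact (h1.elim (h.pq _) fun h2 => h.nu ((Dvd.intro v rfl).trans h2)).elim
    · exact (h1.elim (fun h2 => h.nv' ((Dvd.intro_left _ rfl).trans h2))
        fun h2 => h.nu ((Dvd.intro_left _ rfl).trans h2)).elim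
    · exact (h1.elim (fun h2 => h.nv ((Dvd.intro_left _ rfl).trans h2))
        fun h2 => h.nu (((Dvd.intro_left 2 rfl).mul_left _).trans h2)).elim
  · exact (Nat.minFac_prime hu.ne').one_lt.ne' (Nat.eq_one_of_dvd_coprimes (h.qu.symm.mul_right h.uv)
      (Nat.minFac_dvd u) (hz ▸ e))
  · have h2 : ∀ m, s ∣ p ^ f * m → s ∣ m := fun m =>
      (((Nat.coprime_primes hs h.hp).2 hsp).pow_right f).dvd_of_dvd_mul_left
    rcases h.all w (fun e => hs.one_lt.ne' (Nat.dvd_one.1 (cs_eq_one_iff.2 e ▸ hw))) with e | e | e | ⟨h3, e⟩ <;>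
      rw [e] at hw
    exacts [hw, (h2 _ hw).mul_right v, (h2 _ hw).mul_left u,
      (h2 _ hw).trans (mul_comm u v ▸ Nat.mul_dvd_mul_right h3 u)]
  · rcases hs.dvd_mul.1 h1 with h2 | h2
    · exact ⟨z, nc (by omega) h.q0 hz, fun e => hs.one_lt.ne' (Nat.eq_one_of_dvd_coprimes
        (h.qu.symm.mul_right h.uv) h2 (hz ▸ e))⟩
    · exact ⟨y, nc hu h.q0 hy, fun e => hs.one_lt.ne' (Nat.eq_one_of_dvd_coprimes
        (h.qv.symm.mul_right h.uv.symm) h2 (hy ▸ e))⟩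

theorem card_ne (h2 : 2 ∣ v) (N : Subgroup (G ⧸ center G)) (hN : N.Normal) : Nat.card N ≠ p ^ f + 1 := fun e => by
  haveI : Fact (Nat.Prime 2) := ⟨Nat.prime_two⟩
  have hq : (p ^ f * u).Coprime 2 := (h.qv.mul_left h.uv).coprime_dvd_right h2
  obtain ⟨y, hy⟩ := exists_prime_orderOf_dvd_card' (G := N) 2
    (e ▸ (Nat.coprime_two_right.1 hq.coprime_mul_right).add_one.two_dvd)
  rw [← orderOf_coe] at hy
  have hy1 : (y : G ⧸ center G) ≠ 1 := fun e => by simp [e] at hy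
  obtain ⟨x, hx, h3⟩ := exists_lift_isPGroup (mk'_surjective (center G)) Nat.prime_two
    (isPGroup_zpowers_of_orderOf (x := (y : G ⧸ center G)) (k := 1) hy)
  obtain ⟨k, hk⟩ := cs_eq_pow_mul Nat.prime_two h3
  have hz : x ∉ center G := fun e => hy1 (hx ▸ (eq_one_iff x).2 e)
  have h4 : cs (y : G ⧸ center G) < Nat.card N := index_lt_card _
    (fun a => (⟨a * y * a⁻¹, hN.conj_mem _ y.2 a⟩ : N)) (fun a b e => mem_cent_iff.2 (by
      have : a * y * a⁻¹ = b * y * b⁻¹ := congrArg Subtype.val e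
      calc a⁻¹ * b * y = a⁻¹ * (b * y * b⁻¹) * b := by group
        _ = _ := by rw [← this]; simp [mul_assoc])) 1 fun a e => hy1 (by simpa using congrArg Subtype.val e)
  have h5 := Nat.mul_dvd_mul_right (dvd_relIndex_of_pe Nat.prime_two (H := C[x]) le_normalizer_of_normal
    (self_mem_cent x) hz h3) (cs x)
  rw [idx, h.hy.index] at h5
  have h6 : ¬ p ^ f * u ∣ cs x := fun h6 => by
    have := Nat.le_of_dvd (cs_pos _) ((hq.pow_right k).dvd_of_dvd_mul_left (hk ▸ h6))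
    rw [show (x : G ⧸ center G) = y from hx] at this
    have := h.hu
    have := h.q0
    nlinarith
  have hv := h.hv
  have hu := h.hu
  rcases h.all x hz with e | e | e | ⟨-, e⟩ <;> rw [e] at h5 h6
  · exact absurd (Nat.eq_one_of_dvd_coprimes hq ((Nat.dvd_of_mul_dvd_mul_right (by positivity) h5).mul_right u)
      dvd_rfl) (by decide)
  · exact h6 dvd_rfl
  · rw [mul_left_comm, mul_left_comm _ u] at h5
    rw [mul_left_comm] at h5
    exact absurd (Nat.eq_one_of_dvd_coprimes hq ((Nat.dvd_of_mul_dvd_mul_right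
      (Nat.mul_pos h.q0 (by omega)) h5).mul_left _) dvd_rfl) (by decide)
  · exact h6 (Nat.mul_dvd_mul_left _ (Dvd.intro_left 2 rfl))

theorem psl {F : Type*} [Field F] [Finite F] (hF : Nat.card F = p ^ f) {d : ℕ}
    (hd : d = 1 ∧ p = 2 ∨ d = 2 ∧ 3 < p ^ f ∧ 2 ∣ v) (hA : d * (u * v) + 1 = (p ^ f) ^ 2) :
    Nonempty (G ⧸ center G ≃* Linear.PSL2 F) := by
  obtain ⟨k, _, _, hk, ⟨e⟩⟩ := psl_of_cent (G := G ⧸ center G) h.hp h.hf h.pA h.hy.index
    (fun _ => h.hy.quot) (hd.imp_right fun h => ⟨h.1, h.2.1⟩) hA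
    fun e => h.card_ne (hd.elim (fun h => by omega) fun h => h.2.2)
  obtain ⟨e'⟩ := Linear.nonempty_psl_equiv_of_card_eq (ι := Fin 2) (hk.trans hF.symm)
  exact ⟨e.trans e'⟩

end Sz

theorem sz_of {F : Type*} [Field F] [Fintype F]
    (hq : (2 ∣ Fintype.card F ∧ 2 < Fintype.card F) ∨ (¬ 2 ∣ Fintype.card F ∧ 7 ≤ Fintype.card F))
    (h : Set.range (fun g : G => cs g) = Set.range (fun g : Linear.PSL2 F => cs g)) :
    ∃ p f u v d, Sz G p f u v ∧ Nat.card F = p ^ f ∧ (d = 1 ∧ p = 2 ∨ d = 2 ∧ 3 < p ^ f ∧ 2 ∣ v) ∧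
      d * (u * v) + 1 = (p ^ f) ^ 2 := by
  obtain ⟨p, _, f, hp, hF⟩ := FiniteField.card' F
  have hpq : p ∣ Fintype.card F := hF ▸ dvd_pow_self p f.ne_zero
  have np : ∀ {a b : ℕ}, a * b + 1 = Fintype.card F ^ 2 → ¬ p ∣ a ∧ ¬ p ∣ b := fun {a b} e => by
    have : ¬ p ∣ a * b := fun h1 => hp.one_lt.ne' (Nat.dvd_one.1 ((Nat.dvd_add_right h1).1
      (e ▸ dvd_pow hpq two_ne_zero)))
    exact ⟨fun h1 => this (h1.mul_right b), fun h1 => this (h1.mul_left a)⟩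
  have mem : ∀ {S : Set ℕ}, Set.range (fun g : Linear.PSL2 F => cs g) = insert 1 S →
      (∀ x : G, x ∉ center G → cs x ∈ S) ∧ ∀ m ∈ S, ∃ x : G, cs x = m := fun {S} e =>
    ⟨fun x hx => ((h.trans e).le ⟨x, rfl⟩).resolve_left (mt cs_eq_one_iff.1 hx),
      fun m hm => (h.trans e).ge (Or.inr hm)⟩
  rw [Nat.card_eq_fintype_card]
  rcases hq with ⟨h1, h2⟩ | ⟨h1, h2⟩
  · obtain ⟨h3, h4⟩ := mem (Agent.S2507.result h1 (by omega))
    obtain ⟨v, hv⟩ : ∃ v, Fintype.card F = v + 1 := ⟨_, (Nat.sub_add_cancel (by omega)).symm⟩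
    have e : (v + 2) * v + 1 = Fintype.card F ^ 2 := by rw [hv]; ring
    simp only [Set.mem_insert_iff, Set.mem_singleton_iff, ← e, Nat.add_sub_cancel, forall_eq_or_imp, forall_eq,
      show Fintype.card F - 1 = v by omega, show Fintype.card F + 1 = v + 2 by omega] at h3 h4
    refine ⟨p, f, v + 2, v, 1, ⟨hp, f.pos, by omega, by omega, (np e).1, (np e).2, ?_, fun x hx => ?_,
      h4.2.1, hF ▸ h4.2.2, hF ▸ h4.1⟩, hF, Or.inl ⟨rfl, ((Nat.prime_dvd_prime_iff_eq Nat.prime_two hp).1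
        (Nat.prime_two.dvd_of_dvd_pow (hF ▸ h1))).symm⟩, by rw [one_mul, e, hF]⟩
    · rw [add_comm, Nat.coprime_add_self_left]
      exact Nat.coprime_two_left.2 (Nat.odd_iff.2 (show v % 2 = 1 by omega))
    · rw [← hF]; have := h3 x hx; tauto
  have key : ∀ u v : ℕ, 1 < u → 2 < v → 2 ∣ v → u.Coprime v → 2 * (u * v) + 1 = Fintype.card F ^ 2 →
      Set.range (fun g : Linear.PSL2 F => cs g) =
        {1, u * v, Fintype.card F * u, Fintype.card F * v, Fintype.card F * (2 * u)} →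
      ∃ p f u v d, Sz G p f u v ∧ Fintype.card F = p ^ f ∧ (d = 1 ∧ p = 2 ∨ d = 2 ∧ 3 < p ^ f ∧ 2 ∣ v) ∧
        d * (u * v) + 1 = (p ^ f) ^ 2 := fun u v hu hv h3 h4 e h5 => by
    obtain ⟨h6, h7⟩ := mem h5
    simp only [Set.mem_insert_iff, Set.mem_singleton_iff, forall_eq_or_imp, forall_eq] at h6 h7
    refine ⟨p, f, u, v, 2, ⟨hp, f.pos, hu, hv, fun h8 => (np e).2 (h8.mul_right v),
      fun h8 => (np e).2 (h8.mul_left u), h4, fun x hx => ?_, h7.1, hF ▸ h7.2.1, hF ▸ h7.2.2.1⟩, hF,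
      Or.inr ⟨rfl, by omega, h3⟩, hF ▸ e⟩
    rw [← hF]; have := h6 x hx; tauto
  obtain ⟨h3, h4⟩ := Agent.S2508.result h1 h2
  obtain ⟨k, hk | hk⟩ : ∃ k, Fintype.card F = 4 * k + 1 ∨ Fintype.card F = 4 * k + 3 := ⟨Fintype.card F / 4, by omega⟩
  · refine key (2 * k + 1) (4 * k) (by omega) (by omega) (by omega) ?_ (by rw [hk]; ring) ?_
    · exact Nat.Coprime.mul_right (Nat.Coprime.pow_right 2 (Nat.coprime_two_right.2 (odd_two_mul_add_one k)))
        (by simp)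
    · rw [h3 (by omega), hk, show (4 * k + 1) ^ 2 - 1 = 2 * ((2 * k + 1) * (4 * k)) by
        rw [Nat.sub_eq_iff_eq_add (Nat.one_le_pow _ _ (by omega))]; ring, Nat.mul_div_cancel_left _ two_pos,
        show 4 * k + 1 + 1 = 2 * (2 * k + 1) by ring,
        show (4 * k + 1) * (2 * (2 * k + 1)) / 2 = (4 * k + 1) * (2 * k + 1) by
          rw [mul_left_comm, Nat.mul_div_cancel_left _ two_pos], Nat.add_sub_cancel]
  · refine key (2 * k + 1) (4 * (k + 1)) (by omega) (by omega) (by omega) ?_ (by rw [hk]; ring) ?_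
    · refine Nat.Coprime.mul_right (Nat.Coprime.pow_right 2 (Nat.coprime_two_right.2 (odd_two_mul_add_one k))) ?_
      rw [show 2 * k + 1 = k + (k + 1) by ring, Nat.coprime_add_self_left]; simp
    · rw [h4 (by omega), hk, show (4 * k + 3) ^ 2 - 1 = 2 * ((2 * k + 1) * (4 * (k + 1))) by
        rw [Nat.sub_eq_iff_eq_add (Nat.one_le_pow _ _ (by omega))]; ring, Nat.mul_div_cancel_left _ two_pos,
        show 4 * k + 3 - 1 = 2 * (2 * k + 1) by omega,
        show (4 * k + 3) * (2 * (2 * k + 1)) / 2 = (4 * k + 3) * (2 * k + 1) by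
          rw [mul_left_comm, Nat.mul_div_cancel_left _ two_pos], show 4 * k + 3 + 1 = 4 * (k + 1) by ring]

end Cfsg.Lib.Block.CsL
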