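import Cfsg.Agent.Lib.Block.CsL4
import Cfsg.Agent.Lib.Exc.AC2
import Cfsg.Agent.Lib.PGrp.Cyclic

/-! Groups with the class sizes of `PSL₂(q)`, V: the derived group meets the centre trivially. -/

set_option autoImplicit false
set_option linter.unusedSectionVars false
set_option maxHeartbeats 400000

namespace Cfsg.Lib.Block.CsL

open Subgroup Cfsg.Lib.Hall Cfsg.Lib.CS3 Cfsg.Lib.Transfer Cfsg.Lib.Core QuotientGroup Cfsg.Lib.Known
  Cfsg.Lib.Linear
open scoped commutatorElement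

universe u

variable {G : Type u} [Group G] [Finite G]

theorem cent_le_comap {Y : Type*} [Group Y] (π : G →* Y) (x : G) : C[x] ≤ (C[π x]).comap π := fun g hg => by
  rw [mem_comap, mem_cent_iff, ← map_mul, mem_cent_iff.1 hg, map_mul]

theorem Hy.comap {p f A : ℕ} (h : Hy G p f A) {x : G} (hx : x ∉ center G) (hp : PE p x) :
    C[x] = (C[(x : G ⧸ center G)]).comap (mk' (center G)) := by
  refine eq_of_le_of_index_le (cent_le_comap (mk' (center G)) x) ?_
  rw [index_comap_of_surjective _ (mk'_surjective _)]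
  refine (h.cs_pe hx hp).le.trans (h.quot (mt (eq_one_iff x).1 hx) ?_).ge
  have := hp.map (mk' (center G))
  rwa [MonoidHom.map_zpowers] at this

theorem Hy.comm {p f A : ℕ} (h : Hy G p f A) {u : G} (hu : u ∉ center G) (hp : PE p u) :
    ⁅C[u], C[u]⁆ = ⊥ := by
  have pe : ∀ {x : G}, PE p x → PE p (x : G ⧸ center G) := fun hp => by
    have := hp.map (mk' (center G))
    rwa [MonoidHom.map_zpowers] at this
  rw [commutator_eq_bot_iff_le_centralizer]
  intro x hx g hg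
  obtain ⟨a, ha, b, hb, e, h1, h2⟩ := exists_pPart h.hp x
  have h3 := h.mem_center hu hp (zpowers_le.2 hx hb) h2
  have h4 : g ∈ C[a] := by
    by_cases h4 : a ∈ center G
    · exact mem_cent_iff.2 (mem_center_iff.1 h4 g)
    rw [h.comap h4 h1, cent_eq (G := G ⧸ center G) h.hp (fun y hy h5 => ?_) (mt (eq_one_iff u).1 hu) (pe hp)
      (mt (eq_one_iff a).1 h4) (cent_le_comap (mk' (center G)) u (zpowers_le.2 hx ha)), ← h.comap hu hp]
    · exact hg
    have h6 := h.quot hy h5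
    refine ⟨IsPGroup.of_card (n := f) (Nat.eq_of_mul_eq_mul_right (Nat.pos_of_ne_zero fun e : A = 0 =>
      h.pA (e ▸ dvd_zero p)) ?_), h6 ▸ h.pA⟩
    rw [← h.index, ← h6, card_mul_index]; rfl
  rw [e, ← mul_assoc, mem_cent_iff.1 h4, mul_assoc, mem_center_iff.1 h3 g, mul_assoc]

theorem dih {Y : Type*} [Group Y] [Finite Y] {π : G →* Y} (hZ : π.ker = center G) {T : Subgroup Y}
    (hT : IsCyclic T) {y : G} (hy : π y ∈ T) (h2 : orderOf (π y) = 2) {w : Y} (hw : ∀ t ∈ T, w * t * w⁻¹ = t⁻¹)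
    (hC : ∀ c ∈ C[π y], c ∈ T ∨ c * w⁻¹ ∈ T) : ⁅C[y], C[y]⁆ ⊓ center G = ⊥ := by
  have cm : ∀ {a b : G}, π a ∈ T → π b ∈ T → a * b = b * a := fun {a b} ha hb => by
    have := (π.subgroupComap T).isMulCommutative_of_isCyclic_of_ker_le_center fun y hy => mem_center_iff.2
      fun z => Subtype.ext (mem_center_iff.1 (hZ.le (congrArg Subtype.val hy)) z)
    exact congrArg Subtype.val (this.is_comm.comm ⟨a, ha⟩ ⟨b, hb⟩)
  have cT : ∀ {a b : Y}, a ∈ T → b ∈ T → a * b = b * a := fun {a b} ha hb =>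
    congrArg Subtype.val (hT.isMulCommutative.is_comm.comm ⟨a, ha⟩ ⟨b, hb⟩)
  by_cases h : ∀ c ∈ C[y], π c ∈ T
  · rw [commutator_eq_bot_iff_le_centralizer.2 fun x hx g hg => cm (h g hg) (h x hx), bot_inf_eq]
  push Not at h
  obtain ⟨b, hb, hb'⟩ := h
  have h3 := (hC _ (cent_le_comap π y hb)).resolve_left hb'
  have inv : ∀ {t : G}, π t ∈ T → π (b * t * b⁻¹) = (π t)⁻¹ := fun {t} ht => by
    have := cT h3 (inv_mem ht)
    rw [← hw _ ht] at this
    rw [map_mul, map_mul, map_inv, ← hw _ ht]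
    calc _ = π b * w⁻¹ * (w * π t * w⁻¹) * w * (π b)⁻¹ := by group
      _ = _ := by rw [this]; group
  have nm : ∀ {t : G}, π t ∈ T → π (b * t * b⁻¹) ∈ T := fun ht => inv ht ▸ inv_mem ht
  let K : Subgroup G :=
    { carrier := {g | ∃ t, π t ∈ T ∧ g = b * t * b⁻¹ * t⁻¹}
      one_mem' := ⟨1, by simp [one_mem], by group⟩
      mul_mem' := by
        rintro _ _ ⟨t, ht, rfl⟩ ⟨s, hs, rfl⟩
        refine ⟨s * t, by rw [map_mul]; exact mul_mem hs ht, ?_⟩
        have e1 := cm (a := t⁻¹) (by rw [map_inv]; exact inv_mem ht) (nm hs)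
        calc _ = b * t * b⁻¹ * (t⁻¹ * (b * s * b⁻¹)) * s⁻¹ := by group
          _ = b * (t * s) * b⁻¹ * (s * t)⁻¹ := by rw [e1]; group
          _ = _ := by rw [cm ht hs]
      inv_mem' := by
        rintro _ ⟨t, ht, rfl⟩
        have h1 : π t⁻¹ ∈ T := by rw [map_inv]; exact inv_mem ht
        refine ⟨t⁻¹, h1, ?_⟩
        rw [inv_inv, ← cm ht (nm h1)]; group }
  have dec : ∀ c ∈ C[y], π c ∈ T ∨ ∃ s, π s ∈ T ∧ c = s * b := fun c hc =>
    (hC _ (cent_le_comap π y hc)).imp_right fun h4 => ⟨c * b⁻¹, by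
      have := mul_mem h4 (inv_mem h3)
      rw [map_mul, map_inv]; convert this using 1; group, by group⟩
  have k1 : ∀ {s d : G}, π s ∈ T → π d ∈ T → ⁅s * b, d⁆ ∈ K := fun {s d} hs hd => ⟨d, hd, by
    rw [commutatorElement_def]
    calc _ = s * (b * d * b⁻¹) * s⁻¹ * d⁻¹ := by group
      _ = _ := by rw [cm hs (nm hd)]; group⟩
  have hK : ⁅C[y], C[y]⁆ ≤ K := commutator_le.2 fun c hc d hd => by
    rcases dec c hc with h4 | ⟨s, h4, rfl⟩ <;> rcases dec d hd with h5 | ⟨s', h5, rfl⟩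
    · rw [commutatorElement_eq_one_iff_mul_comm.2 (cm h4 h5)]; exact K.one_mem
    · rw [← commutatorElement_inv]; exact K.inv_mem (k1 h5 h4)
    · exact k1 h4 h5
    · have h6 : π (s' * s⁻¹) ∈ T := by rw [map_mul, map_inv]; exact mul_mem h5 (inv_mem h4)
      refine ⟨s' * s⁻¹, h6, ?_⟩
      rw [commutatorElement_def]
      calc _ = s * (b * (s' * s⁻¹) * b⁻¹) * s'⁻¹ := by group
        _ = _ := by rw [cm h4 (nm h6)]; group
  refine eq_bot_iff.2 fun g hg => ?_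
  obtain ⟨t, ht, rfl⟩ := hK hg.1
  have h4 : π _ = 1 := hZ.ge hg.2
  rw [map_mul, inv ht, map_inv, ← mul_inv_rev, inv_eq_one, ← sq, ← h2] at h4
  obtain ⟨k, hk⟩ := PGrp.mem_zpowers_of_pow_eq_one hT ht hy h4
  have h5 : (y ^ k)⁻¹ * t ∈ center G := hZ.le (by
    rw [MonoidHom.mem_ker, map_mul, map_inv, map_zpow, show π y ^ k = π t from hk, inv_mul_cancel])
  have h6 : Commute b t := by
    have := ((show Commute b y from mem_cent_iff.1 hb).zpow_right k).mul_right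
      (show Commute b _ from mem_center_iff.1 h5 b)
    rwa [mul_inv_cancel_left] at this
  rw [mem_bot, h6.eq]; group

section PSL
variable {F : Type*} [Field F] [Finite F] {π : G →* PSL2 F} {A : Type*} [CommGroup A] [Finite A]
  {τ : A →* SL2 F}

theorem tor' (hZ : π.ker = center G) (hτ : IsTorus τ) {a : A} (ha : a ^ 2 ≠ 1) (h4 : a ^ 4 = 1) {y : G}
    (hy : π y = pmk F (τ a)) : ⁅C[y], C[y]⁆ ⊓ center G = ⊥ := by
  have h3 : 3 ≤ Nat.card A := by
    by_contra h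
    have h1 := Nat.le_of_dvd Nat.card_pos (orderOf_dvd_natCard a)
    have h2 := orderOf_pos a
    refine ha (orderOf_dvd_iff_pow_eq_one.1 ?_)
    obtain e | e : orderOf a = 1 ∨ orderOf a = 2 := by omega
    all_goals simp [e]
  obtain ⟨w, -, hw⟩ := hτ.exists_inv h3
  refine dih hZ hτ.isCyclic_range_pmk (w := pmk F w) ⟨a, hy.symm⟩ ?_ ?_ fun c hc => ?_
  · rw [hy]
    refine orderOf_eq_prime ?_ fun e => ha ((hτ.scal a).1 (pmk_eq_one_iff.1 e))
    rw [← map_pow, ← map_pow, pmk_eq_one_iff, hτ.scal, ← pow_mul, h4]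
  · rintro _ ⟨t, rfl⟩
    simp only [MonoidHom.comp_apply]
    rw [← map_mul, hw, map_mul, mul_inv_cancel_right, map_inv, map_inv]
  · obtain ⟨g, rfl⟩ := pmk_surjective c
    rw [hy] at hc
    have h5 : g * τ a * g⁻¹ ∈ τ.range := by
      rcases mem_comap_centralizer_pmk.1 hc with e | e <;> rw [e, mul_inv_cancel_right]
      · exact ⟨a, rfl⟩
      · rw [← neg_one_mul]; exact mul_mem hτ.neg ⟨a, rfl⟩
    rcases hτ.mem_or_of_conj hw ha h5 with ⟨t, rfl⟩ | ⟨t, rfl⟩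
    · exact Or.inl ⟨t, rfl⟩
    · exact Or.inr ⟨t, by simp⟩

theorem tor (hZ : π.ker = center G) (hτ : IsTorus τ) (he : 2 ∣ τ.range.index) {a : A} (ha : a ^ 2 ≠ 1) {y : G}
    (hy : IsConj (π y) (pmk F (τ a))) (ho : ¬ 2 ∣ cs (π y)) : ⁅C[y], C[y]⁆ ⊓ center G = ⊥ := by
  obtain ⟨c, hc⟩ := isConj_iff.1 hy.symm
  have h4 : a ^ 4 = 1 := by
    by_contra h
    rw [← hc, cs_conj] at ho
    exact ho ((hτ.index_pmk ha (Or.inr h)).symm ▸ he)
  obtain ⟨x, rfl⟩ := pmk_surjective c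
  exact tor' hZ (hτ.conj x) ha h4 (by rw [← hc, ← map_inv, ← map_mul, ← map_mul]; rfl)

theorem psl_cyclic {r : ℕ} [Fact r.Prime] (hr : (r : F) ≠ 0) (hr2 : r ≠ 2) {S : Subgroup (PSL2 F)}
    (hS : IsPGroup r S) : IsCyclic S := by
  obtain ⟨P, hP⟩ := hS.exists_le_sylow
  obtain ⟨Q, rfl⟩ := Sylow.mapSurjective_surjective (pmk_surjective (F := F)) r P
  have := sl2_isCyclic_of_isPGroup hr hr2 Q.isPGroup'
  have : IsCyclic ((Q : Subgroup (SL2 F)).map (pmk F)) :=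
    isCyclic_of_surjective _ ((pmk F).subgroupMap_surjective _)
  exact Subgroup.isCyclic_of_le (H' := (Q : Subgroup (SL2 F)).map (pmk F)) hP

theorem Sz.inf_eq_bot {p f u v d : ℕ} (h : Sz G p f u v) (hF : Nat.card F = p ^ f)
    (hd : d = 1 ∧ p = 2 ∨ d = 2 ∧ 3 < p ^ f ∧ 2 ∣ v) (hA : d * (u * v) + 1 = (p ^ f) ^ 2)
    (hs : Function.Surjective π) (hZ : π.ker = center G) : commutator G ⊓ center G = ⊥ := by
  refine eq_bot_iff.2 fun x hx => ?_
  by_contra h3
  obtain ⟨s, hr, h4⟩ := Nat.exists_prime_and_dvd (mt orderOf_eq_one_iff.1 h3)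
  haveI : Fact s.Prime := ⟨hr⟩
  have h5 : orderOf (x ^ (orderOf x / s)) = s := orderOf_pow_orderOf_div (orderOf_pos x).ne' h4
  have h6 := pow_mem hx (orderOf x / s)
  generalize x ^ (orderOf x / s) = z at h5 h6
  have key : ∀ y : G, ⁅C[y], C[y]⁆ ⊓ center G = ⊥ → s ∣ cs y := fun y e => by
    rw [← h5, orderOf_dvd_iff_pow_eq_one, ← mem_bot, ← e]
    exact ⟨Mult.pow_index_mem_commutator h6.2 h6.1, pow_mem h6.2 _⟩
  by_cases hp : s = p
  · obtain ⟨u0, h7, h8, h9⟩ := h.hy.exP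
    exact h.pA (h9 ▸ hp ▸ key u0 (by rw [h.hy.comm h7 h8, bot_inf_eq]))
  have hc : (s : F) ≠ 0 := fun e => by
    haveI := Fintype.ofFinite F
    obtain ⟨p', _, n, h7, h8⟩ := FiniteField.card' F
    have e1 := (Nat.prime_dvd_prime_iff_eq h7 hr).1 ((CharP.cast_eq_zero_iff F p' s).1 e)
    rw [Nat.card_eq_fintype_card, h8, e1] at hF
    exact hp ((Nat.prime_dvd_prime_iff_eq hr h.hp).1 (hr.dvd_of_dvd_pow (hF ▸ dvd_pow_self s n.ne_zero)))
  by_cases h2 : s = 2
  swap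
  · have := Exc.eq_one_of_cyclic_sylow hZ.le h6.1 (hZ.ge h6.2) fun r h7 h8 S _ hS => by
      obtain rfl := (Nat.prime_dvd_prime_iff_eq h7 hr).1 (h5 ▸ h8)
      exact psl_cyclic hc h2 hS
    rw [this, orderOf_one] at h5
    exact hr.one_lt.ne h5
  subst h2
  obtain ⟨rfl, -, hv⟩ := hd.resolve_left fun e => hp e.2.symm
  obtain ⟨y, hy⟩ := h.exU
  have hq : ¬ 2 ∣ p ^ f := fun e => hp ((Nat.prime_dvd_prime_iff_eq hr h.hp).1 (hr.dvd_of_dvd_pow e))
  have ho : ¬ 2 ∣ cs y := hy ▸ hr.not_dvd_mul hq fun e => by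
    have := Nat.eq_one_of_dvd_coprimes h.uv e hv
    omega
  have ho' : ¬ 2 ∣ cs (π y) := fun e => ho (e.trans (by
    rw [← index_comap_of_surjective _ hs]; exact index_dvd_of_le (cent_le_comap π y)))
  refine ho (key y ?_)
  rcases PSL2_types (π y) with e | ⟨b, hb, e⟩ | ⟨a, ha, e⟩ | ⟨a, ha, e⟩
  · have := cs_eq_one_iff.2 (hZ.le e)
    have := h.hu
    have := h.q0
    nlinarith
  · obtain ⟨c, hc⟩ := isConj_iff.1 e.symm
    have e1 := index_centralizer_pmk_par hb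
    rw [hF, ← hA, Nat.add_sub_cancel, Nat.gcd_eq_left (by omega)] at e1
    rw [← hc, cs_conj, Nat.eq_of_mul_eq_mul_left two_pos e1] at ho'
    exact (ho' (hv.mul_left u)).elim
  · exact tor hZ isTorus_torusS (by rw [index_range_torusS, hF]; exact Dvd.dvd.mul_left (by omega) _) ha e ho'
  · exact tor hZ isTorus_singerS (by rw [index_range_singerS, hF]; exact Dvd.dvd.mul_left (by omega) _) ha e ho'

theorem split_of (hF : 4 ≤ Nat.card F) (hs : Function.Surjective π) (hZ : π.ker = center G)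
    (hi : commutator G ⊓ center G = ⊥) :
    commutator G ⊔ center G = ⊤ ∧ Nonempty (commutator G ≃* PSL2 F) := by
  have h0 : commutator (PSL2 F) = ⊤ := by
    have := sl_commutator_eq_top (ι := Fin 2) (Or.inr (exists_sq_ne_one_of_four_le_card hF))
    rw [_root_.commutator_def, ← MonoidHom.range_eq_top.2 (pmk_surjective (F := F)), MonoidHom.range_eq_map,
      ← map_commutator, ← _root_.commutator_def, this]
  have h1 : (commutator G).map π = ⊤ := by
    rw [_root_.commutator_def, map_commutator, ← MonoidHom.range_eq_map, MonoidHom.range_eq_top.2 hs]; exact h0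
  refine ⟨by rw [← hZ, ← comap_map_eq, h1, comap_top], ⟨MulEquiv.ofBijective (π.comp (_root_.commutator G).subtype)
    ⟨(injective_iff_map_eq_one _).2 fun x hx => Subtype.ext (mem_bot.1 (hi.le ⟨x.2, hZ.le hx⟩)), fun y => ?_⟩⟩⟩
  obtain ⟨x, h3, h4⟩ := mem_map.1 (h1 ▸ mem_top y)
  exact ⟨⟨x, h3⟩, h4⟩

end PSL

end Cfsg.Lib.Block.CsL
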