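import Cfsg.Agent.Lib.Block.Tri8
import Cfsg.Agent.Lib.X32.Ev

/-! # The group `3³ : S₄` of order `648` inside `Alt(9)` -/

set_option autoImplicit false
set_option linter.unusedSectionVars false
set_option synthInstance.maxSize 100000
set_option maxRecDepth 100000

namespace Cfsg.Lib.Block.Nin

open Cfsg Cfsg.Lib.X32 Subgroup SemidirectProduct Equiv

def lk (t b m i : ℕ) : ℕ := Nat.mod (Nat.shiftRight t (Nat.mul b i)) m

/-- the group `3³` -/
def T27 : Type := Fin 27

namespace T27
instance : DecidableEq T27 := fun a b =>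
  decidable_of_iff (Nat.beq a.1 b.1 = true) ⟨fun h => Fin.ext (Nat.eq_of_beq_eq_true h), fun h => h ▸ Nat.beq_refl _⟩
instance : Fintype T27 := inferInstanceAs (Fintype (Fin 27))
def el (i : ℕ) : T27 := (⟨Nat.mod i 27, Nat.mod_lt _ (by norm_num)⟩ : Fin 27)
theorem ex_el (a : T27) : ∃ i < 27, el i = a := ⟨a.1, a.2, Fin.ext (Nat.mod_eq_of_lt a.2)⟩
instance (priority := high) (p : T27 → Prop) [DecidablePred p] : Decidable (∀ a, p a) := decAll 27 el ex_el p
instance (priority := high) (p : T27 → Prop) [DecidablePred p] : Decidable (∃ a, p a) := decEx 27 el ex_el p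
instance : Mul T27 := ⟨fun a b => el (lk 0xd639495c1f120ca1008e645ab79ca99c698e6a56a7c6032900209907aded2a4f1acb9ac5a93183ca41882041cd7b569396b38525707c5ac704023990419672a671ab56e95a9f1831cd0082641c6524a93c6b35bd96a4c60f735820810731483a4e5ace2f6ac1f16b1ca4ace64106508059c6ad5bce547c60c7352b51907194801071acd6f69527183dcd62d4941cc520c4106b38bdab49c8832840239916ade72a671a6b1ca4ae0f88ca40082641eb7b4a93c6b2c7352b53e30290620810735ed5a4e5ace1cd62d498c1e1008e6410659ca99c6ad5ba92b83e2d638020990719492a4f1acd6f64ad4f8c18e6882041cc520e9396b38bdaab526307b9ac39904194201671ab56f39520f8b58e5256641c6520041c6b35bda549be30639a95a907314831041ace2f6ad2728c1ee6b16a4dab79ca99c69ac7292b83e241942011cc8aded2a4f1acb1cd4ad4f8c06520041320f7b569396b387358b52630794831040839a72a671ab56ea4ae0f8b58e08047320832ca93c6b35bd92b53e30639a0104c838ca4a4e5ace2f6aad498c1ee6b041020e629079c6ad5bce5483e2d6394959cc820ca100b1acd6f69526f8c18e6a56a320e3290020eb38bdab49ca307b9ac5a928398a418820 5 32 (Nat.add (Nat.mul 27 a.1) b.1))⟩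
instance : Inv T27 := ⟨fun a => el (lk 0x35cc845ea5a6d7ae7589d24428ce830440 5 32 a.1)⟩
instance : One T27 := ⟨el 0⟩
instance : Group T27 := Group.ofLeftAxioms (by decide +kernel) (by decide +kernel) (by decide +kernel)
end T27

/-- the monomial `±1`-matrices of determinant one -/
def T24 : Type := Fin 24

namespace T24
instance : DecidableEq T24 := fun a b =>
  decidable_of_iff (Nat.beq a.1 b.1 = true) ⟨fun h => Fin.ext (Nat.eq_of_beq_eq_true h), fun h => h ▸ Nat.beq_refl _⟩
instance : Fintype T24 := inferInstanceAs (Fintype (Fin 24))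
def el (i : ℕ) : T24 := (⟨Nat.mod i 24, Nat.mod_lt _ (by norm_num)⟩ : Fin 24)
theorem ex_el (a : T24) : ∃ i < 24, el i = a := ⟨a.1, a.2, Fin.ext (Nat.mod_eq_of_lt a.2)⟩
instance (priority := high) (p : T24 → Prop) [DecidablePred p] : Decidable (∀ a, p a) := decAll 24 el ex_el p
instance (priority := high) (p : T24 → Prop) [DecidablePred p] : Decidable (∃ a, p a) := decEx 24 el ex_el p
instance : Mul T24 := ⟨fun a b => el (lk 0x4434254b214c784653635cfa56d7188204a16a31c8594e117b9acad2f610c015a928290e69ca306b1eeb5e950806252d09398a48c27273d8dbdab4214c7004434254b635cfa56d784653398a40806252d0973d8dbdab48c27231c85188204a16a7b9acad2f694e11290e610c015a9286b1eeb5e959ca304254b214c700443a56d784653635cf5a928290e610c01b5e959ca306b1ee52d09398a408062bdab48c27273d8d4a16a31c8518820ad2f694e117b9ac73d8dad2f68465331c85080624254b6b1eea56d794e11214c710c014a16a635cfb5e958c272290e60044352d097b9acbdab49ca30398a4188205a92894e116b1eea56d710c014a16a214c78c272635cfb5e950044352d09290e68465373d8dad2f6080624254b31c859ca307b9acbdab4188205a928398a4b5e958c272635cf52d09290e600443ad2f68465373d8d4254b31c8508062a56d794e116b1ee4a16a214c710c01bdab49ca307b9ac5a928398a418820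 5 32 (Nat.add (Nat.mul 24 a.1) b.1))⟩
instance : Inv T24 := ⟨fun a => el (lk 0xbd2b69ca117b5cc314e44ad4818820 5 32 a.1)⟩
instance : One T24 := ⟨el 0⟩
instance : Group T24 := Group.ofLeftAxioms (by decide +kernel) (by decide +kernel) (by decide +kernel)
end T24

def act (d : T24) (a : T27) : T27 := T27.el (lk 0x6d890c9d530bae58e90ba09951bf064c811d21d72ae82864edb11530bf0665469902ee2ea28a2c56693303cd41ab07879a4906607b34935075145dc5a2c5879aac1c9206b996bd4851c22fceb074194b4ce9208819d621179d06b5ead730851ce9252d21102307eb3841cce6b2f6a94835a9349c84105ed57358520f59c460f41cd49c96a488206c14e8ad8f4db33bea95c48870950219817d52d99d7127456d8298f4950221c23303369eaf4c56506aa2e5bd8939028288c3045cb8354f62757a66d3c5648288e409860864f1d21f8336c475caca8d530ae824c80eb95b6232a38e910c9df832e8254c29902cd25dc5ab07981f51461e69a83458a4906a28cc0f879aee2d9a4ab07458a6a0c92074577d50a81360ab66643858f4d71219816ccdb0510e1bea8e8aca81571263d233020d566d33903172f57a20a27b138ac8c306af48b96828b369c1aa39038ac9ec49860b5eb9d6274935cc845ea5a48519d06088108bdae62969ceb16bd67491d0621461101cd6460f5a937b5759c5272290683984106b38bdab49ca307b9ac5a928398a418820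 5 32 (Nat.add (Nat.mul 27 d.1) a.1))

def φ : T24 →* MulAut T27 :=
  MonoidHom.mk' (fun d => ⟨⟨act d, act d⁻¹, by revert d; unfold Function.LeftInverse; decide +kernel,
    by revert d; unfold Function.RightInverse Function.LeftInverse; decide +kernel⟩, by revert d; decide +kernel⟩)
    fun a b => MulEquiv.ext (show ∀ x, act (a * b) x = act a (act b x) by revert a b; decide +kernel)

abbrev W := T27 ⋊[φ] T24

instance : Fintype W := Fintype.ofEquiv _ SemidirectProduct.equivProd.symm

/-- the element with given codes -/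
def w (a d : ℕ) : W := ⟨T27.el a, T24.el d⟩

theorem ex_el (x : W) : ∃ i < 648, w (Nat.div i 24) (Nat.mod i 24) = x := by
  obtain ⟨⟨a, ha⟩, ⟨d, hd⟩⟩ := x
  refine ⟨24 * a + d, by omega, SemidirectProduct.ext (Fin.ext ?_) (Fin.ext ?_)⟩
  · show (24 * a + d) / 24 % 27 = a; omega
  · show (24 * a + d) % 24 % 24 = d; omega

instance (priority := high) (p : W → Prop) [DecidablePred p] : Decidable (∀ a, p a) := decAll 648 _ ex_el p
instance (priority := high) (p : W → Prop) [DecidablePred p] : Decidable (∃ a, p a) := decEx 648 _ ex_el p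

theorem card_W : Nat.card W = 648 := by rw [Nat.card_eq_fintype_card]; decide +kernel

def V : Subgroup W := rightHom.ker

instance : V.Normal := MonoidHom.normal_ker _

instance : DecidablePred (· ∈ V) := fun a => decidable_of_iff (a.right = 1) Iff.rfl

def f27 (a : T27) (p : Fin 9) : Fin 9 := Fin.ofNat 9 (lk 0x768435102768435021768435210768354102768354021768354210768543102768543021768543210687435102687435021687435210687354102687354021687354210687543102687543021687543210876435102876435021876435210876354102876354021876354210876543102876543021876543210 4 16 (Nat.add (Nat.mul 9 a.1) p.1))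
def f24 (a : T24) (p : Fin 9) : Fin 9 := Fin.ofNat 9 (lk 0x120453786210543786210453876120543876453786120543876120543786210453876210786120453876210453876120543786210543543120786453210786453120876543210876210786453120876453120786543210876543876453120786543120786453210876543210 4 16 (Nat.add (Nat.mul 9 a.1) p.1))

def toP {M : Type} [Group M] (f : M → Fin 9 → Fin 9) (h : (∀ p, f 1 p = p) ∧ ∀ a b p, f (a * b) p = f a (f b p)) : M →* Perm (Fin 9) :=
  MonoidHom.mk' (fun w => ⟨f w, f w⁻¹, fun p => by rw [← h.2, inv_mul_cancel, h.1], fun p => by rw [← h.2, mul_inv_cancel, h.1]⟩)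
    fun a b => Equiv.ext (h.2 a b)

def ψ : W →* Perm (Fin 9) :=
  SemidirectProduct.lift (toP f27 (by decide +kernel)) (toP f24 (by decide +kernel)) fun d => MonoidHom.ext fun a => Equiv.ext
    ((by decide +kernel : ∀ d a p, f27 (act d a) p = f24 d (f27 a (f24 d⁻¹ p))) d a)

theorem ψ_apply (x : W) (p : Fin 9) : ψ x p = f27 x.left (f24 x.right p) := rfl

theorem ψ_inj : Function.Injective ψ := (injective_iff_map_eq_one _).2 fun x h =>
  (by decide +kernel : ∀ x : W, (∀ p, f27 x.left (f24 x.right p) = p) → x = 1) x fun p => congrArg (fun g : Perm (Fin 9) => g p) h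

end Cfsg.Lib.Block.Nin
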