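import Cfsg.Agent.Lib.Block.Nin1

/-! # Centralizers of odd involutions in `Sym(6)` -/

set_option autoImplicit false
set_option linter.unusedSectionVars false
set_option maxRecDepth 100000
set_option synthInstance.maxSize 100000

namespace Cfsg.Lib.Block.Nin

open Subgroup Equiv Equiv.Perm

def f6 (i : Bool) (a : T24) (p : Fin 6) : Fin 6 := Fin.ofNat 6 (lk (cond i
  0x21ab014ec05a9484e56ac2139484ec05a941b086a505a9484ec0536819532254c1b1a22c2254c1b13065688b1ab1306568195322c688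
  0x94a6254439582a50d19532256819484e505a9594252c295066508bb032ac611b0a0ec458b0266c40bb190ac2d0b014ec21ab1306c688) 3 8
  (Nat.add (Nat.mul 6 a.1) p.1))

theorem f6_mul : ∀ i a b p, f6 i (a * b) p = f6 i a (f6 i b p) := by decide +kernel

theorem f6_one : ∀ i p, f6 i 1 p = p := by decide +kernel

def μ6 (i : Bool) : T24 →* Perm (Fin 6) :=
  MonoidHom.mk' (fun w => ⟨f6 i w, f6 i w⁻¹, fun p => by rw [← f6_mul, inv_mul_cancel, f6_one],
    fun p => by rw [← f6_mul, mul_inv_cancel, f6_one]⟩) fun a b => Equiv.ext (f6_mul i a b)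

def σ6 (i : Bool) : Perm (Fin 6) := cond i (swap 0 1 * swap 2 3 * swap 4 5) (swap 4 5)

structure SD (σ : Perm (Fin 6)) (μ : T24 →* Perm (Fin 6)) : Prop where
  inj : Function.Injective μ
  ev : ∀ d, sign (μ d) = 1
  cm : ∀ d, μ d * σ = σ * μ d
  sur : ∀ x, x * σ = σ * x → sign x = 1 → ∃ d, μ d = x
  cV : ∀ x, sign x = 1 → (∀ d : T24, d.1 < 4 → x * μ d = μ d * x) → ∃ d : T24, d.1 < 4 ∧ μ d = x
  cls : ∀ d : T24, d.1 < 4 → d ≠ 1 → ∀ x, x * x = 1 → sign x = -1 → IsConj x σ ∨ IsConj x (σ * μ d)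

theorem odd_inv (x : Perm (Fin 6)) (h1 : x * x = 1) (h2 : sign x = -1) : ∃ i, IsConj x (σ6 i) := by
  obtain ⟨i, c, e⟩ := (by decide +kernel : ∀ x : Perm (Fin 6), x * x = 1 → sign x = -1 → ∃ i, x.support.card = (σ6 i).support.card ∧
    x.cycleType = (σ6 i).cycleType) x h1 h2
  exact ⟨i, isConj_iff_cycleType_eq.2 e⟩

theorem sd6 (i : Bool) : SD (σ6 i) (μ6 i) where
  inj := (injective_iff_map_eq_one _).2 (by revert i; decide +kernel)
  ev := by revert i; decide +kernel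
  cm := by revert i; decide +kernel
  sur := by revert i; decide +kernel
  cV := by revert i; decide +kernel
  cls d h1 h2 x h3 h4 := by
    obtain ⟨j, e⟩ := odd_inv x h3 h4
    by_cases ij : j = i
    · exact Or.inl (ij ▸ e)
    · exact Or.inr (e.trans (isConj_iff_cycleType_eq.2 ((by decide +kernel : ∀ i j, j ≠ i → ∀ d : T24, d.1 < 4 → d ≠ 1 →
        (σ6 j).cycleType = (σ6 i * μ6 i d).cycleType) i j ij d h1 h2)))

variable {σ : Perm (Fin 6)} {μ : T24 →* Perm (Fin 6)}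

theorem SD.conj (h : SD σ μ) (c : Perm (Fin 6)) : SD (c * σ * c⁻¹) ((MulAut.conj c).toMonoidHom.comp μ) where
  inj := (MulAut.conj c).injective.comp h.inj
  ev d := by simp [h.ev]
  cm d := by simp [conj_mul, h.cm]
  sur x h1 h2 := (h.sur (c⁻¹ * x * c) (by simpa [mul_assoc] using congrArg (fun y => c⁻¹ * y * c) h1) (by simp [h2])).imp
    fun d e => by simp [e, mul_assoc]
  cV x h1 h2 := (h.cV (c⁻¹ * x * c) (by simp [h1]) fun d hd => by
    simpa [mul_assoc] using congrArg (fun y => c⁻¹ * y * c) (h2 d hd)).imp fun d e => ⟨e.1, by simp [e.2, mul_assoc]⟩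
  cls d h1 h2 x h3 h4 := (h.cls d h1 h2 x h3 h4).imp (·.trans (isConj_iff.2 ⟨c, rfl⟩)) (·.trans (isConj_iff.2 ⟨c, by simp [conj_mul]⟩))

theorem SD.comp (h : SD σ μ) (c : T24) : SD σ (μ.comp (MulAut.conj c).toMonoidHom) := by
  have v := (by decide +kernel : ∀ c d : T24, d.1 < 4 → (c * d * c⁻¹).1 < 4)
  refine ⟨h.inj.comp (MulAut.conj c).injective, fun d => h.ev _, fun d => h.cm _, fun x h1 h2 => ?_, fun x h1 h2 => ?_,
    fun d h1 h2 => h.cls _ (v c d h1) (by simpa using h2)⟩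
  · obtain ⟨d, rfl⟩ := h.sur x h1 h2
    exact ⟨c⁻¹ * d * c, by simp [mul_assoc]⟩
  · obtain ⟨d, hd, rfl⟩ := h.cV x h1 fun d hd => by simpa [mul_assoc] using h2 _ (v c⁻¹ d hd)
    exact ⟨_, v c⁻¹ d hd, by simp [mul_assoc]⟩

theorem exists_sd {β υ : Perm (Fin 6)} (s2 : σ * σ = 1) (so : sign σ = -1) (b3 : β ^ 3 = 1) (b1 : β ≠ 1) (bs : β * σ = σ * β)
    (u2 : υ * υ = 1) (ue : sign υ = 1) (us : υ * σ = σ * υ) (ub : υ * β * υ⁻¹ = β⁻¹) :
    ∃ μ, SD σ μ ∧ μ (.el 4) = β ∧ μ (.el 19) = υ := by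
  obtain ⟨i, e⟩ := odd_inv σ s2 so
  obtain ⟨c, rfl⟩ := isConj_iff.1 e.symm
  have h := (sd6 i).conj c
  generalize (MulAut.conj c).toMonoidHom.comp (μ6 i) = μ at h
  obtain ⟨b, rfl⟩ := h.sur β bs (by simpa [pow_succ] using congrArg sign b3)
  obtain ⟨u, rfl⟩ := h.sur υ us ue
  obtain ⟨k, e1, e2⟩ := (by decide +kernel : ∀ b : T24, b ^ 3 = 1 → b ≠ 1 → ∀ u, u * u = 1 → u * b * u⁻¹ = b⁻¹ →
    ∃ k, k * T24.el 4 * k⁻¹ = b ∧ k * T24.el 19 * k⁻¹ = u) b (h.inj (by simpa using b3)) (fun e => b1 (by simp [e])) u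
    (h.inj (by simpa using u2)) (h.inj (by simpa using ub))
  exact ⟨_, h.comp k, congrArg μ e1, congrArg μ e2⟩

end Cfsg.Lib.Block.Nin
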