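import Cfsg.Agent.Lib.Block.Tri6
import Cfsg.Agent.Lib.Linear.AutAlt

/-! # Recognition of `Sym(6)` from the normalizer `3² : D₈` -/

set_option autoImplicit false
set_option linter.unusedSectionVars false
set_option synthInstance.maxSize 2048

namespace Cfsg.Lib.Block.Tri

section alt
open Cfsg.Lib.Linear Subgroup Equiv Equiv.Perm
variable {α : Type*} [Fintype α] [DecidableEq α]

/-- An automorphism of `Aₙ` preserving the three-cycles is induced by `Sₙ` (the proof of `conjNormal_alt_surjective`). -/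
theorem exists_conjNormal (h4 : 4 ≤ Fintype.card α) (φ : MulAut (alternatingGroup α))
    (hφ : ∀ x : alternatingGroup α, x.1.IsThreeCycle → (φ x).1.IsThreeCycle) :
    φ ∈ (MulAut.conjNormal : Perm α →* MulAut (alternatingGroup α)).range := by
  obtain ⟨a, b, hab⟩ := Fintype.exists_pair_of_one_lt_card (α := α) (by omega)
  have hc := card_ne_ne hab
  obtain ⟨i, j, hij⟩ := Fintype.exists_pair_of_one_lt_card (α := {i // i ≠ a ∧ i ≠ b}) (by omega)
  set x : {i // i ≠ a ∧ i ≠ b} → Perm α := fun i => (φ (altCyc hab i)).1 with hxdef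
  have hx : ∀ i, (x i).IsThreeCycle := fun i => hφ _ (isThreeCycle_cyc3 hab i.2.1.symm i.2.2.symm)
  have hinj : Function.Injective x := fun i j h => by
    have h1 : cyc3 a b i.1 = cyc3 a b j.1 := congrArg Subtype.val (φ.injective (Subtype.ext h))
    have h2 := congrArg (fun g : Perm α => g b) h1
    simp only [cyc3_apply hab i.2.1.symm i.2.2.symm, cyc3_apply hab j.2.1.symm j.2.2.symm,
      if_neg hab.symm, if_true] at h2
    exact Subtype.ext h2
  have hedge : ∀ i j, i ≠ j → ∃ p, x i p ≠ p ∧ x i p = x j p := fun i j hij => by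
    refine exists_common_edge (hx i) (hx j) (fun h => ?_) ?_
    · have h1 : altCyc hab i * altCyc hab j = 1 := φ.injective (by
        rw [map_mul, map_one]; exact Subtype.ext h)
      have h2 := congrArg (fun g : alternatingGroup α => g.1 a) h1
      simp only [altCyc, Perm.coe_mul, Subgroup.coe_mul, Function.comp_apply, OneMemClass.coe_one, Perm.coe_one, id,
        cyc3_apply hab i.2.1.symm i.2.2.symm, cyc3_apply hab j.2.1.symm j.2.2.symm,
        if_neg hab.symm, if_true] at h2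
      exact i.2.1 h2
    · have h1 := congrArg (fun g => (φ g).1) ((carm_altCyc hab).2 i trivial j trivial hij)
      simpa using h1
  obtain ⟨a', ha', ha''⟩ := hedge i j hij
  obtain ⟨b', c, hab', hac, hbc, hi⟩ := exists_cyc3 (hx i) ha'
  obtain ⟨b'', d, hab'', had, hbd, hj⟩ := exists_cyc3 (hx j) (ha'' ▸ ha')
  have : b'' = b' := by
    rw [hi, hj, cyc3_apply hab' hac hbc, cyc3_apply hab'' had hbd] at ha''
    simpa using ha''.symm
  subst this
  have hcd : c ≠ d := by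
    rintro rfl
    exact hij (hinj (hi.trans hj.symm))
  have hall : ∀ k, x k a' = b'' := fun k => by
    by_cases hk : k = i
    · rw [hk, hi, cyc3_apply hab' hac hbc, if_pos rfl]
    by_cases hk' : k = j
    · rw [hk', hj, cyc3_apply hab'' had hbd, if_pos rfl]
    obtain ⟨p, hp, hp'⟩ := hedge i k (Ne.symm hk)
    obtain ⟨q, hq, hq'⟩ := hedge j k (Ne.symm hk')
    exact edge_of_common_edges hab' hac hbc had hbd hcd (hx k) (hi ▸ hp) (hi ▸ hp') (hj ▸ hq) (hj ▸ hq')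
  have hall' : ∀ k, ∃ e, a' ≠ e ∧ b'' ≠ e ∧ x k = cyc3 a' b'' e := fun k => by
    obtain ⟨u, e, h1, h2, h3, h4⟩ := exists_cyc3 (hx k) (a := a') (by rw [hall]; exact hab'.symm)
    have : u = b'' := by
      have := hall k
      rwa [h4, cyc3_apply h1 h2 h3, if_pos rfl] at this
    subst this
    exact ⟨e, h2, h3, h4⟩
  choose e he1 he2 he3 using hall'
  let π : α → α := fun p => if h : p = a then a' else if h' : p = b then b'' else e ⟨p, h, h'⟩
  have hπ : Function.Injective π := by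
    intro p q hpq
    simp only [π] at hpq
    split_ifs at hpq with h1 h2 h3 h4 h5 h6 h7 h8
    · rw [h1, h2]
    · exact absurd hpq hab'
    · exact absurd hpq (he1 _)
    · exact absurd hpq.symm hab'
    · rw [h4, h6]
    · exact absurd hpq (he2 _)
    · exact absurd hpq.symm (he1 _)
    · exact absurd hpq.symm (he2 _)
    · exact congrArg Subtype.val (hinj (a₁ := ⟨p, h1, h4⟩) (a₂ := ⟨q, h7, h8⟩) (by rw [he3, he3, hpq]))
  let g : Perm α := Equiv.ofBijective π (Finite.injective_iff_bijective.1 hπ)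
  refine ⟨g, MulEquiv.toMonoidHom_injective (MonoidHom.eq_of_eqOn_dense (closure_altCyc hab) ?_)⟩
  rintro _ ⟨k, rfl⟩
  apply Subtype.ext
  change g * cyc3 a b k.1 * g⁻¹ = x k
  rw [conj_cyc3, he3]
  simp [g, π, hab.symm, k.2.1, k.2.2]

theorem isConj_alt6 {σ τ : alternatingGroup (Fin 6)} (h1 : orderOf σ = 3) (h2 : orderOf τ = 3)
    (h : σ.1.IsThreeCycle ↔ τ.1.IsThreeCycle) : IsConj σ τ := by
  by_cases h3 : σ.1.IsThreeCycle
  · exact alternatingGroup.isThreeCycle_isConj (by simp) h3 (h.1 h3)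
  have c : ∀ x : Perm (Fin 6), orderOf x = 3 → ¬ x.IsThreeCycle → x.cycleType = Multiset.replicate 2 3 := fun x h1 h2 => by
    obtain ⟨k, hk⟩ := cycleType_prime_order (σ := x) (by rw [h1]; exact Nat.prime_three)
    have hs := sum_cycleType_le x
    rw [h1] at hk
    rw [hk, Multiset.sum_replicate, smul_eq_mul, Fintype.card_fin] at hs
    obtain rfl | rfl : k = 0 ∨ k = 1 := by omega
    exacts [absurd hk h2, hk]
  let t : alternatingGroup (Fin 6) := ⟨swap 0 1 * swap 1 2 * (swap 3 4 * swap 4 5), mem_alternatingGroup.2 (by decide)⟩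
  have k : ∀ x : alternatingGroup (Fin 6), orderOf x = 3 → ¬ x.1.IsThreeCycle → IsConj t x := fun x h1 h2 => by
    obtain ⟨g, hg⟩ := isConj_iff.1 (isConj_iff_cycleType_eq.2 ((c t.1 (orderOf_eq_prime (by decide) (by decide))
      (by rw [← card_support_eq_three_iff]; decide)).trans (c x.1 (by rw [orderOf_coe, h1]) h2).symm))
    rcases Int.units_eq_one_or (sign g) with e | e
    · exact isConj_iff.2 ⟨⟨g, mem_alternatingGroup.2 e⟩, Subtype.ext hg⟩
    · let o : Perm (Fin 6) := swap 0 3 * swap 1 4 * swap 2 5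
      refine isConj_iff.2 ⟨⟨g * o, mem_alternatingGroup.2 (by rw [map_mul, e]; decide)⟩, Subtype.ext ?_⟩
      show g * o * t.1 * (g * o)⁻¹ = x
      rw [← hg, mul_assoc g, show o * t.1 = t.1 * o by decide]; group
  exact (k σ h1 h3).symm.trans (k τ h2 (h3 ∘ h.2))

end alt

open Cfsg Cfsg.Lib.Block2 Cfsg.Lib.Char Cfsg.Lib.Invol Cfsg.Lib.Transfer Subgroup SemidirectProduct DihedralGroup

local notation "𝐍(" X ")" => normalizer (X : Set _)
local notation "𝐂(" X ")" => centralizer (X : Set _)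
local notation "𝐂[" x "]" => centralizer ({x} : Set _)

variable {G : Type*} [Group G] [Finite G] {T : Subgroup G} {g t : G} {κ : W8 →* G}

theorem d8_basis : ∀ p q p' q' : A2, (∀ a, ph p q (ph p q a) = a) → (∀ a, ph p' q' (ph p' q' a) = a) →
    (∀ a, (ph p q ∘ ph p' q')^[4] a = a) → (∀ a, (ph p q ∘ ph p' q')^[2] a = a) ∨
    ∃ a, a ≠ 1 ∧ ph p q a = a ∧ ph p q (ph p' q' a) = (ph p' q' a)⁻¹ ∧ ph p' q' a ≠ 1 ∧ ph p' q' a ≠ a ∧ ph p' q' a ≠ a⁻¹ := by
  decide +kernel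

theorem pow_mem_of_norm (h9 : Nat.card T = 9) (h3 : ∀ t ∈ T, t ^ 3 = 1) (hc : ∀ a ∈ T, ∀ b ∈ T, Commute a b) (hg : g ∈ 𝐍(T)) :
    g ^ 24 ∈ 𝐂(T) := by
  obtain ⟨x, hx, x1, -⟩ := exists_not_mem h9 1
  obtain ⟨y, hy, y1, h1, h2⟩ := exists_not_mem h9 x
  obtain ⟨ι, hi, rfl, -⟩ := exists_model h9 h3 hc hx hy x1 y1 h1 h2
  obtain ⟨p, q, e⟩ := exists_act hg
  rintro _ ⟨a, rfl⟩
  have := e 24 a
  rwa [(by decide +kernel : ∀ p q : A2, (∀ a, ph p q a = 1 → a = 1) → ∀ a, (ph p q)^[24] a = a) p q fun a ha => hi (by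
    have := e 1 a
    rw [Function.iterate_one, ha, map_one, eq_comm, conj_eq_one_iff] at this
    rw [this, map_one]), eq_mul_inv_iff_mul_eq] at this

theorem exists_md (h : SE T) (h9 : Nat.card T = 9) (hC : 𝐂(T) ≤ T) {δ : D4 →* G} (hδ : Function.Injective δ)
    (hS : SylowIn 2 δ.range 𝐍(T)) : ∃ κ : W8 →* G, Md V8 κ ∧ V8.map κ = T := by
  have hN : ∀ d, δ d ∈ 𝐍(T) := fun d => hS.1 ⟨d, rfl⟩
  have ff : ∀ d, δ d ∈ 𝐂(T) → d = 1 := fun d hd => hδ (by
    have h1 : δ d ^ 9 = 1 := congrArg Subtype.val (h9 ▸ pow_card_eq_one' (x := (⟨_, hC hd⟩ : T)))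
    rw [show 9 = 4 * 2 + 1 from rfl, pow_succ, pow_mul, ← map_pow, (by decide : ∀ d : D4, d ^ 4 = 1), map_one, one_pow, one_mul] at h1
    rw [h1, map_one])
  have h3 : ∀ t ∈ T, t ^ 3 = 1 := fun t ht => by_contra fun t3 => by
    have e : zpowers t = T := eq_of_le_of_card_ge (zpowers_le.2 ht) (by
      have h1 : orderOf t ∣ 3 ^ 2 := by rw [← Nat.card_zpowers, show 3 ^ 2 = 9 from rfl, ← h9]; exact card_dvd_of_le (zpowers_le.2 ht)
      obtain ⟨k, hk, e⟩ := (Nat.dvd_prime_pow Nat.prime_three).1 h1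
      rw [Nat.card_zpowers, h9, e]
      interval_cases k
      · exact absurd (orderOf_dvd_iff_pow_eq_one.1 (by simp [e])) t3
      · exact absurd (orderOf_dvd_iff_pow_eq_one.1 (by simp [e])) t3
      · rfl)
    obtain ⟨i, hi⟩ := mem_zpowers_iff.1 (e.ge (conj_mem_of_mem_normalizer (hN (sr 0)) ht))
    obtain ⟨j, hj⟩ := mem_zpowers_iff.1 (e.ge (conj_mem_of_mem_normalizer (hN (sr 1)) ht))
    refine absurd (ff ((sr 1 * sr 0)⁻¹ * (sr 0 * sr 1)) fun a ha => ?_) (by decide)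
    obtain ⟨k, rfl⟩ := mem_zpowers_iff.1 (e.ge ha)
    refine Commute.zpow_left (show t * _ = _ from ?_) k
    have c : ∀ a b : G, ∀ i j : ℤ, t ^ i = a * t * a⁻¹ → t ^ j = b * t * b⁻¹ → a * b * t * (a * b)⁻¹ = t ^ (i * j) := fun a b i j h1 h2 => by
      rw [zpow_mul, h1, conj_zpow, h2]; group
    have := (c _ _ _ _ hi hj).trans (mul_comm i j ▸ (c _ _ _ _ hj hi).symm)
    simp only [map_mul, map_inv]
    calc _ = (δ (sr 1) * δ (sr 0))⁻¹ * (δ (sr 1) * δ (sr 0) * t * (δ (sr 1) * δ (sr 0))⁻¹) * (δ (sr 0) * δ (sr 1)) := by group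
      _ = _ := by rw [← this]; group
  obtain ⟨x, hx, x1, -⟩ := exists_not_mem h9 1
  obtain ⟨y, hy, y1, h1, h2⟩ := exists_not_mem h9 x
  obtain ⟨ι, hi, rfl, -⟩ := exists_model h9 h3 h.comm hx hy x1 y1 h1 h2
  obtain ⟨p, q, e⟩ := exists_act (hN (sr 0))
  obtain ⟨p', q', e'⟩ := exists_act (hN (sr 1))
  have f : ∀ a, ι (ph p q a) = δ (sr 0) * ι a * (δ (sr 0))⁻¹ := fun a => by simpa using e 1 a
  have f' : ∀ a, ι (ph p' q' a) = δ (sr 1) * ι a * (δ (sr 1))⁻¹ := fun a => by simpa using e' 1 a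
  have f2 : ∀ (k : ℕ) a, ι ((ph p q ∘ ph p' q')^[k] a) = δ (r 1 ^ k) * ι a * (δ (r 1 ^ k))⁻¹ := fun k a => by
    induction k with
    | zero => simp
    | succ k ih =>
      rw [Function.iterate_succ_apply', Function.comp, f, f', ih, pow_succ', map_mul, show r 1 = sr 0 * sr 1 by decide, map_mul]
      group
  have s2 : ∀ i, δ (sr i) * δ (sr i) = 1 := fun i => by rw [← map_mul, sr_mul_self, map_one]
  have c2 : ∀ i (x : G), δ (sr i) * (δ (sr i) * x * (δ (sr i))⁻¹) * (δ (sr i))⁻¹ = x := fun i x => by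
    rw [← mul_assoc, ← mul_assoc, s2, mul_assoc, ← mul_inv_rev, s2]; simp
  obtain ⟨a, a1, a2, a3, a4, a5, a6⟩ := (d8_basis p q p' q' (fun a => hi (by rw [f, f, c2])) (fun a => hi (by rw [f', f', c2]))
    fun a => hi (by rw [f2, show r 1 ^ 4 = (1 : D4) by decide]; simp)).resolve_left fun h0 =>
      absurd (ff (r 1 ^ 2) (by rintro _ ⟨a, rfl⟩; rw [← eq_mul_inv_iff_mul_eq, ← f2, h0])) (by decide)
  obtain ⟨ι', hi', hr, i1, i2⟩ := exists_model h9 h3 h.comm ⟨a, rfl⟩ ⟨ph p' q' a, rfl⟩ ((map_ne_one_iff ι hi).2 a1)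
    ((map_ne_one_iff ι hi).2 a4) (hi.ne a5) (map_inv ι a ▸ hi.ne a6)
  have P : ∀ d, (δ d * ι' e1 * (δ d)⁻¹ = ι' (act d e1) ∧ δ d * ι' e2 * (δ d)⁻¹ = ι' (act d e2)) →
      ∀ a, ι' (act d a) = δ d * ι' a * (δ d)⁻¹ := fun d hd a => by
    rw [map_eq_ph ι' a, (by decide : ∀ d a, act d a = ph (act d e1) (act d e2) a) d a, ph, ph, map_mul, map_pow, map_pow, ← hd.1, ← hd.2,
      conj_pow, conj_pow]; group
  have P0 := P (sr 0) ⟨by rw [show act (sr 0) e1 = e1 by decide, i1, ← f, a2],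
    by rw [show act (sr 0) e2 = e2⁻¹ by decide, map_inv, i2, ← f, a3, map_inv]⟩
  have P1 := P (sr 1) ⟨by rw [show act (sr 1) e1 = e2 by decide, i1, i2, f'], by rw [show act (sr 1) e2 = e1 by decide, i1, i2, f', c2]⟩
  have Pm : ∀ d d', (∀ a, ι' (act d a) = δ d * ι' a * (δ d)⁻¹) → (∀ a, ι' (act d' a) = δ d' * ι' a * (δ d')⁻¹) →
      ∀ a, ι' (act (d * d') a) = δ (d * d') * ι' a * (δ (d * d'))⁻¹ := fun d d' h1 h2 a => by
    rw [(by decide : ∀ d d' a, act (d * d') a = act d (act d' a)), h1, h2, map_mul]; group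
  have Pa : ∀ d a, ι' (act d a) = δ d * ι' a * (δ d)⁻¹ := fun d => by
    have R := Pm _ _ P0 P1
    have R2 := Pm _ _ R R
    rcases (by decide : ∀ d : D4, d = sr 0 * sr 0 ∨ d = sr 0 ∨ d = sr 1 ∨ d = sr 0 * sr 1 ∨ d = sr 1 * sr 0 ∨
      d = sr 0 * sr 1 * (sr 0 * sr 1) ∨ d = sr 0 * sr 1 * sr 0 ∨ d = sr 1 * (sr 0 * sr 1)) d with
      rfl | rfl | rfl | rfl | rfl | rfl | rfl | rfl
    exacts [Pm _ _ P0 P0, P0, P1, R, Pm _ _ P1 P0, R2, Pm _ _ R P0, Pm _ _ P1 R]
  let κ : W8 →* G := SemidirectProduct.lift ι' δ fun d => MonoidHom.ext (Pa d)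
  have hV : V8.map κ = ι.range := by
    rw [← hr, V8, ← range_inl_eq_ker_rightHom, MonoidHom.map_range, lift_comp_inl]
  have hT : ι.range ≤ κ.range := hV ▸ map_le_range _ _
  have hD : δ.range ≤ κ.range := by rintro _ ⟨d, rfl⟩; exact ⟨inr d, lift_inr _ _ _ d⟩
  have hK : κ.range ≤ 𝐍(ι.range) := by
    rintro _ ⟨⟨a, d⟩, rfl⟩; exact mul_mem (le_normalizer (hr.le ⟨a, rfl⟩)) (hN d)
  refine ⟨κ, ⟨(injective_iff_map_eq_one κ).2 fun ⟨a, d⟩ e => ?_, hV ▸ h, hV ▸ le_antisymm ?_ hK, by decide +kernel⟩, hV⟩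
  · have e1 : ι' a * δ d = 1 := e
    obtain rfl := ff d (by
      rw [← inv_eq_of_mul_eq_one_right e1]; exact inv_mem fun b hb => h.comm _ hb _ (hr.le ⟨a, rfl⟩))
    obtain rfl : a = 1 := hi' (by simpa using e1)
    rfl
  rw [← relIndex_eq_one]
  by_contra h1
  obtain ⟨l, hl, hd⟩ := Nat.exists_prime_and_dvd h1
  haveI := Fact.mk hl
  obtain ⟨n, hn⟩ := exists_prime_orderOf_dvd_card' l (hd.trans (relIndex_dvd_card _ _))
  have : l ∣ 2 ^ 3 * 3 ^ 2 := by
    rw [← hn, ← orderOf_coe, orderOf_dvd_iff_pow_eq_one, show 2 ^ 3 * 3 ^ 2 = 24 * 3 from rfl, pow_mul]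
    exact h3 _ (hC (pow_mem_of_norm h9 h3 h.comm n.2))
  rcases (Nat.Prime.dvd_mul hl).1 this with h1 | h1
  · obtain rfl := (Nat.prime_dvd_prime_iff_eq hl Nat.prime_two).1 (hl.dvd_of_dvd_pow h1)
    exact hS.3 (hd.trans (relIndex_dvd_of_le_left _ hD))
  · obtain rfl := (Nat.prime_dvd_prime_iff_eq hl Nat.prime_three).1 (hl.dvd_of_dvd_pow h1)
    exact (h.syl.mono le_normalizer le_top).3 (hd.trans (relIndex_dvd_of_le_left _ hT))

theorem exists_md' (h : SE T) (h9 : Nat.card T = 9) (hC : 𝐂(T) ≤ T) (S : Sylow 2 (normalizer (T : Set G)))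
    (e : (S : Subgroup (normalizer (T : Set G))) ≃* D4) :
    ∃ κ : W8 →* G, Md V8 κ ∧ V8.map κ = T := by
  let δ : D4 →* G := ((normalizer (T : Set G)).subtype.comp (S : Subgroup (normalizer (T : Set G))).subtype).comp e.symm.toMonoidHom
  refine exists_md h h9 hC (δ := δ) ((Subtype.val_injective.comp Subtype.val_injective).comp e.symm.injective) ?_
  rw [MonoidHom.range_comp, (MonoidHom.range_eq_top (f := e.symm.toMonoidHom)).2 e.symm.surjective, ← MonoidHom.range_eq_map,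
    MonoidHom.range_comp, range_subtype]
  exact sylowIn_map_subtype S

theorem normalClosure_le_iff_cj {L : Subgroup G} : normalClosure (T : Set G) ≤ L ↔ ∀ g, cj g T ≤ L :=
  ⟨fun h g => cj_le_iff.2 fun _ hx => h (normalClosure_normal.conj_mem _ (subset_normalClosure hx) g), fun h =>
    (closure_le L).2 fun _ hx => by
      obtain ⟨a, ha, c⟩ := Group.mem_conjugatesOfSet_iff.1 hx
      obtain ⟨g, rfl⟩ := isConj_iff.1 c
      exact h g (conj_mem_cj.2 ha)⟩

namespace Md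
variable (h : Md V8 κ)
include h

theorem lam_eq_one (lam : G →* ℂˣ) (ht : t ∈ V8.map κ) : lam t = 1 := by
  obtain ⟨v, hv, rfl⟩ := ht
  have h1 : lam (κ v) ^ 3 = 1 := by rw [← map_pow, ← map_pow, h.v3 v hv, map_one, map_one]
  have := congrArg (fun w => lam (κ w)) ((by decide +kernel : ∀ v ∈ V8, inr (r 2) * v = v⁻¹ * inr (r 2)) v hv)
  simp only [map_mul, map_inv] at this
  rw [mul_comm, mul_left_inj] at this
  rwa [pow_three, ← mul_assoc, eq_inv_iff_mul_eq_one.1 this, one_mul] at h1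

theorem not_simple : ¬ IsSimpleGroup G := fun _ => by
  obtain ⟨lam, h1, -⟩ := h.exists_lin
  rcases IsSimpleGroup.eq_bot_or_eq_top_of_normal lam.ker inferInstance with e | e
  · exact (map_ne_one_iff κ h.inj).2 (by decide) (mem_bot.1 (e.le (h.lam_eq_one lam ⟨inl e1, rfl, rfl⟩)))
  · exact absurd (h1.symm.trans (e.ge (mem_top _))) (by norm_num)

theorem normal_or_sym : (V8.map κ).Normal ∨ Nonempty (G ≃* Equiv.Perm (Fin 6)) := by
  classical
  refine or_iff_not_imp_left.2 fun nn => ?_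
  obtain ⟨lam, h1, h2⟩ := h.exists_lin
  have h9 := h.card_T
  have hC := h.cent_le (by decide +kernel)
  have h3 : ∀ t ∈ V8.map κ, t ^ 3 = 1 := by rintro _ ⟨v, hv, rfl⟩; rw [← map_pow, h.v3 v hv, map_one]
  have ck : ∀ t ∈ V8.map κ, t ≠ 1 → ∀ g, Commute g t → lam g = 1 → g ∈ V8.map κ := by
    rintro _ ⟨v, hv, rfl⟩ v1 g hc hg
    obtain ⟨c, rfl⟩ := h.nrm.le (h.se.cent _ ⟨v, hv, rfl⟩ v1 (mem_cent.2 hc))
    rcases (by decide +kernel : ∀ v ∈ V8, ∀ c : W8, v ≠ 1 → c * v = v * c → c ∈ V8 ∨ ∃ i : Fin 2, ∃ d, ∃ w ∈ V8,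
      c * d = w * d * inr (sr i)) v hv c (fun e => v1 (by rw [e, map_one])) (h.inj (by simpa using hc.eq)) with e | ⟨i, d, w, hw, e⟩
    · exact ⟨c, e, rfl⟩
    have := congrArg (fun w => lam (κ w)) e
    simp only [map_mul, hg, h.lam_eq_one lam ⟨w, hw, rfl⟩, one_mul, left_eq_mul] at this
    fin_cases i
    · exact absurd (h1.symm.trans this) (by norm_num)
    · exact absurd (h2.symm.trans this) (by norm_num)
  have rot : ∀ t ∈ V8.map κ, t ≠ 1 → ∀ L : Subgroup G, t ∈ L → κ (inr (r 1)) * t * (κ (inr (r 1)))⁻¹ ∈ L → V8.map κ ≤ L := by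
    rintro _ ⟨v, hv, rfl⟩ v1 L l1 l2 _ ⟨w, hw, rfl⟩
    obtain ⟨i, j, rfl⟩ := (by decide +kernel : ∀ v ∈ V8, ∀ w ∈ V8, v ≠ 1 → ∃ i j : Fin 3,
      w = v ^ i.1 * (inr (r 1) * v * (inr (r 1))⁻¹) ^ j.1) v hv w hw fun e => v1 (by rw [e, map_one])
    rw [map_mul, map_pow, map_pow, map_mul, map_mul, map_inv]
    exact L.mul_mem (L.pow_mem l1 _) (L.pow_mem l2 _)
  have nc : ¬ IsConj (κ (g8 0)) (κ (g8 1)) := by rw [h.isConj_iff' 1 (by decide) (by decide)]; decide +kernel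
  have x1 : κ (g8 0) ≠ 1 := (map_ne_one_iff κ h.inj).2 (by decide)
  have y1 : κ (g8 1) ≠ 1 := (map_ne_one_iff κ h.inj).2 (by decide)
  have hx : κ (g8 0) ∈ V8.map κ := ⟨_, rfl, rfl⟩
  have hy : κ (g8 1) ∈ V8.map κ := ⟨_, rfl, rfl⟩
  have hρ : κ (inr (r 1)) ∈ 𝐍(V8.map κ) := h.nrm.ge ⟨_, rfl⟩
  have hs := h.se
  have hl := fun t => h.lam_eq_one (t := t) lam
  generalize V8.map κ = T at *
  generalize κ (inr (r 1)) = ρ at *
  generalize κ (g8 0) = x, κ (g8 1) = y at *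
  have cy := not_isCyclic (by rw [h9]; omega) h3
  set M := normalClosure (T : Set G)
  have hTM : T ≤ M := le_normalClosure
  have hMk : M ≤ lam.ker := normalClosure_le_normal hl
  have hTs := hs.syl.mono hTM le_top
  have nM : ¬ M ≤ 𝐍(T) := fun e => nn ⟨fun t ht g => hTs.le_of_normalizes (isPGroup_cj g hs.syl.2)
    ((cj_mono g hTM).trans (cj_eq_of_normal g M).le) (((cj_mono g hTM).trans (cj_eq_of_normal g M).le).trans e) (conj_mem_cj.2 ht)⟩
  have small : ∀ L ≤ T, M ≤ 𝐍(L) → L = ⊥ := fun L hL hn => by_contra fun L0 => by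
    obtain ⟨⟨t, ht⟩, t1⟩ := ne_bot_iff_exists_ne_one.1 L0
    exact nM fun g hg => hs.key (hL ht) (by simpa using t1) (h3 _ (hL ht)) (le_normalizer (hL (conj_mem_of_mem_normalizer (hn hg) ht)))
  have simple : ∀ L ≤ M, M ≤ 𝐍(L) → L = ⊥ ∨ M ≤ L := fun L hL hn => or_iff_not_imp_right.2 fun hML => by
    have hTL : ¬ T ≤ L := fun e => hML (normalClosure_le_iff_cj.2 fun g => by
      obtain ⟨m, hm, e1⟩ := hTs.exists_cj_eq (T := T) (U := cj g T) (cj_eq_of_normal g M ▸ hTs.cj g)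
      exact e1 ▸ (cj_mono m e).trans (cj_eq_of_mem_normalizer (hn hm)).le)
    have hL' : cj ρ⁻¹ L ≤ M := (cj_mono _ hL).trans (cj_eq_of_normal _ M).le
    have hn' : M ≤ 𝐍(cj ρ⁻¹ L) := by rw [← cj_normalizer]; exact (cj_eq_of_normal _ M).ge.trans (cj_mono _ hn)
    have h0 : L ⊓ cj ρ⁻¹ L = ⊥ := hs.eq_bot' hC cy hTM (inf_le_left.trans hL) ((le_inf hn hn').trans inf_normalizer_le_normalizer_inf)
      (eq_bot_iff.2 fun t ⟨ht, l1, l2⟩ => by_contra fun t1 => hTL (rot t ht t1 L l1 (by simpa using mem_cj.1 l2)))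
    by_contra L0
    obtain ⟨⟨t, ht, tL⟩, t1⟩ := ne_bot_iff_exists_ne_one.1 (mt (hs.eq_bot' hC cy hTM hL' hn') (mt cj_eq_bot.1 L0))
    refine L0 (small L (fun g hg => ck t ht (fun e => t1 (Subtype.ext e)) g ?_ (hMk (hL hg))) hn)
    refine commutatorElement_eq_one_iff_commute.1 (mem_bot.1 (h0.le ⟨?_, ?_⟩))
    · simpa [commutatorElement_def, mul_assoc] using L.mul_mem hg (conj_mem_of_mem_normalizer (hn (hTM ht)) (L.inv_mem hg))
    · exact (cj _ L).mul_mem (conj_mem_of_mem_normalizer (hn' (hL hg)) tL) ((cj _ L).inv_mem tL)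
  haveI : Nontrivial M := (nontrivial_iff_ne_bot M).2 fun e => nM (e.le.trans bot_le)
  haveI : IsSimpleGroup M := ⟨fun L hL => by
    rcases simple (L.map M.subtype) (map_subtype_le L) (by
      simpa using (le_normalizer_map (H := L) M.subtype).trans' (by rw [normalizer_eq_top L, ← MonoidHom.range_eq_map]; simp)) with e | e
    · exact Or.inl ((map_eq_bot_iff_of_injective L M.subtype_injective).1 e)
    · exact Or.inr (eq_top_iff.2 fun g _ => by obtain ⟨k, hk, e⟩ := e g.2; exact Subtype.ext e ▸ hk)⟩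
  obtain ⟨e⟩ := alt_six (G := M) (T := T.subgroupOf M) (sylowIn_top hTs.toSylow)
    (by rw [Nat.card_congr (subgroupOfEquivOfLe hTM).toEquiv, h9]) (fun t ht => Subtype.ext (h3 _ ht))
    (fun t ht t1 => le_antisymm (fun (g : M) hg => ck t ht (by simpa using t1) g
      (Commute.map (show Commute g t from mem_centralizer_singleton_iff.1 hg) M.subtype) (hMk g.2))
      fun (g : M) hg => mem_centralizer_singleton_iff.2 (Subtype.ext (hs.comm g hg t ht))) (a := ⟨x, hTM hx⟩) (b := ⟨y, hTM hy⟩) hx hy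
    (by simpa using x1) (by simpa using y1) fun c => nc (M.subtype.map_isConj c)
  let f : G →* MulAut (alternatingGroup (Fin 6)) := (MulAut.congr e).toMonoidHom.comp MulAut.conjNormal
  have fv : ∀ g a, (e.symm (f g a) : G) = g * e.symm a * g⁻¹ := fun g a => by simp [f]
  have hf : ∀ g, f g ∈ (MulAut.conjNormal : Equiv.Perm (Fin 6) →* _).range := fun g => exists_conjNormal (by simp) _ fun a ha => by
    by_contra hb
    have a3 : orderOf a = 3 := by rw [← orderOf_coe, ha.orderOf]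
    have key : ∀ m : M, m ^ 3 = 1 → m ≠ 1 → IsConj (e.symm a : G) m := fun m m3 m1 => by
      have o : orderOf (e m) = 3 := by rw [e.orderOf_eq]; exact orderOf_eq_prime m3 m1
      have c : ∀ b, IsConj b (e m) → IsConj (e.symm b : G) m := fun b hb => by
        simpa using (M.subtype.comp e.symm.toMonoidHom).map_isConj hb
      by_cases h4 : (e m).1.IsThreeCycle
      · exact c _ (isConj_alt6 a3 o (iff_of_true ha h4))
      · exact (isConj_conj g _).trans (fv g a ▸ c _ (isConj_alt6 (by rw [(f g).orderOf_eq, a3]) o (iff_of_false hb h4)))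
    exact nc ((key ⟨x, hTM hx⟩ (Subtype.ext (h3 _ hx)) (by simpa using x1)).symm.trans
      (key ⟨y, hTM hy⟩ (Subtype.ext (h3 _ hy)) (by simpa using y1)))
  let F : G →* Equiv.Perm (Fin 6) :=
    (MonoidHom.ofInjective (Linear.conjNormal_alt_injective (α := Fin 6) (by simp))).symm.toMonoidHom.comp (f.codRestrict _ hf)
  have hf1 : Function.Injective f := (MonoidHom.ker_eq_bot_iff f).1 (small _ (fun g hg => hC fun t ht => by
      have := fv g (e ⟨t, hTM ht⟩)
      rw [MonoidHom.mem_ker.1 hg] at this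
      simpa [eq_mul_inv_iff_mul_eq] using this) (le_top.trans (normalizer_eq_top _).ge))
  have hF : Function.Injective F := fun a b e => hf1 (Subtype.ext_iff.1 ((MonoidHom.ofInjective
    (Linear.conjNormal_alt_injective (α := Fin 6) (by simp))).symm.injective e))
  refine ⟨MulEquiv.ofBijective F ((Nat.bijective_iff_injective_and_card F).2 ⟨hF, ?_⟩)⟩
  have c1 := Nat.card_le_card_of_injective F hF
  have c2 : Nat.card M = 360 := by rw [Nat.card_congr e.toEquiv, nat_card_alternatingGroup]; simp [Nat.factorial]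
  have c3 := M.card_mul_index
  have c4 : M.index ≠ 1 := fun e => absurd (h1.symm.trans (hMk ((index_eq_one.1 e).ge (mem_top _)))) (by norm_num)
  have c5 := M.index_ne_zero_of_finite
  rw [Nat.card_perm, Nat.card_fin, show Nat.factorial 6 = 720 from rfl] at c1 ⊢
  rw [c2] at c3; omega

end Md

end Cfsg.Lib.Block.Tri
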