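import Cfsg.Agent.Lib.Block.Nin4
import Cfsg.Agent.Lib.Block.Tri7
import Cfsg.Agent.Lib.SmT.Main
import Cfsg.Agent.Lib.Glaub.NPC

/-! # The `3`-local subgroups of a group with `N(J) = 3³ : S₄` -/

set_option autoImplicit false
set_option linter.unusedSectionVars false
set_option synthInstance.maxSize 100000
set_option maxRecDepth 100000

namespace Cfsg.Lib.Block.Nin

open Cfsg Cfsg.Lib.Core Cfsg.Lib.Invol Cfsg.Lib.Transfer Cfsg.Lib.Block.Tri Subgroup SemidirectProduct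

local notation "𝐍(" X ")" => normalizer (X : Set _)
local notation "𝐂(" X ")" => centralizer (X : Set _)
local notation "𝐂[" x "]" => centralizer ({x} : Set _)

variable {G : Type*} [Group G] [Finite G] {κ : W →* G} {v : W} {g e y : G}

theorem res_eq_bot {p : ℕ} [Fact p.Prime] (hO : pPrimeCore p G = ⊥) {K : Subgroup G} [K.Normal] (h : PNil p K) : resOf p K = ⊥ :=
  haveI := resOf_normal (p := p) K
  eq_bot_iff.2 (hO ▸ le_pPrimeCore h.coprime)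

theorem core_quot {p : ℕ} [hp : Fact p.Prime] (hO : pPrimeCore p G = ⊥) {N : Subgroup G} [N.Normal] (hN : IsPGroup p N)
    (hc : N ≤ center G) : pPrimeCore p (G ⧸ N) = ⊥ := by
  set K := (pPrimeCore p (G ⧸ N)).comap (QuotientGroup.mk' N)
  have h1 : N ≤ K := QuotientGroup.le_comap_mk' _ _
  have h2 : SylowIn p N K := ⟨h1, hN, by
    have := Transfer.card_mul_relIndex h1
    rw [Core.card_comap_mk', mul_comm, Nat.mul_left_inj Nat.card_pos.ne'] at this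
    exact this ▸ hp.out.coprime_iff_not_dvd.1 (coprime_card_pPrimeCore p _).symm⟩
  have h3 := h2.resOf_sup
  rw [res_eq_bot hO (h2.pnil_of_normalizer_le_centralizer fun g _ a ha => (mem_center_iff.1 (hc ha) g).symm), bot_sup_eq] at h3
  rw [← map_comap_eq_self_of_surjective (QuotientGroup.mk'_surjective N) (pPrimeCore p _)]
  exact (Subgroup.map_eq_bot_iff _).2 (by rw [QuotientGroup.ker_mk']; exact h3.ge)

theorem mem_zp3 (h : e ^ 3 = 1) : y ∈ zpowers e ↔ ∃ k : Fin 3, y = e ^ k.1 := by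
  refine ⟨fun ⟨k, hk⟩ => ⟨⟨(k % 3).toNat, by omega⟩, ?_⟩, fun ⟨k, hk⟩ => hk ▸ pow_mem (mem_zpowers e) _⟩
  rw [← zpow_natCast, Int.toNat_of_nonneg (by omega), ← hk]
  exact zpow_eq_zpow_emod k (by exact_mod_cast h)

theorem zj_S : centerThompsonOf 3 S = V := by
  have el : IsElementaryAbelian 3 V := elAb_iff.2 ⟨V_comm, V_cube⟩
  have VS : V ≤ S := (by decide +kernel : ∀ v ∈ V, v ∈ S)
  have c : Nat.card V = 27 := by rw [Nat.card_eq_fintype_card]; decide +kernel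
  have uq : ∀ A ≤ S, IsElementaryAbelian 3 A → 27 ≤ Nat.card A → A ≤ V := fun A h1 h2 h3 a ha => by_contra fun h4 => by
    have := card_le_of_le (show A ≤ 𝐂[MonoidHom.id W a] from fun b hb => mem_cent.2 (elAb_comm h2 hb ha))
    rw [card_cent Function.injective_id (fun x _ => ⟨x, rfl⟩), (by decide +kernel : ∀ a ∈ S, a ∉ V →
      (Finset.univ.filter fun c => c * a = a * c).card = 9) a (h1 ha) h4] at this
    omega
  have : V ∈ maxEl 3 S := ⟨VS, el, fun B a b => by_contra fun n => n (card_le_of_le (uq B a b (by omega)))⟩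
  rw [centerThompsonOf, le_antisymm (thompsonOf_le_iff.2 fun A hA => uq A hA.1 hA.2.1 (c ▸ hA.2.2 V VS el)) (le_thompsonOf this)]
  exact inf_eq_left.2 (elAb_le_centralizer el)

theorem U.of_reps (hi : Function.Injective κ) (h : ∀ i, i ≠ 0 → 𝐂[κ (a4 i)] ≤ κ.range) : U κ := ⟨hi, fun v hv v1 g hg => by
  obtain ⟨a, rfl⟩ := range_inl_eq_ker_rightHom.ge hv
  obtain ⟨d, hd⟩ := fus a
  have := h (cls a) (fun e => v1 (by rw [← hd, e]; simp [a4])) (mem_cent.2 (show Commute ((κ (inr d))⁻¹ * g * (κ (inr d))⁻¹⁻¹) _ by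
    have := (mem_cent.1 hg).conj (κ (inr d))⁻¹
    rwa [← hd, map_mul, map_mul, map_inv, show ∀ a b : G, a⁻¹ * (a * b * a⁻¹) * a⁻¹⁻¹ = b from fun a b => by group] at this))
  rwa [κ.range.mul_mem_cancel_right (inv_mem (inv_mem ⟨_, rfl⟩)), κ.range.mul_mem_cancel_left (inv_mem ⟨_, rfl⟩)] at this⟩

namespace M0
variable (h : M0 κ)
include h

theorem centA (hO : pPrimeCore 3 𝐂[κ (a4 3)] = ⊥) : 𝐂[κ (a4 3)] ≤ κ.range := by
  have le : S.map κ ≤ 𝐂[κ (a4 3)] := by rintro _ ⟨a, ha, rfl⟩; exact mem_cent.2 (Commute.map (mem_cent.1 ha) κ)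
  have hT := sylowIn_top (h.syl.mono le le_top).toSylow
  rw [SylowIn.coe_toSylow] at hT
  have := hT.resOf_sup
  rw [res_eq_bot hO (Glaub.pnil_of_zj (by decide) (.inr rfl) (Amalg.syl_of_sylowIn hT) (pnil_of_isPGroup (hT.2.to_le fun g hg => ?_))),
    bot_sup_eq, subgroupOf_eq_top] at this
  · exact this.trans (map_le_range _ _)
  have := le_normalizer_map (Subgroup.subtype _) (mem_map_of_mem _ hg)
  rw [Glaub.map_zj (subtype_injective _), map_subgroupOf_eq_of_le le, ← Glaub.map_zj h.inj, zj_S] at this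
  obtain ⟨c, hc⟩ := h.nrm this
  exact ⟨c, mem_cent.2 (h.inj (by rw [map_mul, map_mul, hc]; exact (mem_cent.1 g.2).eq)), hc⟩

theorem centB (hO : pPrimeCore 3 𝐂[κ (a4 2)] = ⊥) : 𝐂[κ (a4 2)] ≤ κ.range := by
  set C := 𝐂[κ (a4 2)]
  have le : V.map κ ≤ C := by rintro _ ⟨a, ha, rfl⟩; exact mem_cent.2 (Commute.map (V_comm a ha _ rfl) κ)
  have mem : ∀ g ∈ C, g ∈ 𝐍(V.map κ) → ∃ c, c * a4 2 = a4 2 * c ∧ κ c = g := fun g h1 h2 => by
    obtain ⟨c, rfl⟩ := h.nrm h2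
    exact ⟨c, h.inj (by simpa using (mem_cent.1 h1).eq), rfl⟩
  have hp : IsPGroup 3 (V.map κ) := IsPGroup.of_card (n := 3) h.card_V
  have hT : SylowIn 3 (V.map κ) C := sylowIn_of_maximal le hp fun Q hQ h1 h2 => by_contra fun h3 => by
    obtain ⟨g, hg, h4⟩ := SetLike.exists_of_lt (lt_inf_normalizer hQ (lt_of_le_not_ge h1 h3))
    obtain ⟨c, h5, rfl⟩ := mem g (h2 hg.1) hg.2
    obtain ⟨k, hk⟩ := IsPGroup.iff_orderOf.1 hQ ⟨_, hg.1⟩
    refine h4 (mem_of_pow_mem_of_coprime (n := 2) ?_ (map_pow κ c 2 ▸ mem_map_of_mem κ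
      ((by decide +kernel : ∀ c, c * a4 2 = a4 2 * c → c ^ 2 ∈ V) c h5)))
    rw [← orderOf_coe] at hk
    exact hk ▸ Nat.Coprime.pow_left _ (by norm_num)
  let z : C := ⟨κ (a4 2), mem_cent.2 (Commute.refl _)⟩
  have z3 : z ^ 3 = 1 := Subtype.ext (by simp [z, ← map_pow, V_cube (a4 2) rfl])
  have zc : zpowers z ≤ center C := zpowers_le.2 (mem_center_iff.2 fun g => Subtype.ext (mem_cent.1 g.2))
  haveI : (zpowers z).Normal := ⟨fun a ha g => by rwa [mem_center_iff.1 (zc ha) g, mul_inv_cancel_right]⟩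
  let η := QuotientGroup.mk' (zpowers z)
  have hT' := (sylowIn_top hT.toSylow).map η
  rw [SylowIn.coe_toSylow, map_top_of_surjective _ (QuotientGroup.mk'_surjective _)] at hT'
  obtain ⟨P, hP⟩ := hT'.exists_sylow_top
  have cm : P.1.comap η = (V.map κ).subgroupOf C := by
    rw [hP, comap_map_eq, QuotientGroup.ker_mk', sup_eq_left, zpowers_le]; exact mem_map_of_mem κ (show a4 2 ∈ V from rfl)
  have mP : ∀ x ∈ P.1, ∃ v, ∃ hv : v ∈ V, x = η ⟨κ v, le (mem_map_of_mem κ hv)⟩ := by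
    rw [hP]; rintro _ ⟨⟨_, _⟩, ⟨v, hv, rfl⟩, rfl⟩; exact ⟨v, hv, rfl⟩
  have act : ∀ (c : W) (hc : κ c ∈ C) (v) (hv : v ∈ V) (k : ℕ), c * v * c⁻¹ = v⁻¹ * a4 2 ^ k →
      η ⟨κ c, hc⟩ * η ⟨κ v, le (mem_map_of_mem κ hv)⟩ * (η ⟨κ c, hc⟩)⁻¹ = (η ⟨κ v, le (mem_map_of_mem κ hv)⟩)⁻¹ := fun c hc v hv k e => by
    rw [← mul_one (η ⟨κ v, _⟩)⁻¹, ← show η (z ^ k) = 1 from (QuotientGroup.eq_one_iff _).2 (pow_mem (mem_zpowers z) k)]
    simp only [← map_inv, ← map_mul]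
    exact congrArg η (Subtype.ext (by simpa [z] using congrArg κ e))
  have s1 : κ (w 0 12) ∈ C := mem_cent.2 (Commute.map (show _ = _ by decide +kernel) κ)
  have nP := SmT.normal_of_inv (by decide) (core_quot hO (isP z3) zc) P ⟨⟨fun a b => Subtype.ext (by
      obtain ⟨v, hv, e⟩ := mP _ a.2
      obtain ⟨v', hv', e'⟩ := mP _ b.2
      simp only [coe_mul, e, e', ← map_mul]
      exact congrArg η (Subtype.ext (by simpa using congrArg κ (V_comm v hv v' hv'))))⟩⟩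
    (not_isCyclic ?_ fun t ht => ?_) (fun n hn => ?_) (τ := η ⟨_, s1⟩) ?_ fun x hx => ?_
  · have := nP.comap η
    rw [cm, normal_subgroupOf_iff_le_normalizer le] at this
    exact this.trans h.nrm
  · have := Core.card_comap_mk' (zpowers z) P.1
    rw [cm, Nat.card_congr (subgroupOfEquivOfLe le).toEquiv, h.card_V, Nat.card_zpowers, orderOf_eq_prime z3
      fun e => (map_ne_one_iff κ h.inj).2 (show a4 2 ≠ 1 by decide) (congrArg Subtype.val e)] at this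
    omega
  · obtain ⟨v, hv, rfl⟩ := mP t ht
    rw [← map_pow, ← map_one η]; exact congrArg η (Subtype.ext (by simp [← map_pow, V_cube v hv]))
  · obtain ⟨⟨g, hg⟩, rfl⟩ := QuotientGroup.mk'_surjective _ n
    have := le_normalizer_map (Subgroup.subtype _) (mem_map_of_mem _ (le_normalizer_comap η hn))
    rw [cm, map_subgroupOf_eq_of_le le] at this
    obtain ⟨c, hc, rfl⟩ := mem g hg this
    refine ((by decide +kernel : ∀ c, c * a4 2 = a4 2 * c → (∀ v ∈ V, c * v * c⁻¹ = v) ∨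
      ∀ v ∈ V, ∃ k : Fin 3, c * v * c⁻¹ = v⁻¹ * a4 2 ^ k.1) c hc).imp (fun e x hx => ?_) fun e x hx => ?_
    · obtain ⟨v, hv, rfl⟩ := mP x hx
      simp only [η, ← map_inv, ← map_mul]
      exact congrArg _ (Subtype.ext (by simpa using congrArg κ (e v hv)))
    · obtain ⟨v, hv, rfl⟩ := mP x hx
      obtain ⟨k, hk⟩ := e v hv
      exact act c hg v hv k hk
  · refine hP ▸ le_normalizer_map η (mem_map_of_mem η (mem_normalizer_of_cj_le (cj_le_iff.2 fun x hx => ?_)))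
    exact Core.conj_mem_of_mem_normalizer (H := V.map κ) (range_le ⟨_, rfl⟩) hx
  · obtain ⟨v, hv, rfl⟩ := mP x hx
    obtain ⟨k, hk⟩ := (by decide +kernel : ∀ v ∈ V, ∃ k : Fin 3, w 0 12 * v * (w 0 12)⁻¹ = v⁻¹ * a4 2 ^ k.1) v hv
    exact act _ s1 v hv k hk

end M0

def ι8 : W8 →* W :=
  SemidirectProduct.lift (em (x := w 3 0) (y := w 9 0) (by decide +kernel) (by decide +kernel) (show _ = _ by decide +kernel))
    (MonoidHom.mk' (fun d => match d with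
      | .r k => w 0 (lk 0x10011100 8 256 k.val)
      | .sr k => w 0 (lk 0x13031202 8 256 k.val)) (by decide +kernel))
    fun d => MonoidHom.ext (by revert d; decide +kernel)

/-- the centralizers of the elements of `J` of weight at least two lie in `N(J)` -/
structure M1 (κ : W →* G) : Prop extends M0 κ where
  cen : ∀ v ∈ V, 2 ≤ (cls v.left).1 → 𝐂[κ v] ≤ κ.range

theorem M0.m1 (h : M0 κ) (h2 : pPrimeCore 3 𝐂[κ (a4 2)] = ⊥) (h3 : pPrimeCore 3 𝐂[κ (a4 3)] = ⊥) : M1 κ := ⟨h, fun v hv v1 g hg => by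
  obtain ⟨a, rfl⟩ := range_inl_eq_ker_rightHom.ge hv
  obtain ⟨d, hd⟩ := fus a
  have k : 𝐂[κ (a4 (cls a))] ≤ κ.range := by
    rcases (by decide : ∀ i : Fin 4, 2 ≤ i.1 → i = 2 ∨ i = 3) _ v1 with e | e <;> rw [show cls a = _ from e]
    exacts [h.centB h2, h.centA h3]
  have := k (mem_cent.2 (show Commute ((κ (inr d))⁻¹ * g * (κ (inr d))⁻¹⁻¹) _ by
    have := (mem_cent.1 hg).conj (κ (inr d))⁻¹
    rwa [← hd, map_mul, map_mul, map_inv, show ∀ a b : G, a⁻¹ * (a * b * a⁻¹) * a⁻¹⁻¹ = b from fun a b => by group] at this))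
  rwa [κ.range.mul_mem_cancel_right (inv_mem (inv_mem ⟨_, rfl⟩)), κ.range.mul_mem_cancel_left (inv_mem ⟨_, rfl⟩)] at this⟩

theorem mem_P {c : W} (hc : ∃ k : Fin 3, c * w 1 0 * c⁻¹ = w 1 0 ^ k.1) : κ c ∈ normalizer (zpowers (κ (w 1 0)) : Set G) := by
  obtain ⟨k, hk⟩ := hc
  refine mem_normalizer_of_cj_le (cj_zpowers_le.2 ?_)
  rw [← map_inv, ← map_mul, ← map_mul, hk, map_pow]; exact pow_mem (mem_zpowers _) _

theorem M1.sym (h : M1 κ) : κ.range = ⊤ ∨ ∃ π : normalizer (zpowers (κ (w 1 0)) : Set G) →* Equiv.Perm (Fin 6), Function.Surjective π ∧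
    ∀ g, π g = 1 ↔ g.1 ∈ zpowers (κ (w 1 0)) := by
  set P := normalizer (zpowers (κ (w 1 0)) : Set G)
  set Z := (zpowers (κ (w 1 0))).subgroupOf P
  have e3 : κ (w 1 0) ^ 3 = 1 := by rw [← map_pow, V_cube _ rfl, map_one]
  let η := QuotientGroup.mk' Z
  have m8 : ∀ x, κ (ι8 x) ∈ P := fun x => mem_P ((by decide +kernel : ∀ x, ∃ k : Fin 3, ι8 x * w 1 0 * (ι8 x)⁻¹ = w 1 0 ^ k.1) x)
  let κ8 : W8 →* P ⧸ Z := η.comp ((κ.comp ι8).codRestrict P m8)
  have ek : ∀ (g : P) (x : W8), (∃ k : Fin 3, g.1 = κ (ι8 x * w 1 0 ^ k.1)) → η g = κ8 x := fun g x ⟨k, e⟩ =>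
    ((QuotientGroup.eq (s := Z) (a := ⟨_, m8 x⟩)).2 (show (κ (ι8 x))⁻¹ * g.1 ∈ zpowers (κ (w 1 0)) by rw [e]; simp [pow_mem])).symm
  have mV : ∀ g : P, η g ∈ V8.map κ8 ↔ g.1 ∈ V.map κ := fun g => by
    constructor
    · rintro ⟨x, hx, e⟩
      obtain ⟨k, hk⟩ := (mem_zp3 e3).1 (show (κ (ι8 x))⁻¹ * g.1 ∈ zpowers _ from (QuotientGroup.eq (s := Z) (a := ⟨_, m8 x⟩)).1 e)
      rw [inv_mul_eq_iff_eq_mul.1 hk, ← map_pow, ← map_mul]
      exact mem_map_of_mem κ (V.mul_mem ((by decide +kernel : ∀ x ∈ V8, ι8 x ∈ V) x hx) (V.pow_mem rfl _))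
    · rintro ⟨v, hv, e⟩
      obtain ⟨x, hx, k, rfl⟩ := (by decide +kernel : ∀ v ∈ V, ∃ x ∈ V8, ∃ k : Fin 3, v = ι8 x * w 1 0 ^ k.1) v hv
      exact ⟨x, hx, (ek g x ⟨k, e.symm⟩).symm⟩
  have JP : V.map κ ≤ P := by
    rintro _ ⟨v, hv, rfl⟩; exact mem_P ⟨1, by rw [V_comm v hv _ rfl]; simp⟩
  have nV : ∀ g : P, η g ∈ 𝐍(V8.map κ8) ↔ g.1 ∈ 𝐍(V.map κ) := fun g => by
    refine ⟨fun e => mem_normalizer_of_cj_le (cj_le_iff.2 fun x hx => (mV (g * ⟨x, JP hx⟩ * g⁻¹)).1 ?_),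
      fun e => mem_normalizer_of_cj_le (cj_le_iff.2 fun x hx => ?_)⟩
    · simpa using Core.conj_mem_of_mem_normalizer e ((mV ⟨x, JP hx⟩).2 hx)
    · obtain ⟨x, rfl⟩ := QuotientGroup.mk'_surjective Z x
      rw [← map_inv, ← map_mul, ← map_mul]
      exact (mV (g * x * g⁻¹)).2 (Core.conj_mem_of_mem_normalizer e ((mV x).1 hx))
  have inj : Function.Injective κ8 := (injective_iff_map_eq_one _).2 fun x e => by
    obtain ⟨k, hk⟩ := (mem_zp3 e3).1 (show κ (ι8 x) ∈ zpowers _ from (QuotientGroup.eq_one_iff (N := Z) ⟨_, m8 x⟩).1 e)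
    exact (by decide +kernel : ∀ x, ∀ k : Fin 3, ι8 x = w 1 0 ^ k.1 → x = 1) x k (h.inj (by rw [hk, map_pow]))
  have nrm : 𝐍(V8.map κ8) = κ8.range := by
    refine le_antisymm (fun g hg => ?_) ?_
    · obtain ⟨⟨g, g1⟩, rfl⟩ := QuotientGroup.mk'_surjective Z g
      obtain ⟨c, rfl⟩ := h.nrm ((nV _).1 hg)
      obtain ⟨k, hk⟩ := (mem_zp3 e3).1 (Core.conj_mem_of_mem_normalizer g1 (mem_zpowers _))
      obtain ⟨x, l, rfl⟩ := (by decide +kernel : ∀ c, ∀ k : Fin 3, c * w 1 0 * c⁻¹ = w 1 0 ^ k.1 → ∃ x, ∃ l : Fin 3,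
        c = ι8 x * w 1 0 ^ l.1) c k (h.inj (by simpa using hk))
      exact ⟨x, (ek _ x ⟨l, rfl⟩).symm⟩
    · rintro _ ⟨x, rfl⟩; exact (nV ⟨_, m8 x⟩).2 (range_le ⟨_, rfl⟩)
  have c9 : Nat.card (V8.map κ8) = 3 ^ 2 := by rw [card_map_of_injective inj, Nat.card_eq_fintype_card]; decide +kernel
  have s : SylowIn 3 (V8.map κ8) κ8.range := ⟨map_le_range _ _, IsPGroup.of_card c9, by
    have := Transfer.card_mul_relIndex (map_le_range κ8 V8)
    rw [c9, ← Nat.card_congr (MonoidHom.ofInjective inj).toEquiv, Nat.card_eq_fintype_card,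
      show Fintype.card W8 = 72 by decide +kernel] at this
    omega⟩
  have md : Md V8 κ8 := by
    refine ⟨inj, ⟨sylowIn_of_maximal le_top s.2 fun Q hQ h1 _ => by_contra fun h2 => ?_, ?_, ?_⟩, nrm, by decide +kernel⟩
    · have := lt_inf_normalizer hQ (lt_of_le_not_ge h1 h2)
      exact this.ne' (s.eq_of_le (hQ.to_le inf_le_left) this.le (nrm ▸ inf_le_right))
    · rintro _ ⟨a, ha, rfl⟩ _ ⟨b, hb, rfl⟩
      exact Commute.map ((by decide +kernel : ∀ a ∈ V8, ∀ b ∈ V8, a * b = b * a) a ha b hb) κ8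
    rintro _ ⟨t, ht, rfl⟩ t1 g hg
    obtain ⟨g, rfl⟩ := QuotientGroup.mk'_surjective Z g
    refine (nV g).2 (mem_normalizer_of_cj_le (cj_le_iff.2 ?_))
    rintro _ ⟨j, hj, rfl⟩
    obtain ⟨p1, p2⟩ := (by decide +kernel : ∀ t ∈ V8, t ≠ 1 → ι8 t * w 1 0 ∈ V ∧ 2 ≤ (cls (ι8 t * w 1 0).left).1) t ht
      fun e => t1 (by rw [e, map_one])
    have cJ : ∀ y : P, η g⁻¹ * η y * (η g⁻¹)⁻¹ ∈ V8.map κ8 → Commute (g.1 * κ j * g.1⁻¹) y.1 := fun y hy => by
      obtain ⟨v, hv, e⟩ := (mV (g⁻¹ * y * g⁻¹⁻¹)).1 (by rwa [map_mul, map_mul, map_inv η g⁻¹])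
      have := (Commute.map (V_comm j hj v hv) κ).conj g.1
      rwa [e, show g.1 * (g⁻¹ * y * g⁻¹⁻¹).1 * g.1⁻¹ = y.1 by simp [mul_assoc]] at this
    have c1 := cJ ⟨κ (w 1 0), le_normalizer (mem_zpowers _)⟩ (by
      rw [show η ⟨κ (w 1 0), _⟩ = 1 from (QuotientGroup.eq_one_iff _).2 (mem_zpowers _)]; simp)
    have c2 := cJ ⟨_, m8 t⟩ (by
      rw [map_inv, show (η g)⁻¹ * η ⟨_, m8 t⟩ * (η g)⁻¹⁻¹ = κ8 t from (mem_cent.1 hg).inv_left.mul_inv_cancel]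
      exact mem_map_of_mem _ ht)
    obtain ⟨c, hc⟩ := h.cen _ p1 p2 (mem_cent.2 (show Commute (g.1 * κ j * g.1⁻¹) _ by rw [map_mul]; exact c2.mul_right c1))
    refine ⟨c, (by decide +kernel : ∀ c, c * w 1 0 = w 1 0 * c → c ^ 3 = 1 → c ∈ V) c (h.inj (by simpa [hc] using c1.eq))
      (h.inj ?_), hc⟩
    rw [map_pow, hc, conj_pow, ← map_pow, V_cube j hj]; simp
  rcases md.normal_or_sym with hn | ⟨⟨e⟩⟩
  · refine Or.inl (U.of_reps h.inj fun i hi => ?_).eq_top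
    rcases (by decide +kernel : ∀ i, i ≠ 0 → a4 i = w 1 0 ∨ a4 i ∈ V ∧ 2 ≤ (cls (a4 i).left).1) i hi with e | e
    · exact fun g hg => h.nrm ((nV ⟨g, centralizer_le_normalizer _ (by
        rwa [zpowers_eq_closure, centralizer_closure, ← e])⟩).1 ((normalizer_eq_top _).ge (mem_top _)))
    · exact h.cen _ e.1 e.2
  · exact Or.inr ⟨e.toMonoidHom.comp η, e.surjective.comp (QuotientGroup.mk'_surjective Z),
      fun g => (map_eq_one_iff e e.injective).trans (QuotientGroup.eq_one_iff g)⟩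

end Cfsg.Lib.Block.Nin
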