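import Cfsg.Agent.Lib.Block.Nin7
import Cfsg.Agent.Lib.Block.Nin8
import Cfsg.Agent.Lib.Block.Nin9
import Mathlib.GroupTheory.SpecificGroups.Alternating.Simple

/-! # A subgroup `2 × S₄` of a group with `N(J) = 3³ : S₄` -/

set_option autoImplicit false
set_option linter.unusedSectionVars false
set_option synthInstance.maxSize 100000
set_option maxRecDepth 100000

namespace Cfsg.Lib.Block.Nin

open Cfsg Cfsg.Lib.Core Cfsg.Lib.Invol Cfsg.Lib.Transfer Cfsg.Lib.Block.Tri Subgroup SemidirectProduct Equiv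

local notation "𝐂[" x "]" => centralizer ({x} : Set _)

variable {G : Type*} [Group G] [Finite G] {κ : W →* G} {g e s y : G}

theorem exists_lift {A B C : Type*} [Group A] [Group B] [Group C] {f : A →* C} {g : B →* C} (hg : Function.Injective g)
    (h : ∀ a, ∃ b, g b = f a) : ∃ l : A →* B, ∀ a, g (l a) = f a :=
  ⟨(MonoidHom.ofInjective hg).symm.toMonoidHom.comp (f.codRestrict _ h), fun _ => MonoidHom.apply_ofInjective_symm hg _⟩

theorem conj_inv3 (e3 : e ^ 3 = 1) (h : s * e * s⁻¹ = e⁻¹) (hy : y ∈ zpowers e) : y * s * y⁻¹ = s * y := by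
  obtain ⟨k, rfl⟩ := hy
  have : e ^ k * s = s * (e ^ k)⁻¹ := by
    rw [← inv_zpow, ← inv_inj, mul_inv_rev, mul_inv_rev, inv_zpow, inv_inv, ← inv_zpow, ← h, conj_zpow]; group
  simp only [this, mul_assoc, ← mul_inv_rev, ← mul_zpow, ← (Commute.refl e).mul_zpow, mul_self_of_cube e3, inv_zpow, inv_inv]

/-- the configuration obtained from `N(⟨e⟩)/⟨e⟩ ≅ S₆` -/
structure SS (κ : W →* G) (Λ : M48 →* G) : Prop extends M1 κ where
  lin : Function.Injective Λ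
  hσ : Λ σ = κ (w 0 18)
  hβ : Λ β = κ (w 12 0)
  hυ : Λ υ = κ (w 0 1)
  ce : ∀ d : T24, Commute (Λ (1, d)) (κ (w 1 0))
  cV : ∀ g, Commute g (κ (w 1 0)) → (∀ d : T24, d.1 < 4 → Commute g (Λ (1, d))) →
    ∃ d : T24, d.1 < 4 ∧ ∃ y ∈ zpowers (κ (w 1 0)), g = Λ (1, d) * y
  cls : ∀ d : T24, d.1 < 4 → d ≠ 1 → IsConj (κ (w 0 2)) (Λ σ) ∨ IsConj (κ (w 0 2)) (Λ (σ * (1, d)))
  res : κ (w 0 16) ∈ resOf 2 ⊤

theorem M1.ss (h : M1 κ) {π : normalizer (zpowers (κ (w 1 0)) : Set G) →* Perm (Fin 6)} (hs : Function.Surjective π)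
    (hk : ∀ g, π g = 1 ↔ g.1 ∈ zpowers (κ (w 1 0))) : ∃ Λ, SS κ Λ := by
  have mP := fun c (hc : ∃ k : Fin 3, c * w 1 0 * c⁻¹ = w 1 0 ^ k.1) => mem_P (κ := κ) hc
  have ms := mP (w 0 18) (by decide +kernel)
  have mb := mP (w 12 0) (by decide +kernel)
  have mu := mP (w 0 1) (by decide +kernel)
  have mv := mP (w 0 2) (by decide +kernel)
  have mh := mP (w 0 16) (by decide +kernel)
  have e3 : κ (w 1 0) ^ 3 = 1 := by rw [← map_pow, V_cube _ rfl, map_one]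
  have e1 : κ (w 1 0) ≠ 1 := (map_ne_one_iff κ h.inj).2 (by decide)
  have ei : (κ (w 1 0))⁻¹ ≠ κ (w 1 0) := by rw [← map_inv]; exact h.inj.ne (by decide +kernel)
  have rel : ∀ {a b : W} {x y : normalizer (zpowers (κ (w 1 0)) : Set G)}, x.1 = κ a → y.1 = κ b → a = b → π x = π y :=
    fun e1 e2 e3 => congrArg π (Subtype.ext (by rw [e1, e2, e3]))
  have s2 : π ⟨_, ms⟩ * π ⟨_, ms⟩ = 1 := by
    rw [← map_mul, ← map_one π]; exact rel (map_mul κ _ _).symm κ.map_one.symm (by decide +kernel)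
  have v2 : π ⟨_, mv⟩ * π ⟨_, mv⟩ = 1 := by
    rw [← map_mul, ← map_one π]; exact rel (map_mul κ _ _).symm κ.map_one.symm (by decide +kernel)
  have u2 : π ⟨_, mu⟩ * π ⟨_, mu⟩ = 1 := by
    rw [← map_mul, ← map_one π]; exact rel (map_mul κ _ _).symm κ.map_one.symm (by decide +kernel)
  have b3 : π ⟨_, mb⟩ ^ 3 = 1 := by
    rw [← map_pow, ← map_one π]; exact rel (map_pow κ _ _).symm κ.map_one.symm (by decide +kernel)
  have b1 : π ⟨_, mb⟩ ≠ 1 := fun e => by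
    obtain ⟨k, e⟩ := (mem_zp3 e3).1 ((hk _).1 e)
    exact (by decide +kernel : ∀ k : Fin 3, w 12 0 ≠ w 1 0 ^ k.1) k (h.inj (by rw [map_pow]; exact e))
  have bs : Commute (κ (w 12 0)) (κ (w 0 18)) := Commute.map (show _ = _ by decide +kernel) κ
  have us : Commute (κ (w 0 1)) (κ (w 0 18)) := Commute.map (show _ = _ by decide +kernel) κ
  have ub : π ⟨_, mu⟩ * π ⟨_, mb⟩ * (π ⟨_, mu⟩)⁻¹ = (π ⟨_, mb⟩)⁻¹ := by
    simp only [← map_inv, ← map_mul]
    exact rel (a := w 0 1 * w 12 0 * (w 0 1)⁻¹) (by simp) (map_inv κ _).symm (by decide +kernel)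
  have se : κ (w 0 18) * κ (w 1 0) * (κ (w 0 18))⁻¹ = (κ (w 1 0))⁻¹ := by
    simp only [← map_inv, ← map_mul]; exact congrArg κ (by decide +kernel)
  have ve : κ (w 0 2) * κ (w 1 0) * (κ (w 0 2))⁻¹ = (κ (w 1 0))⁻¹ := by
    simp only [← map_inv, ← map_mul]; exact congrArg κ (by decide +kernel)
  have ue : Commute (κ (w 0 1)) (κ (w 1 0)) := Commute.map (show _ = _ by decide +kernel) κ
  have he : Commute (κ (w 0 16)) (κ (w 1 0)) := Commute.map (show _ = _ by decide +kernel) κ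
  have ss : κ (w 0 18) * κ (w 0 18) = 1 := by rw [← map_mul, show w 0 18 * w 0 18 = 1 by decide +kernel, map_one]
  have vv : κ (w 0 2) * κ (w 0 2) = 1 := by rw [← map_mul, show w 0 2 * w 0 2 = 1 by decide +kernel, map_one]
  have o3 : orderOf (κ (w 12 0)) = 3 := orderOf_eq_prime (by rw [← map_pow, V_cube _ rfl, map_one])
    ((map_ne_one_iff κ h.inj).2 (by decide))
  generalize he' : κ (w 1 0) = e at *
  let P := normalizer (zpowers e : Set G)
  have zP : zpowers e ≤ P := le_normalizer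
  have cP : ∀ g, Commute g e → g ∈ P := fun g hg => mem_normalizer_of_cj_le (cj_zpowers_le.2 (by rw [hg.mul_inv_cancel]; simp))
  have pm : ∀ g : P, g.1 * e * g.1⁻¹ = e ∨ g.1 * e * g.1⁻¹ = e⁻¹ := fun g => by
    obtain ⟨k, hk⟩ := (mem_zp3 e3).1 (Core.conj_mem_of_mem_normalizer g.2 (mem_zpowers e))
    fin_cases k
    · simp [conj_eq_one_iff, e1] at hk
    · exact Or.inl (by simpa using hk)
    · exact Or.inr (by simpa [sq, mul_self_of_cube e3] using hk)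
  have sg : ∀ g : P, Perm.sign (π g) = 1 ↔ Commute g.1 e := fun g => by
    have i2 : (𝐂[e].subgroupOf P).index = 2 := index_eq_two_iff.2 ⟨⟨_, ms⟩, fun b => by
      simp only [mem_subgroupOf, mem_cent, coe_mul, Commute, SemiconjBy, ← mul_inv_eq_iff_eq_mul]
      rw [show b.1 * κ (w 0 18) * e * (b.1 * κ (w 0 18))⁻¹ = (b.1 * e * b.1⁻¹)⁻¹ by rw [conj_inv, ← se]; group]
      rcases pm b with e | e <;> simp [e, ei, Xor']⟩
    have kl : π.ker ≤ 𝐂[e].subgroupOf P := fun g hg => by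
      obtain ⟨k, hk⟩ := (hk g).1 hg
      exact mem_cent.2 (by rw [show (P.subtype g : G) = e ^ k from hk.symm]; simp)
    rw [← Perm.mem_alternatingGroup, ← Perm.eq_alternatingGroup_of_index_eq_two ((index_map_eq _ hs kl).trans i2), ← mem_comap,
      comap_map_eq_self kl]
    exact mem_cent
  have od : ∀ g : P, g.1 * e * g.1⁻¹ = e⁻¹ → Perm.sign (π g) = -1 := fun g hg => (Int.units_eq_one_or _).resolve_left fun e =>
    ei (by rw [← hg, ((sg g).1 e).mul_inv_cancel])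
  have pe : ∀ {x y : P}, π x = π y → ∃ z ∈ zpowers e, y.1 = x.1 * z := fun {x y} e =>
    ⟨_, (hk (x⁻¹ * y)).1 (by simp [e]), by simp⟩
  obtain ⟨μ, hμ, μb, μu⟩ := exists_sd s2 (od _ se) b3 b1 (by rw [← map_mul, ← map_mul]; exact congrArg π (Subtype.ext bs.eq)) u2
    ((sg _).2 ue) (by rw [← map_mul, ← map_mul]; exact congrArg π (Subtype.ext us.eq)) ub
  set τ := π ⟨_, ms⟩
  let μ' : M48 →* Perm (Fin 6) := MonoidHom.mk' (fun d => τ ^ d.1.toAdd.val * μ d.2) fun a b => by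
    simp only [Prod.fst_mul, Prod.snd_mul, toAdd_mul, ZMod.val_add, ← pow_eq_pow_mod _ (show τ ^ 2 = 1 by rwa [sq]), pow_add, map_mul]
    exact (Commute.pow_left (hμ.cm _).symm _).mul_mul_mul_comm _ _
  have μ1 : ∀ d, μ' (1, d) = μ d := fun d => by simp [μ']
  have μσ : μ' σ = τ := by simp [μ', σ, ν, ZMod.val_one]
  have cs : ∀ d, Commute (μ' d) τ := fun d => ((Commute.refl τ).pow_left _).mul_left (hμ.cm _)
  let ρ := π.comp (𝐂[κ (w 0 18)].subgroupOf P).subtype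
  have ρi : Function.Injective ρ := (injective_iff_map_eq_one _).2 fun x e => by
    have := conj_inv3 e3 se ((hk x.1).1 e)
    rw [(mem_cent.1 (mem_subgroupOf.1 x.2)).mul_inv_cancel] at this
    exact Subtype.ext (Subtype.ext (left_eq_mul.1 this))
  obtain ⟨l, hl⟩ := exists_lift (f := μ') ρi fun d => by
    obtain ⟨g, hg⟩ := hs (μ' d)
    obtain ⟨z, hz, e⟩ := pe (x := ⟨_, ms⟩) (y := g⁻¹ * ⟨_, ms⟩ * g⁻¹⁻¹) (by simp [hg, (cs d).inv_mul_cancel, τ])
    refine ⟨⟨g * ⟨z, zP hz⟩, mem_cent.2 (mul_inv_eq_iff_eq_mul.1 ?_)⟩, by simp [ρ, hg, (hk ⟨z, zP hz⟩).2 hz]⟩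
    calc _ = g.1 * (z * κ (w 0 18) * z⁻¹) * g.1⁻¹ := by simp [mul_assoc]
      _ = _ := by rw [conj_inv3 e3 se hz, ← show _ = κ (w 0 18) * z from e]; simp [mul_assoc]
  let Λ : M48 →* G := (P.subtype.comp (Subgroup.subtype _)).comp l
  have Λe : ∀ (g : P) d, Commute g.1 (κ (w 0 18)) → μ' d = π g → Λ d = g := fun g d h1 h2 =>
    congrArg (fun x => x.1.1) (ρi ((hl d).trans h2) : l d = ⟨g, mem_cent.2 h1⟩)
  have hl' : ∀ d, π (l d).1 = μ' d := hl
  have ce : ∀ d : T24, Commute (Λ (1, d)) e := fun d => (sg (l (1, d)).1).1 (by rw [hl', μ1, hμ.ev])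
  have hσ := Λe ⟨_, ms⟩ σ (Commute.refl _) μσ
  refine ⟨Λ, h, (injective_iff_map_eq_one _).2 fun d e => ?_, hσ, Λe ⟨_, mb⟩ β bs ((μ1 _).trans μb),
    Λe ⟨_, mu⟩ υ us ((μ1 _).trans μu), he' ▸ ce, he' ▸ fun g h1 h2 => ?_, fun d d1 d2 => ?_, ?_⟩
  · have e1 : μ' d = 1 := by rw [← hl', show (l d).1 = 1 from Subtype.ext e, map_one]
    rcases (by decide +kernel : ∀ d : M48, d = (1, d.2) ∨ d = σ * (1, d.2)) d with e | e
    · rw [e, μ1, map_eq_one_iff μ hμ.inj] at e1; rw [e, e1]; rfl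
    · have := congrArg Perm.sign e1
      rw [e, map_mul, μσ, μ1, map_mul, hμ.ev, od _ se] at this; simp at this
  · obtain ⟨d, d1, e⟩ := hμ.cV (π ⟨g, cP g h1⟩) ((sg _).2 h1) fun d hd => by
      rw [← μ1, ← hl', ← map_mul, ← map_mul]; exact congrArg π (Subtype.ext (h2 d hd))
    exact ⟨d, d1, pe (x := (l (1, d)).1) (y := ⟨g, cP g h1⟩) (by rw [hl', μ1, e])⟩
  · have k : ∀ x : P, x.1 * e * x.1⁻¹ = e⁻¹ → IsConj (π ⟨_, mv⟩) (π x) → IsConj (κ (w 0 2)) x.1 := fun x h1 h2 => by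
      obtain ⟨c, hc⟩ := isConj_iff.1 h2
      obtain ⟨c, rfl⟩ := hs c
      obtain ⟨z, hz, e⟩ := pe (x := x) (y := c * ⟨_, mv⟩ * c⁻¹) (by simp [hc])
      exact (isConj_iff.2 ⟨c.1, e⟩).trans (isConj_iff.2 ⟨z, conj_inv3 e3 h1 hz⟩).symm
    refine (hμ.cls d d1 d2 _ v2 (od _ ve)).imp (fun e => hσ ▸ k ⟨_, ms⟩ se e) fun e => k (l (σ * (1, d))).1 ?_ ?_
    · show Λ _ * _ * (Λ _)⁻¹ = _
      rw [map_mul, hσ, ← se, mul_assoc _ (Λ _), (ce d).eq]; group
    · rwa [hl', map_mul, μσ, μ1]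
  · have n := resOf_normal (p := 2) (⊤ : Subgroup G)
    have n2 := (n.subgroupOf P).map π hs
    have := Perm.alternatingGroup_le_of_normal (by simp) (N := ((resOf 2 ⊤).subgroupOf P).map π) ((nontrivial_iff_ne_bot _).2 fun e => b1
      (mem_bot.1 (e.le (mem_map_of_mem π (mem_resOf (mem_top _) (by rw [show orderOf (P.subtype ⟨_, mb⟩) = 3 from o3]; norm_num))))))
    obtain ⟨x, hx, e⟩ := this (Perm.mem_alternatingGroup.2 ((sg ⟨_, mh⟩).2 he))
    obtain ⟨z, hz, e⟩ := pe e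
    rw [show κ (w 0 16) = _ from e]
    exact mul_mem hx (zpowers_le.2 (mem_resOf (mem_top _) (by rw [orderOf_eq_prime e3 e1]; norm_num)) hz)

end Cfsg.Lib.Block.Nin
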