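import Cfsg.Agent.Lib.Block.Nin10
import Cfsg.Agent.Lib.BS.First1
import Cfsg.Agent.Lib.Coprime.Generation
import Cfsg.Agent.Lib.Small.Simple
import Cfsg.Agent.Lib.Linear.SmallIso

/-! # A `3`-local characterization of `A₉` -/

set_option autoImplicit false
set_option linter.unusedSectionVars false
set_option synthInstance.maxSize 100000
set_option maxRecDepth 100000

namespace Cfsg.Lib.Block.Nin

open Cfsg Cfsg.Lib.Invol Cfsg.Lib.Transfer Cfsg.Lib.Block.Tri Cfsg.Lib.X32 Cfsg.Lib.Exc Subgroup SemidirectProduct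

local notation "𝐍(" X ")" => normalizer (SetLike.coe X)
local notation "𝐂(" X ")" => centralizer (SetLike.coe X)
local notation "𝐂[" x "]" => centralizer ({x} : Set _)

universe u

variable {G : Type u} [Group G] [Finite G] {κ : W →* G} {Λ : M48 →* G} {g c x y : G} {a : W} {d : M48}

theorem LD.conj3 (h : LD Λ) (c3 : c ^ 3 = 1) (c1 : c ≠ 1) : IsConj c (Λ β) := by
  haveI := h.nrmZ
  obtain ⟨g, -, e⟩ := h.c3.sylow.exists_cj_le (isP (b := QuotientGroup.mk' _ c) (by rw [← map_pow, c3, map_one])) le_top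
  obtain ⟨g, rfl⟩ := QuotientGroup.mk'_surjective _ g
  obtain ⟨k, hk⟩ := cj_zpowers_le.1 e
  have : (Λ β ^ k)⁻¹ * (g * c * g⁻¹) ∈ zpowers (Λ σ) := QuotientGroup.eq.1 (by simpa using hk)
  obtain ⟨x, hx⟩ := h.cb (g * c * g⁻¹) (by
    rcases h.memZ.1 this with e | e <;> rw [inv_mul_eq_iff_eq_mul.1 e]
    exacts [by simp, ((Commute.refl _).zpow_left k).mul_left (h.cen _).symm])
  obtain ⟨k, e⟩ := (by decide +kernel : ∀ x : M48, x ^ 3 = 1 → x ≠ 1 → ∃ k, k * x * k⁻¹ = β) x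
    (h.inj (by rw [map_pow, hx, conj_pow, c3]; simp)) fun e => c1 (by rwa [e, map_one, eq_comm, conj_eq_one_iff] at hx)
  exact (isConj_iff.2 ⟨g, hx.symm⟩).trans (Λ.map_isConj (isConj_iff.2 ⟨k, e⟩))

abbrev Q4 : Subgroup M48 := sg (fun d => d.1 = 1 ∧ d.2.1 < 4) (by decide +kernel)

abbrev E9 : Subgroup W := sg (fun a => a.right = 1 ∧ a.left.1 % 12 < 3) (by decide +kernel)

theorem memX : g ∈ 𝐂(Q4.map Λ) ↔ ∀ d ∈ Q4, Commute g (Λ d) :=
  ⟨fun h d hd => (h _ ⟨d, hd, rfl⟩).symm, by rintro h _ ⟨d, hd, rfl⟩; exact (h d hd).symm⟩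

namespace SS
variable (h : SS κ Λ)
include h

theorem e3 : κ (w 1 0) ^ 3 = 1 := by rw [← map_pow, V_cube _ rfl, map_one]

theorem e1 : κ (w 1 0) ≠ 1 := (map_ne_one_iff κ h.inj).2 (by decide)

theorem ce' (hd : d.1 = 1) : Commute (Λ d) (κ (w 1 0)) := (Prod.ext hd.symm rfl : (1, d.2) = d) ▸ h.ce d.2

theorem eX : κ (w 1 0) ∈ 𝐂(Q4.map Λ) := memX.2 fun _ hd => (h.ce' hd.1).symm

theorem cV' (h1 : g ∈ 𝐂(Q4.map Λ)) (h2 : Commute g (κ (w 1 0))) : ∃ d ∈ Q4, ∃ y ∈ zpowers (κ (w 1 0)), g = Λ d * y := by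
  obtain ⟨d, h3, e⟩ := h.cV g h2 fun d hd => memX.1 h1 _ ⟨rfl, hd⟩
  exact ⟨_, ⟨rfl, h3⟩, e⟩

theorem EX : E9.map κ ≤ 𝐍(𝐂(Q4.map Λ)) := by
  rintro _ ⟨a, ha, rfl⟩
  obtain ⟨i, j, rfl⟩ := (by decide +kernel : ∀ a ∈ E9, ∃ i j : Fin 3, a = w 1 0 ^ i.1 * w 12 0 ^ j.1) a ha
  rw [map_mul, map_pow, map_pow, ← h.hβ]
  refine mul_mem (pow_mem (le_normalizer h.eX) _) (pow_mem (mem_normalizer_of_cj_le (cj_le_iff.2 fun g hg => memX.2 fun d hd => ?_)) _)
  simpa [mul_assoc] using (memX.1 hg _ ((by decide +kernel : ∀ d ∈ Q4, β⁻¹ * d * β ∈ Q4) d hd)).conj (Λ β)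

theorem cE (ha : a ∈ E9) (a1 : a ≠ 1) (hg : Commute g (κ a)) : Commute g (κ (w 1 0)) ∨ g ∈ κ.range := by
  rcases (by decide +kernel : ∀ a ∈ E9, a ≠ 1 → (w 1 0 = a ∨ w 1 0 = a⁻¹) ∨ a ∈ V ∧ 2 ≤ (Nin.cls a.left).1) a ha a1 with (e | e) | e
  exacts [Or.inl (e ▸ hg), Or.inl (by rw [e, map_inv]; exact hg.inv_right), Or.inr (h.cen a e.1 e.2 (mem_cent.2 hg))]

theorem card_E : Nat.card (E9.map κ) = 9 := by rw [card_map_of_injective h.inj, card_sg]; decide +kernel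

theorem core {O : Subgroup G} (h1 : O ≤ 𝐂(Q4.map Λ)) (h2 : (Nat.card O).Coprime 3) (h3 : E9.map κ ≤ 𝐍(O)) : O ≤ Q4.map Λ := by
  have o : ∀ x ∈ O, x ^ 3 = 1 → x = 1 := fun x hx e => orderOf_eq_one_iff.1
    (Nat.eq_one_of_dvd_coprimes h2 (O.orderOf_dvd_natCard hx) (orderOf_dvd_of_pow_eq_one e))
  have EV : ∀ a ∈ E9, a ∈ V := fun _ ha => ha.1
  haveI : IsMulCommutative (E9.map κ) := ⟨⟨by
    rintro ⟨_, a, ha, rfl⟩ ⟨_, b, hb, rfl⟩; exact Subtype.ext (Commute.map (V_comm a (EV a ha) b (EV b hb)) κ)⟩⟩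
  refine Coprime.le_of_forall_centralizer_le (not_isCyclic (by rw [h.card_E]; norm_num) ?_) h3
    (by rw [h.card_E]; exact (h2.pow_right 2).symm) ?_
  · rintro _ ⟨a, ha, rfl⟩; rw [← map_pow, V_cube a (EV a ha), map_one]
  rintro _ ⟨a, ha, rfl⟩ a1 g ⟨hg, c⟩
  have c : Commute g (κ (w 1 0)) := (h.cE ha (fun e => a1 (by rw [e, map_one])) (mem_cent.1 c)).elim id (by
    rintro ⟨b, rfl⟩
    have := o _ (mul_mem (Core.conj_mem_of_mem_normalizer (h3 (mem_map_of_mem κ (show w 1 0 ∈ E9 by decide +kernel))) hg) (inv_mem hg)) (by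
      simp only [← map_inv, ← map_mul, ← map_pow]
      rw [(by decide +kernel : ∀ c, (w 1 0 * c * (w 1 0)⁻¹ * c⁻¹) ^ 3 = 1) b, map_one])
    exact (mul_inv_eq_iff_eq_mul.1 (mul_inv_eq_one.1 this)).symm)
  obtain ⟨d, hd, y, ⟨k, rfl⟩, rfl⟩ := h.cV' (h1 hg) c
  have d2 : Λ d ^ 2 = 1 := by rw [← map_pow, (by decide +kernel : ∀ d ∈ Q4, d ^ 2 = 1) d hd, map_one]
  have y3 : (κ (w 1 0) ^ k) ^ 3 = 1 := by rw [← zpow_natCast, ← zpow_mul, mul_comm, zpow_mul, zpow_natCast, h.e3, one_zpow]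
  have := pow_mem hg 4
  rw [((h.ce' hd.1).zpow_right k).mul_pow, pow_mul _ 2 2, d2, pow_succ _ 3, y3, one_pow, one_mul, one_mul] at this
  simp only [o _ this y3, mul_one]
  exact mem_map_of_mem Λ hd

theorem free {p : ℕ} (hp : p = 5 ∨ p = 7) : 9 ∣ Nat.card {x : 𝐂(Q4.map Λ) // orderOf x = p} := by
  rw [← h.card_E, Nat.card_congr ((Equiv.subtypeSubtypeEquivSubtypeInter _ fun x => orderOf x = p).symm.trans
    (Equiv.subtypeEquivRight fun x => by rw [orderOf_coe])).symm]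
  refine BS.card_dvd_of_free (fun c hc a ha => ⟨Core.conj_mem_of_mem_normalizer (h.EX hc) ha.1, by rw [orderOf_conj, ha.2]⟩) ?_
  rintro _ ⟨a, ha, rfl⟩ g ⟨h1, h2⟩ c
  by_contra a1
  rcases h.cE ha (fun e => a1 (by rw [e, map_one])) c.symm with c | c
  · obtain ⟨d, hd, y, ⟨k, rfl⟩, rfl⟩ := h.cV' h1 c
    have : p ∣ 6 := h2 ▸ orderOf_dvd_of_pow_eq_one (by
      rw [((h.ce' hd.1).zpow_right k).mul_pow, ← map_pow, (by decide +kernel : ∀ d ∈ Q4, d ^ 6 = 1) d hd, map_one, one_mul,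
        ← zpow_natCast, ← zpow_mul, mul_comm, zpow_mul, zpow_natCast, pow_mul _ 3 2, h.e3, one_pow, one_zpow])
    rcases hp with rfl | rfl <;> omega
  · have := h2 ▸ h.card_range ▸ κ.range.orderOf_dvd_natCard c
    rcases hp with rfl | rfl <;> omega

theorem card_X : Nat.card 𝐂(Q4.map Λ) ∣ 24 := by
  have f5 := h.free (.inl rfl)
  have f7 := h.free (.inr rfl)
  have le : Q4.map Λ ≤ 𝐂(Q4.map Λ) := by
    rintro _ ⟨a, ha, rfl⟩
    exact memX.2 fun d hd => Commute.map ((by decide +kernel : ∀ a ∈ Q4, ∀ d ∈ Q4, a * d = d * a) a ha d hd) Λ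
  have co := h.core (Core.pPrimeCoreOf_le _) (Core.coprime_card_pPrimeCoreOf _) (h.EX.trans (Core.normalizer_le_normalizer_pPrimeCoreOf _))
  have q2 : ∀ x ∈ Q4.map Λ, x ^ 3 = 1 → x = 1 := by
    rintro _ ⟨d, hd, rfl⟩ e
    rwa [← map_pow, (by decide +kernel : ∀ d ∈ Q4, d ^ 3 = d) d hd] at e
  have c4 : Nat.card (Q4.map Λ) = 4 := by rw [card_map_of_injective h.lin, card_sg]; decide +kernel
  have eX := h.eX
  have cV := fun g => h.cV' (g := g)
  generalize hX : 𝐂(Q4.map Λ) = X at *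
  have zc : ∀ x : X, ∀ y ∈ Q4.map Λ, Commute y x.1 := fun x => hX.ge x.2
  haveI : ((Q4.map Λ).subgroupOf X).Normal := ⟨fun a ha g => by
    rwa [show g * a * g⁻¹ = a from Subtype.ext (zc g _ ha).symm.mul_inv_cancel]⟩
  let η := QuotientGroup.mk' ((Q4.map Λ).subgroupOf X)
  have cX := card_eq_card_quotient_mul_card_subgroup ((Q4.map Λ).subgroupOf X)
  rw [Core.card_subgroupOf_of_le le, c4] at cX
  let z : X := ⟨_, eX⟩
  have c3 : Exc.C3 (η z) := by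
    refine ⟨orderOf_eq_prime (by rw [← map_pow, ← map_one η]; exact congrArg η (Subtype.ext h.e3)) fun e =>
      h.e1 (q2 _ ((QuotientGroup.eq_one_iff z).1 e) h.e3), fun g hg => ?_⟩
    obtain ⟨g, rfl⟩ := QuotientGroup.mk'_surjective _ g
    have e : (κ (w 1 0))⁻¹ * (g.1 * κ (w 1 0) * g.1⁻¹) ∈ Q4.map Λ :=
      (QuotientGroup.eq (s := (Q4.map Λ).subgroupOf X) (a := z) (b := g * z * g⁻¹)).1 hg.mul_inv_cancel.symm
    have := q2 _ e (by
      have := (zc ⟨_, eX⟩ _ e).symm.mul_pow 3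
      rwa [mul_inv_cancel_left, conj_pow, h.e3, one_mul, mul_one, mul_inv_cancel, eq_comm] at this)
    obtain ⟨d, hd, _, ⟨k, rfl⟩, e⟩ := cV _ g.2 (mul_inv_eq_iff_eq_mul.1 (inv_mul_eq_one.1 this).symm)
    refine ⟨k, (QuotientGroup.eq (s := (Q4.map Λ).subgroupOf X) (a := z ^ k) (b := g)).2 (show (κ (w 1 0) ^ k)⁻¹ * g.1 ∈ Q4.map Λ from ?_)⟩
    rw [e, ((h.ce' hd.1).zpow_right k).eq, inv_mul_cancel_left]; exact mem_map_of_mem Λ hd
  have k : ∀ (N : Subgroup (X ⧸ (Q4.map Λ).subgroupOf X)) [N.Normal], (Nat.card N).Coprime 3 →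
      Nat.card X = Nat.card ((X ⧸ (Q4.map Λ).subgroupOf X) ⧸ N) * 4 := fun N _ hN => by
    have : N = ⊥ := eq_bot_iff.2 fun x hx => by
      obtain ⟨x, rfl⟩ := QuotientGroup.mk'_surjective _ x
      exact (QuotientGroup.eq_one_iff _).2 (co (mem_map_of_mem _ (Core.le_pPrimeCore (N := N.comap η) (by
        rw [Core.card_comap_mk', Core.card_subgroupOf_of_le le, c4]; exact hN.mul_left (by norm_num)) hx)))
    rw [cX, card_eq_card_quotient_mul_card_subgroup N, this, card_bot, mul_one]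
  have sy : ∀ (p : ℕ) [Fact p.Prime] (m : ℕ), Nat.card X = p * m → ¬ p ∣ m → ∃ n, n ∣ m ∧ n % p = 1 % p ∧
      Nat.card {x : X // orderOf x = p} = n * (p - 1) := fun p hp m e hm => by
    obtain ⟨x, hx⟩ := exists_prime_orderOf_dvd_card' p (e ▸ dvd_mul_right p m)
    have c := (Nat.card_zpowers x).trans hx
    have e2 := card_mul_index (zpowers x)
    rw [c, e, Nat.mul_right_inj hp.out.ne_zero] at e2
    let P := (IsPGroup.of_card (c.trans (pow_one p).symm)).toSylow (e2 ▸ hm)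
    exact ⟨_, e2 ▸ P.card_dvd_index, card_sylow_modEq_one p X, Small.card_orderOf_eq_prime P c⟩
  rcases c3.main with ⟨N, hN, -, h3, e | ⟨⟨e⟩⟩⟩ | ⟨N, hN, -, h2, ⟨e⟩⟩ | ⟨⟨e⟩⟩
  · rw [k N h3, e]; norm_num
  · rw [k N h3, Nat.card_congr e.toEquiv, Nat.card_perm, Nat.card_fin]; decide
  · have := k N ((IsPGroup.iff_card.1 (show IsPGroup 2 N from fun x => ⟨1, Subtype.ext (h2 x x.2)⟩)).elim fun n e => by
      rw [e]; exact Nat.Coprime.pow_left _ (by norm_num))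
    rw [Nat.card_congr e.toEquiv, nat_card_alternatingGroup, Nat.card_fin] at this
    obtain ⟨n, h1, -, h2⟩ := @sy 5 ⟨by norm_num⟩ 48 this (by norm_num)
    have := Nat.le_of_dvd (by norm_num) h1
    rw [h2] at f5; interval_cases n <;> omega
  · rw [Nat.card_congr e.toEquiv, card_psl7] at cX
    obtain ⟨n, h1, h3, h2⟩ := @sy 7 ⟨by norm_num⟩ 96 cX (by norm_num)
    have := Nat.le_of_dvd (by norm_num) h1
    rw [h2] at f7; interval_cases n <;> omega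

theorem se : ¬ Commute (Λ σ) (κ (w 1 0)) := fun e => by
  rw [h.hσ] at e; exact absurd (h.inj (by simpa using e.eq)) (show w 0 18 * w 1 0 ≠ w 1 0 * w 0 18 by decide +kernel)

theorem cF (hg : ∀ d ∈ F8, Commute g (Λ d)) : g ∈ F8.map Λ := by
  have QF : ∀ d ∈ Q4, d ∈ F8 := fun _ hd => hd.2
  have h1 : F8.map Λ ≤ 𝐂(Q4.map Λ) ⊓ 𝐂[Λ σ] := by
    rintro _ ⟨a, ha, rfl⟩
    have := fun d hd => Commute.map ((by decide +kernel : ∀ a ∈ F8, ∀ d ∈ F8, a * d = d * a) a ha d hd) Λ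
    exact ⟨memX.2 fun d hd => this d (QF d hd), mem_cent.2 (this _ (by decide +kernel))⟩
  have h2 : 𝐂(Q4.map Λ) ⊓ 𝐂[Λ σ] < 𝐂(Q4.map Λ) := lt_of_le_not_ge inf_le_left fun e => h.se (mem_cent.1 (e h.eX).2).symm
  have c8 : Nat.card (F8.map Λ) = 8 := by rw [card_map_of_injective h.lin, card_sg]; decide +kernel
  refine (eq_of_le_of_card_ge h1 ?_).ge ⟨memX.2 fun d hd => hg d (QF d hd), mem_cent.2 (hg _ (by decide +kernel))⟩
  have a1 := c8 ▸ card_dvd_of_le h1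
  have a2 := (card_lt_of_lt h2).trans_le (Nat.le_of_dvd (by norm_num) h.card_X)
  have a3 := (card_dvd_of_le h2.le).trans h.card_X
  rw [c8]
  interval_cases Nat.card ↥(𝐂(Q4.map Λ) ⊓ 𝐂[Λ σ]) <;> omega

theorem mem (d : M48) : Λ d ∈ 𝐂[Λ σ] := mem_cent.2 (Commute.map ((by decide +kernel : ∀ d, d * σ = σ * d) d) Λ)

theorem ld : LD (Λ.codRestrict 𝐂[Λ σ] h.mem) := by
  refine ⟨(Λ.injective_codRestrict _ _).2 h.lin, fun g => Subtype.ext (mem_cent.1 g.2), fun g hg => ?_, fun g hg => ?_⟩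
  · have h1 : Commute g.1 (κ (w 12 0)) := h.hβ ▸ congrArg Subtype.val hg
    obtain ⟨c, hc⟩ := h.cen _ rfl (by decide +kernel) (mem_cent.2 h1)
    obtain ⟨i, j, rfl⟩ := (by decide +kernel : ∀ c, c * w 12 0 = w 12 0 * c → c * w 0 18 = w 0 18 * c → ∃ i : Fin 3, ∃ j : Fin 2,
      c = w 12 0 ^ i.1 * w 0 18 ^ j.1) c (h.inj (by simpa [hc] using h1.eq)) (h.inj (by simpa [hc, h.hσ] using (mem_cent.1 g.2).eq))
    exact ⟨β ^ i.1 * σ ^ j.1, Subtype.ext (by simpa [h.hβ, h.hσ] using hc)⟩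
  · obtain ⟨d, -, e⟩ := h.cF (g := g.1) fun d hd => congrArg Subtype.val (hg d hd)
    exact ⟨d, Subtype.ext e⟩

theorem not_comm (h1 : IsConj (κ (w 1 0)) x) (h2 : IsConj (Λ σ) y) : ¬ Commute y x := fun c => by
  obtain ⟨g, hg⟩ := isConj_iff.1 h2.symm
  obtain ⟨k, hk⟩ := isConj_iff.1 (h1.trans (isConj_iff.2 ⟨g, rfl⟩))
  have := (Subgroup.subtype _).map_isConj (h.ld.conj3 (c := ⟨g * x * g⁻¹, mem_cent.2 (hg ▸ (c.conj g).symm)⟩)
    (Subtype.ext (by simp [← hk, conj_pow, h.e3])) fun e => h.e1 (conj_eq_one_iff.1 (hk.trans (congrArg Subtype.val e))))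
  have e := card_centralizer_of_isConj ((isConj_iff.2 ⟨k, hk⟩).trans this)
  rw [show Subgroup.subtype _ (Λ.codRestrict _ h.mem β) = κ (w 12 0) from h.hβ, card_cent h.inj (h.cen (w 12 0) rfl (by decide +kernel)),
    show Finset.card _ = 54 by decide +kernel] at e
  have := card_le_of_le (show (sg (fun c => c * w 1 0 = w 1 0 * c) (by decide +kernel)).map κ ≤ 𝐂[κ (w 1 0)] by
    rintro _ ⟨c, hc, rfl⟩; exact mem_cent.2 (Commute.map hc κ))
  rw [card_map_of_injective h.inj, card_sg, show Finset.card _ = 108 by decide +kernel] at this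
  omega

theorem not_conj (hd : d ∈ Q4) (d1 : d ≠ 1) : ¬ IsConj (Λ σ) (Λ (σ * d)) := fun c => by
  refine h.not_comm (κ.map_isConj (isConj_iff.2 ⟨w 0 4, rfl⟩)) ((h.cls d.2 hd.2 fun e => d1 (Prod.ext hd.1 e)).elim (·.symm) fun e =>
    c.trans ((Prod.ext hd.1.symm rfl : (1, d.2) = d) ▸ e).symm) (Commute.map (show _ = _ by decide +kernel) κ)

theorem not_syl : ¬ SylowIn 2 (D16.map Λ) 𝐂[Λ σ] := fun s => by
  have sT : Λ σ ∈ D16.map Λ := mem_map_of_mem Λ (by decide +kernel)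
  have s' : SylowIn 2 (D16.map Λ) ⊤ := sylowIn_of_maximal le_top s.2 fun Q hQ h1 _ => by_contra fun h2 => by
    have := lt_inf_normalizer hQ (lt_of_le_not_ge h1 h2)
    refine this.ne' (s.eq_of_le (hQ.to_le inf_le_left) this.le fun g hg => ?_)
    obtain ⟨c, hc, e⟩ := Core.conj_mem_of_mem_normalizer hg.2 sT
    have i : IsConj (Λ σ) (Λ c) := isConj_iff.2 ⟨g, e.symm⟩
    rcases (by decide +kernel : ∀ c ∈ D16, (∀ a ∈ D16, a * c = c * a) → c = σ ∨ c.1 = 1 ∨ ∃ d ∈ Q4, d ≠ 1 ∧ c = σ * d) c hc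
      fun a ha => h.lin (by
        obtain ⟨b, -, hb⟩ := Core.conj_mem_of_mem_normalizer (inv_mem hg.2) (mem_map_of_mem Λ ha)
        simpa [e, hb, mul_assoc] using ((mem_cent.1 (h.mem b)).conj g).eq) with rfl | e | ⟨d, h1, h2, rfl⟩
    exacts [mem_cent.2 (mul_inv_eq_iff_eq_mul.1 e.symm), (h.not_comm (.refl _) i (h.ce' e)).elim, (h.not_conj h1 h2 i).elim]
  have o : ∀ a, a ^ 3 = 1 → κ a ∈ resOf 2 ⊤ := fun a e => mem_resOf (mem_top _)
    (Nat.Coprime.coprime_dvd_left (orderOf_dvd_of_pow_eq_one (by rw [← map_pow, e, map_one])) (by norm_num))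
  obtain ⟨g, -, e⟩ := tr2 (M := 𝐂[κ (w 1 0)]) s' sT (by
      rw [h.hσ, show w 0 18 = w 0 16 * w 0 4 * w 0 10 by decide +kernel, map_mul, map_mul]
      exact mul_mem (mul_mem h.res (o _ (by decide +kernel))) (o _ (by decide +kernel))) (fun e => h.se (mem_cent.1 e)) (by
      rintro _ ⟨a, -, rfl⟩ _ ⟨b, -, rfl⟩ - - h1 h2
      rcases (by decide : ∀ a b : C2, a = 1 ∨ b = 1 ∨ a * b = 1) a.1 b.1 with e | e | e
      exacts [absurd (mem_cent.2 (h.ce' e)) h1, absurd (mem_cent.2 (h.ce' e)) h2, map_mul Λ a b ▸ mem_cent.2 (h.ce' e)])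
    (by rw [← map_mul, show σ * σ = 1 by decide, map_one])
  exact h.not_comm (.refl _) (isConj_iff.2 ⟨g, rfl⟩) (mem_cent.1 e)

theorem main : Nonempty (G ≃* alternatingGroup (Fin 9)) := by
  have y1 : κ (w 0 16) * Λ σ * (κ (w 0 16))⁻¹ = Λ υ * Λ σ := by
    simp only [h.hσ, h.hυ, ← map_inv, ← map_mul]; exact congrArg κ (by decide +kernel)
  have c := h.card_S ▸ card_subgroup_dvd_card (S.map κ)
  rcases h.ld.main with s | ⟨φ, su, e1, e2⟩ | e
  · have := s.map (Subgroup.subtype _)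
    rw [map_map, ← MonoidHom.range_eq_map, range_subtype] at this
    exact (h.not_syl this).elim
  · have f1 : (Subgroup.subtype _).comp φ (.el 16) = Λ σ := congrArg Subtype.val e1
    have f2 : (Subgroup.subtype _).comp φ (.el 32) = Λ υ := congrArg Subtype.val e2
    have su' : Su ((Subgroup.subtype _).comp φ) (.el 16) := ⟨(subtype_injective _).comp su.inj, fun g hg =>
      (su.cen ⟨g, mem_cent.2 (f1 ▸ hg)⟩ (Subtype.ext hg)).imp fun _ => congrArg Subtype.val, su.zc, su.zz, su.z1⟩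
    obtain ⟨q, q1, q2, q3⟩ := HA.nwc su' (y := κ (w 0 16)) (by rw [Cj, map_mul, f1, f2, y1]) (by
      simp only [Cj, f2, h.hυ, ← map_inv, ← map_mul]; exact congrArg κ (by decide +kernel)) (by
      rw [f2, h.hυ, ← map_mul]; exact congrArg κ (by decide +kernel))
    rcases HA.main su' q1 q2 q3 with ⟨N, _, -, -, c8, ⟨e⟩⟩ | ⟨⟨e⟩⟩ | e
    · rw [card_eq_card_quotient_mul_card_subgroup N, c8, Nat.card_congr e.toEquiv] at c
      exact absurd (c.trans (Nat.mul_dvd_mul_right (Linear.card_SL_three_two ▸ card_quotient_dvd_card _) 8)) (by norm_num)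
    · rw [Nat.card_congr e.toEquiv, nat_card_alternatingGroup, Nat.card_fin] at c
      exact absurd c (by decide)
    · exact e
  · exact (h.not_comm (.refl _) ((isConj_iff.2 ⟨_, y1⟩).trans ((Subgroup.subtype _).map_isConj e).symm) (h.ce' (d := υ) rfl)).elim

end SS

theorem M1.main (h : M1 κ) : κ.range = ⊤ ∨ Nonempty (G ≃* alternatingGroup (Fin 9)) :=
  h.sym.imp_right fun ⟨_, h1, h2⟩ => (h.ss h1 h2).elim fun _ h => h.main

end Cfsg.Lib.Block.Nin
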