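import Cfsg.Agent.Lib.Block.Nin5
import Cfsg.Agent.Lib.Block.Nin11
import Mathlib.GroupTheory.Perm.Centralizer

/-! # The normalizer of `3³` in `A₉` -/

set_option autoImplicit false
set_option linter.unusedSectionVars false
set_option synthInstance.maxSize 100000
set_option maxRecDepth 100000

namespace Cfsg.Lib.Block.Nin

open Cfsg Cfsg.Lib.Invol Cfsg.Lib.Transfer Subgroup SemidirectProduct Equiv

local notation "𝐍(" X ")" => normalizer (SetLike.coe X)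
local notation "𝐂[" x "]" => centralizer ({x} : Set _)

theorem ψ_z : ψ (w 13 0) = swap 0 1 * swap 1 2 * swap 3 4 * swap 4 5 * swap 6 7 * swap 7 8 :=
  Equiv.ext (by simp only [ψ_apply]; decide +kernel)

theorem card_cz : Nat.card 𝐂[ψ (w 13 0)] = 162 := by
  rw [Perm.nat_card_centralizer, ψ_z, show Perm.cycleType _ = {3, 3, 3} by decide +kernel]; decide +kernel

theorem ψ_alt : ψ.range ≤ alternatingGroup (Fin 9) := by
  rw [ψ_range, closure_le]
  rintro _ (rfl | rfl | rfl | rfl) <;> exact Perm.mem_alternatingGroup.2 (by decide +kernel)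

theorem cz_alt : 𝐂[ψ (w 13 0)] ⊓ alternatingGroup (Fin 9) = S.map ψ := by
  have h1 : S.map ψ ≤ 𝐂[ψ (w 13 0)] ⊓ alternatingGroup (Fin 9) := by
    rintro _ ⟨a, ha, rfl⟩; exact ⟨mem_cent.2 (Commute.map (mem_cent.1 ha) ψ), ψ_alt ⟨a, rfl⟩⟩
  have h2 : 𝐂[ψ (w 13 0)] ⊓ alternatingGroup (Fin 9) < 𝐂[ψ (w 13 0)] := lt_of_le_not_ge inf_le_left fun e =>
    absurd (Perm.mem_alternatingGroup.1 (e (x := swap 0 3 * swap 1 4 * swap 2 5) (mem_cent.2 (show _ = _ by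
      rw [ψ_z]; decide +kernel))).2) (by decide +kernel)
  have c : Nat.card (S.map ψ) = 81 := by rw [card_map_of_injective ψ_inj, Nat.card_eq_fintype_card]; decide +kernel
  have a1 := c ▸ card_dvd_of_le h1
  have a2 := card_cz ▸ card_lt_of_lt h2
  exact (eq_of_le_of_card_ge h1 (by omega)).symm

theorem ψ_V : V.map ψ = Subgroup.closure {swap (0 : Fin 9) 1 * swap 1 2, swap (3 : Fin 9) 4 * swap 4 5, swap (6 : Fin 9) 7 * swap 7 8} := by
  have e1 : ψ (w 1 0) = swap 0 1 * swap 1 2 := Equiv.ext (by simp only [ψ_apply]; decide +kernel)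
  have e2 : ψ (w 3 0) = swap 3 4 * swap 4 5 := Equiv.ext (by simp only [ψ_apply]; decide +kernel)
  have e3 : ψ (w 9 0) = swap 6 7 * swap 7 8 := Equiv.ext (by simp only [ψ_apply]; decide +kernel)
  rw [← e1, ← e2, ← e3]
  refine le_antisymm ?_ ((closure_le _).2 (by rintro _ (rfl | rfl | rfl) <;> exact mem_map_of_mem ψ rfl))
  rintro _ ⟨v, hv, rfl⟩
  obtain ⟨i, j, k, rfl⟩ := (by decide +kernel : ∀ v ∈ V, ∃ i j k : Fin 3, v = w 1 0 ^ i.1 * w 3 0 ^ j.1 * w 9 0 ^ k.1) v hv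
  simp only [map_mul, map_pow]
  refine mul_mem (mul_mem (pow_mem ?_ _) (pow_mem ?_ _)) (pow_mem ?_ _) <;> exact subset_closure (by simp)

theorem ψ_range' : ψ.range = alternatingGroup (Fin 9) ⊓ 𝐍(V.map ψ) := by
  refine le_antisymm (le_inf ψ_alt range_le) fun g ⟨h1, h2⟩ => ?_
  obtain ⟨v, hv, e⟩ := Core.conj_mem_of_mem_normalizer h2 (mem_map_of_mem ψ (show w 13 0 ∈ V from rfl))
  rcases (by decide +kernel : ∀ v ∈ V, (∃ p, f27 v.left (f24 v.right p) = p) ∨ ∃ d, d * w 13 0 * d⁻¹ = v) v hv with ⟨p, hp⟩ | ⟨d, rfl⟩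
  · rw [← ψ_apply, e, Perm.mul_apply, Perm.mul_apply, ← Perm.eq_inv_iff_eq, ψ_apply] at hp
    exact absurd hp ((by decide +kernel : ∀ p, f27 (w 13 0).left (f24 (w 13 0).right p) ≠ p) _)
  · have := map_le_range _ _ (cz_alt.le (show (ψ d)⁻¹ * g ∈ _ from ⟨mem_cent.2 (mul_inv_eq_iff_eq_mul.1 (by
      rw [mul_inv_rev, ← mul_assoc, mul_assoc _ g, mul_assoc _ _ g⁻¹, ← e]; simp [mul_assoc])), (alternatingGroup _).mul_mem (inv_mem (ψ_alt ⟨d, rfl⟩)) h1⟩))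
    exact (ψ.range.mul_mem_cancel_left (inv_mem ⟨d, rfl⟩)).1 this

variable {G : Type*} [Group G] [Finite G] {κ : W →* G} {J : Subgroup G}

theorem eq_V (hi : Function.Injective κ) (h1 : J ≤ κ.range) (h2 : κ.range ≤ 𝐍(J)) (h3 : ∀ a ∈ J, ∀ b ∈ J, a * b = b * a)
    (h4 : ∀ a ∈ J, a ^ 3 = 1) (h5 : Nat.card J = 27) : J = V.map κ := by
  refine eq_of_le_of_card_ge (fun g hg => ?_) (by rw [h5, card_map_of_injective hi, Nat.card_eq_fintype_card]; decide +kernel)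
  obtain ⟨a, rfl⟩ := h1 hg
  exact mem_map_of_mem κ ((by decide +kernel : ∀ a : W, a ^ 3 = 1 → (∀ c, a * (c * a * c⁻¹) = c * a * c⁻¹ * a) → a ∈ V) a
    (hi (by simpa using h4 _ hg)) fun c => hi (by simpa using h3 _ hg _ (Core.conj_mem_of_mem_normalizer (h2 ⟨c, rfl⟩) hg)))

end Cfsg.Lib.Block.Nin
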