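import Cfsg.Agent.Lib.Block.Tri4

/-! # Row patterns and degree equations for a `3`-embedded subgroup `3³ : S₄` -/

set_option autoImplicit false
set_option linter.unusedSectionVars false
set_option synthInstance.maxSize 100000
set_option maxRecDepth 100000

namespace Cfsg.Lib.Block.Nin

open Finset Cfsg.Lib.Block.Tri

def τ : Fin 14 → Fin 9 → ℤ :=
  ![![1, 1, 1, 1, 2, 0, 1, 1, 1], ![1, 1, 1, 1, -2, 0, -1, 1, 1], ![2, 2, 2, 2, 0, 0, 0, -1, -1], ![3, 3, 3, -1, -2, 0, 1, 0, 0],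
    ![3, 3, 3, -1, 2, 0, -1, 0, 0], ![3, 0, -3, -1, -2, 0, 0, 0, 0], ![3, 0, -3, 1, 0, -2, 0, 0, 0], ![3, 0, -3, -1, 2, 0, 0, 0, 0],
    ![3, 0, -3, 1, 0, 2, 0, 0, 0], ![0, -3, 3, 0, 0, 0, -1, 0, 0], ![0, -3, 3, 0, 0, 0, 1, 0, 0], ![-4, 2, -1, 0, 0, 0, 0, -1, -1],
    ![-4, 2, -1, 0, 0, 0, 0, -1, 2], ![-4, 2, -1, 0, 0, 0, 0, 2, -1]]

def mX : Fin 14 → Fin 9 → ℤ :=
  ![![0, 0, 0, 2, 1, 1, 0, 0, 0], ![0, 0, 0, 2, -1, 1, 0, 0, 0], ![0, 0, 0, 2, -1, 1, 0, 0, 0], ![-1, 0, 0, 3, 3, 0, 0, 4, 0],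
    ![-1, 0, 0, 3, -3, 0, 0, 4, 0], ![0, 0, 0, 2, 1, 1, 0, 0, 0], ![0, 0, 0, -2, 1, 1, 0, 0, 0], ![0, 0, 0, 2, -1, 1, 0, 0, 0],
    ![0, 0, 0, 2, -1, 1, 0, 0, 0], ![-1, 2, 0, 3, 3, 0, 6, 8, 0], ![-1, 2, 0, 3, -3, 0, -6, 8, 0], ![0, 0, 0, 0, 0, 0, 0, 2, 1],
    ![0, 0, 0, 0, 0, 0, 0, 1, 2], ![0, 0, 0, 0, 0, 0, 0, 2, 1]]

def mY : Fin 14 → Fin 9 → ℤ :=
  ![![9, 0, 0, -9, 18, -9, 0, 0, 0], ![9, 0, 0, -9, -18, -9, 0, 0, 0], ![0, 0, 0, 18, 9, -9, 0, 0, 0], ![0, -4, 0, 0, 0, 0, 0, 4, 0],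
    ![0, -4, 0, 0, 0, 0, 0, 4, 0], ![-12, 12, 0, 0, 0, 18, 0, 0, 0], ![0, 0, 0, 0, 0, 18, 0, 0, 0], ![-12, 12, 0, 0, 0, 18, 0, 0, 0],
    ![0, 0, 0, 0, 0, 18, 0, 0, 0], ![0, 4, 0, 0, 0, 0, 0, -4, 0], ![0, 4, 0, 0, 0, 0, 0, -4, 0], ![8, -8, 0, 0, 0, 0, 0, 16, -16],
    ![0, 0, 0, 0, 0, 0, 0, -16, 16], ![0, 0, 0, 0, 0, 0, 0, 16, -16]]

def mQ : Fin 9 → Fin 9 → ℤ :=
  ![![65, 34, -68, 342, 90, 0, 126, -168, -144], ![0, -40, 88, -306, -72, 0, 72, -96, 0], ![0, 0, 128, -36, 36, 0, 72, -240, -144],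
    ![0, 0, 0, 729, 162, 0, 810, 3240, 0], ![0, 0, 0, 0, -486, 0, 324, 432, 0], ![0, 0, 0, 0, 0, -1053, 0, 0, 0],
    ![0, 0, 0, 0, 0, 0, 0, 432, 432], ![0, 0, 0, 0, 0, 0, 0, 144, 864], ![0, 0, 0, 0, 0, 0, 0, 0, 144]]

def qq (r : Fin 9 → ℤ) : ℤ := ∑ a, ∑ b, mQ a b * (r a * r b)

def nrm : Fin 9 → ℤ := ![108, 54, 81, 12, 24, 8, 6, 9, 9]

def L (n : ℕ) : List ℤ := (List.range (2 * n + 1)).map fun i : ℕ => (i : ℤ) - n

theorem mem_L {n : ℕ} {z : ℤ} (h : z * z < (n + 1) * (n + 1)) : z ∈ L n := by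
  have : -(n : ℤ) ≤ z := by nlinarith
  have : z ≤ n := by nlinarith
  exact List.mem_map.2 ⟨(z + n).toNat, List.mem_range.2 (by omega), by omega⟩

theorem row9 : ∀ a ∈ L 10, ∀ b ∈ L 7, ∀ c ∈ L 9, (a + 4 * b + 4 * c) % 9 = 0 → (a + b - 2 * c) % 9 = 0 →
    6 * (a * a) + 12 * (b * b) + 8 * (c * c) ≤ 648 → ∀ d ∈ L 3, ∀ e ∈ L 4, (a + d + e) % 4 = 0 → (a + d - e) % 4 = 0 →
    ∀ v ∈ L 2, (a - d - v) % 4 = 0 → ∀ f ∈ L 2, (b - f) % 2 = 0 → ∀ x ∈ L 3, (x - c) % 3 = 0 → ∀ y ∈ L 3, (y - c) % 3 = 0 →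
    6 * (a * a) + 12 * (b * b) + 8 * (c * c) + 54 * (d * d) + 27 * (e * e) + 81 * (v * v) + 108 * (f * f) + 72 * (x * x) +
      72 * (y * y) ≤ 648 → (c = 0 → a = 0 ∧ b = 0 ∧ d = 0 ∧ e = 0 ∧ v = 0 ∧ f = 0) →
    0 ≤ qq ![a, b, c, d, e, v, f, x, y] ∧ (qq ![a, b, c, d, e, v, f, x, y] = 0 → ![a, b, c, d, e, v, f, x, y] = 0 ∨
      ∃ j, ![a, b, c, d, e, v, f, x, y] = τ j ∨ ![a, b, c, d, e, v, f, x, y] = -τ j) := by decide +kernel

theorem rows9 {I : Type*} [Fintype I] [DecidableEq I] {R : I → Fin 9 → ℤ}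
    (hG : ∀ a b, ∑ i, R i a * R i b = if a = b then nrm a else 0) {o : I} (ho : R o = τ 0)
    (h0 : ∀ i, R i 2 = 0 → R i 0 = 0 ∧ R i 1 = 0 ∧ R i 3 = 0 ∧ R i 4 = 0 ∧ R i 5 = 0 ∧ R i 6 = 0)
    (h1 : ∀ i, 9 ∣ R i 0 + 4 * R i 1 + 4 * R i 2 ∧ 9 ∣ R i 0 + R i 1 - 2 * R i 2 ∧ 4 ∣ R i 0 + R i 3 + R i 4 ∧
      4 ∣ R i 0 + R i 3 - R i 4 ∧ 4 ∣ R i 0 - R i 3 - R i 5 ∧ 2 ∣ R i 1 - R i 6 ∧ 3 ∣ R i 7 - R i 2 ∧ 3 ∣ R i 8 - R i 2) :
    ∃ (e : Fin 14 → I) (ε : Fin 14 → ℤ), Function.Injective e ∧ (∀ j, ε j = 1 ∨ ε j = -1) ∧ (∀ j a, R (e j) a = ε j * τ j a) ∧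
      (∀ i j, R i = τ j ∨ R i = -τ j → i = e j) ∧ ∀ i ∉ Set.range e, R i = 0 := by
  have key : ∀ i, 0 ≤ qq (R i) ∧ (qq (R i) = 0 → R i = 0 ∨ ∃ j, R i = τ j ∨ R i = -τ j) := fun i => by
    have hb := bessel (w := ![6, 12, 8, 54, 27, 81, 108, 72, 72]) (L := 648) (by decide) hG (by decide) i
    have he : R i = ![R i 0, R i 1, R i 2, R i 3, R i 4, R i 5, R i 6, R i 7, R i 8] := by ext a; fin_cases a <;> rfl
    simp only [Fin.sum_univ_succ, Fin.sum_univ_zero, Matrix.cons_val_zero, Matrix.cons_val_succ, Fin.reduceSucc] at hb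
    have h0 := h0 i
    have h1 := h1 i
    rw [he]
    clear he
    generalize R i 0 = a, R i 1 = b, R i 2 = c, R i 3 = d, R i 4 = e, R i 5 = v, R i 6 = f, R i 7 = x, R i 8 = y at *
    have := mul_self_nonneg a
    have := mul_self_nonneg b
    have := mul_self_nonneg c
    have := mul_self_nonneg d
    have := mul_self_nonneg e
    have := mul_self_nonneg v
    have := mul_self_nonneg f
    have := mul_self_nonneg x
    have := mul_self_nonneg y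
    exact row9 a (mem_L (by push_cast; omega)) b (mem_L (by push_cast; omega)) c (mem_L (by push_cast; omega)) (by omega) (by omega)
      (by omega) d (mem_L (by push_cast; omega)) e (mem_L (by push_cast; omega)) (by omega) (by omega) v (mem_L (by push_cast; omega))
      (by omega) f (mem_L (by push_cast; omega)) (by omega) x (mem_L (by push_cast; omega)) (by omega) y (mem_L (by push_cast; omega))
      (by omega) (by omega) h0
  have s : ∑ i, qq (R i) = 6480 := by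
    simp only [qq]
    rw [sum_comm, sum_congr rfl (g := fun a => ∑ b, mQ a b * if a = b then nrm a else 0) fun a _ => by
      rw [sum_comm]; simp only [← hG, mul_sum]]
    decide +kernel
  rw [← add_sum_erase _ _ (mem_univ o), ho, show qq (τ 0) = 6480 by decide +kernel, add_eq_left,
    sum_eq_zero_iff_of_nonneg fun i _ => (key i).1] at s
  refine exists_rows τ hG (fun i => ?_) (fun j a b => mX j a * mY j b) (K := 144) (by decide) (by decide +kernel) (by decide +kernel)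
  by_cases e : i = o
  · exact Or.inr ⟨0, Or.inl (e ▸ ho)⟩
  · exact (key i).2 (s i (by simp [e]))

def Lm (k : ℤ) : List ℤ := (L 14).map fun i => 27 * i + k

theorem srch : ∀ c ∈ Lm 3, ∀ d ∈ Lm 3, c * c + d * d + 2 * ((c + d) * (c + d)) ≤ 134784 → (3 ≤ c ∨ c ≤ -78) → (3 ≤ d ∨ d ≤ -78) →
    ∀ b ∈ Lm 2, c * c + d * d + 2 * ((c + d) * (c + d)) + b * b + 2 * ((b + c + d) * (b + c + d)) ≤ 134784 → (2 ≤ b ∨ b ≤ -52) →
    ∀ a ∈ Lm 1, (1 + a * a + b * b + c * c + d * d + (1 + b + d) * (1 + b + d) + 2 * ((c + d) * (c + d)) + (a + b + c) * (a + b + c) +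
      (1 + b + 2 * c + d) * (1 + b + 2 * c + d) + (a + b + c + 2 * d) * (a + b + c + 2 * d) + (1 + a + c + d) * (1 + a + c + d) +
      2 * ((b + c + d) * (b + c + d))) * ((a * b * c * d + b * c * d + 8 * (a * c * d) + 27 * (a * b * d) + 27 * (a * b * c)) *
      (a * b * c * d)) ≤ 15552 * ((a * b * c * d) * (a * b * c * d)) → a = 1 ∧ b = 2 ∧ c = 3 ∧ d = 3 := by decide +kernel

theorem num {a b c d g : ℤ} (ha : a % 27 = 1) (hb : b % 27 = 2) (hc : c % 27 = 3) (hd : d % 27 = 3) (b1 : 2 ≤ b ∨ b ≤ -52)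
    (c1 : 3 ≤ c ∨ c ≤ -78) (d1 : 3 ≤ d ∨ d ≤ -78)
    (hs : 1 + a * a + b * b + c * c + d * d + (1 + b + d) * (1 + b + d) + 2 * ((c + d) * (c + d)) + (a + b + c) * (a + b + c) +
      (1 + b + 2 * c + d) * (1 + b + 2 * c + d) + (a + b + c + 2 * d) * (a + b + c + 2 * d) + (1 + a + c + d) * (1 + a + c + d) +
      2 * ((b + c + d) * (b + c + d)) ≤ g) (hA : (g : ℚ) * (1 + 1 / a + 8 * (1 / b) + 27 * (1 / c) + 27 * (1 / d)) = 15552) : g = 648 := by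
  have := inv_ge (n := a) (l := 26) (by omega) (by omega)
  have := inv_ge (n := b) (l := 52) (by omega) (by omega)
  have := inv_ge (n := c) (l := 78) (by omega) (by omega)
  have := inv_ge (n := d) (l := 78) (by omega) (by omega)
  have := mul_self_nonneg a
  have := mul_self_nonneg b
  have := mul_self_nonneg c
  have := mul_self_nonneg d
  have := mul_self_nonneg (1 + b + d)
  have := mul_self_nonneg (c + d)
  have := mul_self_nonneg (a + b + c)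
  have := mul_self_nonneg (1 + b + 2 * c + d)
  have := mul_self_nonneg (a + b + c + 2 * d)
  have := mul_self_nonneg (1 + a + c + d)
  have := mul_self_nonneg (b + c + d)
  have g0 : (0 : ℚ) < g := by exact_mod_cast (by omega : 0 < g)
  have S0 : (3 / 26 : ℚ) ≤ 1 + 1 / a + 8 * (1 / b) + 27 * (1 / c) + 27 * (1 / d) := by push_cast at *; linarith
  have g1 : g ≤ 134784 := by
    have : (g : ℚ) ≤ 134784 := by nlinarith
    exact_mod_cast this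
  have m : ∀ x k : ℤ, x * x ≤ 134784 → x % 27 = k → x ∈ Lm k := fun x k h1 h2 => by
    have : -368 < x := by nlinarith
    have : x < 368 := by nlinarith
    exact List.mem_map.2 ⟨x / 27, List.mem_map.2 ⟨(x / 27 + 14).toNat, List.mem_range.2 (by omega), by push_cast; omega⟩, by omega⟩
  have a0 : (a : ℚ) ≠ 0 := by exact_mod_cast (by omega : a ≠ 0)
  have b0 : (b : ℚ) ≠ 0 := by exact_mod_cast (by omega : b ≠ 0)
  have c0 : (c : ℚ) ≠ 0 := by exact_mod_cast (by omega : c ≠ 0)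
  have d0 : (d : ℚ) ≠ 0 := by exact_mod_cast (by omega : d ≠ 0)
  have e : g * ((a * b * c * d + b * c * d + 8 * (a * c * d) + 27 * (a * b * d) + 27 * (a * b * c)) * (a * b * c * d)) =
      15552 * ((a * b * c * d) * (a * b * c * d)) := by
    have : (g * ((a * b * c * d + b * c * d + 8 * (a * c * d) + 27 * (a * b * d) + 27 * (a * b * c)) * (a * b * c * d)) : ℚ) =
      15552 * ((a * b * c * d) * (a * b * c * d)) := by rw [← hA]; field_simp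
    exact_mod_cast this
  have p : 0 ≤ (a * b * c * d + b * c * d + 8 * (a * c * d) + 27 * (a * b * d) + 27 * (a * b * c)) * (a * b * c * d) :=
    (mul_nonneg_iff_of_pos_left (by omega : 0 < g)).1 (e ▸ mul_nonneg (by omega) (mul_self_nonneg _))
  obtain ⟨rfl, rfl, rfl, rfl⟩ := srch c (m _ _ (by omega) hc) d (m _ _ (by omega) hd) (by omega) c1 d1 b (m _ _ (by omega) hb)
    (by omega) b1 a (m _ _ (by omega) ha) (e ▸ mul_le_mul_of_nonneg_right hs p)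
  omega

end Cfsg.Lib.Block.Nin
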