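import Cfsg.Agent.Lib.Block.Nin1

/-! # Groups in which `3³ : S₄` is the normalizer of its Fitting subgroup -/

set_option autoImplicit false
set_option linter.unusedSectionVars false
set_option synthInstance.maxSize 100000
set_option maxRecDepth 100000

namespace Cfsg.Lib.Block.Nin

open Cfsg Cfsg.Lib.Block2 Cfsg.Lib.Char Cfsg.Lib.Invol Cfsg.Lib.Transfer Cfsg.Lib.Block.Tri Subgroup SemidirectProduct
open scoped ComplexConjugate commutatorElement

local notation "𝐍(" X ")" => normalizer (X : Set _)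
local notation "𝐂(" X ")" => centralizer (X : Set _)
local notation "𝐂[" x "]" => centralizer ({x} : Set _)

def S : Subgroup W := 𝐂[w 13 0]

instance : DecidablePred (· ∈ S) := fun a => decidable_of_iff (a * w 13 0 = w 13 0 * a) mem_centralizer_singleton_iff.symm

/-- the number of nonzero coordinates -/
def cls (a : T27) : Fin 4 := Fin.ofNat 4 (lk 0x3efa9fbea69a54 2 4 a.1)

def a4 : Fin 4 → W := ![1, w 1 0, w 4 0, w 13 0]

theorem fus : ∀ a : T27, ∃ d : T24, inr d * a4 (cls a) * (inr d)⁻¹ = inl a := by decide +kernel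

theorem V_comm : ∀ a ∈ V, ∀ b ∈ V, a * b = b * a := by decide +kernel

theorem V_cube : ∀ a ∈ V, a ^ 3 = 1 := by decide +kernel

theorem tri {G : Type*} [Group G] [Finite G] {u v : G} (hu : u ^ 3 = 1) (hv : v ^ 3 = 1) (huv : (u * v) ^ 3 = 1) :
    (∃ f, orderOf f = 3 ∧ Commute f u ∧ Commute f v) ∨ (IsConj u v ∧ IsConj u (u * v)⁻¹) := by
  have o := om hu hv huv
  by_cases h3 : 3 ∣ orderOf (u * v⁻¹)
  · obtain ⟨f, f3, c1, c2⟩ := o.exists_fix h3
    refine Or.inl ⟨f, f3, c1, ?_⟩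
    have := c2.inv_right.mul_right c1
    rwa [mul_inv_rev, inv_inv, inv_mul_cancel_right] at this
  · refine Or.inr ⟨by simpa using o.isConj h3 (-1), (o.isConj h3 1).trans (isConj_iff.2 ⟨u⁻¹, ?_⟩)⟩
    calc _ = v⁻¹ * (u * u) := by group
      _ = _ := by rw [mul_self_of_cube hu]; group

variable {G : Type*} [Group G] [Finite G] {κ : W →* G} {a b v v' : W} {g : G}

theorem range_le : κ.range ≤ 𝐍(V.map κ) := by
  rintro _ ⟨c, rfl⟩
  refine mem_normalizer_of_cj_le (cj_le_iff.2 ?_)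
  rintro _ ⟨v, hv, rfl⟩
  exact ⟨_, (inferInstance : V.Normal).conj_mem v hv c, by simp⟩

theorem card_cent (hi : Function.Injective κ) (h : 𝐂[κ a] ≤ κ.range) :
    Nat.card 𝐂[κ a] = (Finset.univ.filter fun c => c * a = a * c).card := by
  rw [← Fintype.card_subtype, ← Nat.card_eq_fintype_card]
  refine (Nat.card_eq_of_bijective (fun c : {c // c * a = a * c} => (⟨κ c.1, mem_cent.2 (Commute.map c.2 κ)⟩ : 𝐂[κ a]))
    ⟨fun c d e => Subtype.ext (hi (Subtype.ext_iff.1 e)), fun ⟨g, hg⟩ => ?_⟩).symm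
  obtain ⟨c, rfl⟩ := h hg
  exact ⟨⟨c, hi (by simpa using (mem_cent.1 hg).eq)⟩, rfl⟩

/-- `κ` embeds the model as the normalizer of `J` -/
structure M0 (κ : W →* G) : Prop where
  inj : Function.Injective κ
  nrm : 𝐍(V.map κ) ≤ κ.range

namespace M0
variable (h : M0 κ)
include h

theorem cent_le : 𝐂(V.map κ) ≤ V.map κ := fun g hg => by
  obtain ⟨c, rfl⟩ := h.nrm (centralizer_le_normalizer _ hg)
  exact ⟨c, (by decide +kernel : ∀ c, (∀ v ∈ V, v * c = c * v) → c ∈ V) c fun v hv => h.inj (by simpa using hg _ ⟨v, hv, rfl⟩), rfl⟩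

theorem card_S : Nat.card (S.map κ) = 81 := by rw [card_map_of_injective h.inj, Nat.card_eq_fintype_card]; decide +kernel

theorem card_V : Nat.card (V.map κ) = 27 := by rw [card_map_of_injective h.inj, Nat.card_eq_fintype_card]; decide +kernel

theorem card_range : Nat.card κ.range = 648 := by rw [← Nat.card_congr (MonoidHom.ofInjective h.inj).toEquiv, card_W]

theorem norm_S : 𝐍(S.map κ) ≤ κ.range := fun g hg => h.nrm (mem_normalizer_of_cj_le (cj_le_iff.2 (by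
  rintro _ ⟨v, hv, rfl⟩
  obtain ⟨c, hc, e⟩ := conj_mem_of_mem_normalizer hg ⟨v, (by decide +kernel : ∀ v ∈ V, v ∈ S) v hv, rfl⟩
  obtain ⟨p, hp, e1⟩ := conj_mem_of_mem_normalizer (inv_mem hg) (mem_map_of_mem κ (by decide +kernel : w 1 0 ∈ S))
  obtain ⟨q, hq, e2⟩ := conj_mem_of_mem_normalizer (inv_mem hg) (mem_map_of_mem κ (by decide +kernel : w 0 4 ∈ S))
  refine ⟨c, (by decide +kernel : ∀ c ∈ S, c * ⁅w 1 0, w 0 4⁆ = ⁅w 1 0, w 0 4⁆ * c → c ∈ V) c hc (h.inj ?_), e⟩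
  have := congrArg (fun x => g * κ x * g⁻¹) (V_comm v hv _ ((by decide +kernel : ∀ p ∈ S, ∀ q ∈ S, ⁅p, q⁆ ∈ V) p hp q hq))
  simp only [map_mul, commutatorElement_def, map_inv, e, e1, e2] at this ⊢
  simpa [mul_assoc] using this)))

theorem syl : SylowIn 3 (S.map κ) ⊤ := by
  have hp : IsPGroup 3 (S.map κ) := IsPGroup.of_card (n := 4) h.card_S
  have s : SylowIn 3 (S.map κ) κ.range := ⟨map_le_range _ _, hp, by
    have := card_mul_relIndex (map_le_range κ S); rw [h.card_S, h.card_range] at this; omega⟩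
  refine sylowIn_of_maximal le_top hp fun Q hQ h1 _ => by_contra fun h2 => ?_
  have := lt_inf_normalizer hQ (lt_of_le_not_ge h1 h2)
  exact this.ne' (s.eq_of_le (hQ.to_le inf_le_left) this.le (inf_le_right.trans h.norm_S))

theorem ne_zero {z : G} (hz : IsPPart 3 g z) (hT : z ∈ V.map κ) (hC : 𝐂[z] ≤ κ.range) (χ : IrrCharacter G)
    (h0 : χ.1 g ≠ 0) : χ.1 (κ (w 13 0)) ≠ 0 := by
  classical
  obtain ⟨M, hM⟩ := exists_isPModular Nat.prime_three
  have := hM.2.1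
  have := Fintype.ofFinite 𝐂[z]
  have le : V.map κ ≤ 𝐂[z] := by
    obtain ⟨v, hv, rfl⟩ := hT
    rintro _ ⟨a, ha, rfl⟩; exact mem_cent.2 (Commute.map (V_comm a ha v hv) κ)
  refine apply_ne_zero_of_sylow hM ⟨χ, by_contra fun hχ => h0 ?_⟩ h.syl (by
    rintro _ ⟨a, ha, rfl⟩; exact mem_cent.2 (Commute.map (mem_cent.1 ha) κ))
  have h1 := (allInd_centralizer_singleton hM hz.orderOf_eq).blockPart_principal hM (h := ⟨g, mem_cent.2 hz.commute.symm⟩) hz le_rfl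
    χ.2.isClassFunction
  haveI := normal_subgroupOf_of_le_normalizer (hC.trans range_le)
  have h2 : ∀ ξ : IrrCharacter 𝐂[z], ξ ∈ principalBlock M 𝐂[z] := fun ξ =>
    sameBlock_of_cent_le hM (P := (V.map κ).subgroupOf 𝐂[z]) (IsPGroup.of_card (n := 3) h.card_V).comap_subtype
      (fun x hx => h.cent_le fun a ha => congrArg Subtype.val (hx ⟨a, le ha⟩ ha)) (principalIrr _) ξ
  rw [blockPart_irr_of_notMem hχ, blockPart_eq, Finset.filter_true_of_mem fun ξ _ => h2 ξ,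
    ← (χ.2.isClassFunction.restrict _).eq_sum] at h1
  exact h1.symm

end M0

/-- the image of `κ` contains the centralizers of the nonidentity elements of `J` -/
structure U (κ : W →* G) : Prop where
  inj : Function.Injective κ
  cent : ∀ v ∈ V, v ≠ 1 → 𝐂[κ v] ≤ κ.range

namespace U
variable (h : U κ)
include h

theorem key (hv : v ∈ V) (v1 : v ≠ 1) (hv' : v' ∈ V) (e : g * κ v * g⁻¹ = κ v') : g ∈ κ.range := by
  have v1' : v' ≠ 1 := by rintro rfl; rw [map_one, conj_eq_one_iff, map_eq_one_iff κ h.inj] at e; exact v1 e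
  have h1 := card_centralizer_of_isConj (isConj_iff.2 ⟨g, e⟩)
  rw [card_cent h.inj (h.cent v hv v1), card_cent h.inj (h.cent v' hv' v1')] at h1
  obtain ⟨a, rfl⟩ := range_inl_eq_ker_rightHom.ge hv
  obtain ⟨b, rfl⟩ := range_inl_eq_ker_rightHom.ge hv'
  have c : ∀ a : T27, (Finset.univ.filter fun c : W => c * inl a = inl a * c).card = ![648, 108, 54, 81] (cls a) := by decide +kernel
  rw [c, c] at h1
  obtain ⟨d, hd⟩ := fus a
  obtain ⟨d', hd'⟩ := fus b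
  rw [(by decide : ∀ i j : Fin 4, ![648, 108, 54, 81] i = ![648, 108, 54, 81] j → i = j) _ _ h1] at hd
  have : (κ (inr d' * (inr d)⁻¹))⁻¹ * g ∈ κ.range := h.cent _ hv v1 (mem_cent.2 (by
    refine mul_inv_eq_iff_eq_mul.1 ?_
    calc _ = (κ (inr d' * (inr d)⁻¹))⁻¹ * (g * κ (inl a) * g⁻¹) * κ (inr d' * (inr d)⁻¹) := by group
      _ = _ := by rw [e, ← hd, ← hd']; simp [mul_assoc]))
  exact (mul_mem_cancel_left (κ.range.inv_mem ⟨_, rfl⟩)).1 this

theorem m0 : M0 κ := ⟨h.inj, fun g hg => by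
  obtain ⟨v, hv, e⟩ := conj_mem_of_mem_normalizer hg (mem_map_of_mem κ (by decide : w 1 0 ∈ V))
  exact h.key (v := w 1 0) (by decide) (by decide) hv e.symm⟩

theorem isConj_iff' (k : ℕ) (hk : a ^ k ∈ V) (h1 : a ^ k ≠ 1) (hb : b ^ k ∈ V) : IsConj (κ a) (κ b) ↔ ∃ c, c * a = b * c := by
  refine ⟨fun e => ?_, fun ⟨c, e⟩ => isConj_iff.2 ⟨κ c, by rw [← map_mul, e, map_mul, mul_inv_cancel_right]⟩⟩
  obtain ⟨g, e⟩ := isConj_iff.1 e
  obtain ⟨c, rfl⟩ := h.key hk h1 hb (g := g) (by rw [map_pow, map_pow, ← conj_pow, e])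
  exact ⟨c, h.inj (by rw [map_mul, map_mul, ← e, inv_mul_cancel_right])⟩

theorem cent_le (k : ℕ) (hk : a ^ k ∈ V) (h1 : a ^ k ≠ 1) : 𝐂[κ a] ≤ κ.range := fun _ hg =>
  h.cent _ hk h1 (mem_cent.2 (map_pow κ a k ▸ (mem_cent.1 hg).pow_right k))

theorem mem_V {i : Fin 4} (hi : i = 1 ∨ i = 2) {f : G} (f3 : f ^ 3 = 1) (hc : Commute f (κ (a4 i))) : f ∈ V.map κ := by
  have p := (by decide +kernel : ∀ i : Fin 4, i = 1 ∨ i = 2 → (a4 i ∈ V ∧ a4 i ≠ 1) ∧ ∀ c, c * a4 i = a4 i * c → c ^ 3 = 1 → c ∈ V) i hi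
  obtain ⟨c, rfl⟩ := h.cent _ p.1.1 p.1.2 (mem_cent.2 hc)
  exact ⟨c, p.2 c (h.inj (by simpa using hc.eq)) (h.inj (by simpa using f3)), rfl⟩

theorem mem_V' {i : Fin 4} (hi : i = 1 ∨ i = 2) (e : IsConj (κ (a4 i)) (κ b)) : b ∈ V := by
  have p := (by decide +kernel : ∀ i : Fin 4, a4 i ∈ V) i
  obtain ⟨g, e⟩ := isConj_iff.1 e
  obtain ⟨v, hv, v1, c⟩ := (by decide +kernel : ∀ b : W, b ^ 3 = 1 → ∃ v ∈ V, v ≠ 1 ∧ v * b = b * v) b
    (h.inj (by rw [map_pow, ← e, conj_pow, ← map_pow, V_cube _ p]; simp))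
  obtain ⟨v', hv', e'⟩ := h.mem_V hi (f := g⁻¹ * κ v * g⁻¹⁻¹) (by rw [conj_pow, ← map_pow, V_cube _ hv]; simp) (by
    have := (Commute.map c κ).conj g⁻¹
    rwa [← e, show g⁻¹ * (g * κ (a4 i) * g⁻¹) * g⁻¹⁻¹ = κ (a4 i) by group] at this)
  obtain ⟨c, rfl⟩ := inv_mem_iff.1 (h.key hv v1 hv' e'.symm)
  rw [← map_inv, ← map_mul, ← map_mul] at e
  exact h.inj e ▸ (inferInstance : V.Normal).conj_mem _ p c

theorem isConj_cls {i : Fin 4} (hi : i ≠ 0) (a : T27) : IsConj (κ (a4 i)) (κ (inl a)) ↔ cls a = i := by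
  rw [h.isConj_iff' 1 (by revert i; decide) (by revert i; decide) (by rw [pow_one]; rfl)]
  revert i a; decide +kernel

open scoped Classical in
theorem pair [Fintype G] {i j k : Fin 4} (hi : i = 1 ∨ i = 2) (hj : j = 1 ∨ j = 2) (hk : k ≠ 0) (hn : i ≠ j ∨ i ≠ k) :
    pairFun (κ (a4 i)) (κ (a4 j)) (κ (a4 k)) =
      (Finset.univ.filter fun x : T27 => cls x = i ∧ cls (x⁻¹ * (a4 k).left) = j).card := by
  have pV : ∀ i, a4 i ∈ V := by decide
  have i0 : i ≠ 0 := by omega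
  have j0 : j ≠ 0 := by omega
  have p3 : ∀ {i x}, IsConj (κ (a4 i)) x → x ^ 3 = 1 := fun h2 => by
    obtain ⟨g, rfl⟩ := isConj_iff.1 h2; rw [conj_pow, ← map_pow, V_cube _ (pV _)]; simp
  have e : ∀ x : G, (∑ y with IsConj (κ (a4 j)) y, if x * y = κ (a4 k) then (1 : ℂ) else 0) =
      if IsConj (κ (a4 j)) (x⁻¹ * κ (a4 k)) then 1 else 0 := fun x => by
    simp only [← eq_inv_mul_iff_mul_eq, Finset.sum_ite_eq', Finset.mem_filter, Finset.mem_univ, true_and]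
  have ea : ∀ k, a4 k = inl (a4 k).left ∧ cls (a4 k).left = k ∧ cls (a4 k).left⁻¹ = k ∧ (k ≠ 0 → a4 k ≠ 1) := by decide +kernel
  have ek := (ea k).1
  simp only [pairFun, e, Finset.sum_boole, Finset.filter_filter, Nat.cast_inj]
  have iff : ∀ x : T27, (IsConj (κ (a4 i)) (κ (inl x)) ∧ IsConj (κ (a4 j)) ((κ (inl x))⁻¹ * κ (a4 k))) ↔
      (cls x = i ∧ cls (x⁻¹ * (a4 k).left) = j) := fun x => by
    rw [← h.isConj_cls i0, ← h.isConj_cls j0, map_mul, map_inv, ← ek, map_mul, map_inv]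
  refine (Finset.card_bij (fun x _ => κ (inl x)) (fun x hx => Finset.mem_filter.2 ⟨Finset.mem_univ _, (iff x).2 (Finset.mem_filter.1 hx).2⟩)
    (fun _ _ _ _ e => inl_injective (h.inj e)) fun x hx => ?_).symm
  obtain ⟨h1, h2⟩ := (Finset.mem_filter.1 hx).2
  suffices x ∈ V.map κ by
    obtain ⟨v, hv, rfl⟩ := this
    obtain ⟨y, rfl⟩ := range_inl_eq_ker_rightHom.ge hv
    exact ⟨y, by simpa using (iff y).1 ⟨h1, h2⟩, rfl⟩
  rcases tri (p3 h1) (p3 h2) (by simpa using p3 (IsConj.refl _)) with ⟨f, f3, c1, c2⟩ | ⟨c1, c2⟩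
  · obtain ⟨g, rfl⟩ := isConj_iff.1 h1
    obtain ⟨v, hv, e1⟩ := h.mem_V hi (f := g⁻¹ * f * g⁻¹⁻¹) (by rw [conj_pow, ← f3, pow_orderOf_eq_one]; simp)
      (by simpa [mul_assoc] using c1.conj g⁻¹)
    obtain ⟨y, e2⟩ := h.cent v hv (by rintro rfl; rw [map_one, eq_comm, conj_eq_one_iff] at e1; simp [e1] at f3)
      (mem_cent.2 (e1 ▸ (c2.conj g⁻¹).symm))
    have hy := h.mem_V' hj (b := y) (e2 ▸ h2.trans (isConj_iff.2 ⟨g⁻¹, rfl⟩))
    obtain ⟨c, rfl⟩ := inv_mem_iff.1 (h.key (g := g⁻¹) (pV k) ((ea k).2.2.2 hk) (V.mul_mem (pV i) hy) (by rw [map_mul, e2]; group))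
    exact ⟨_, (inferInstance : V.Normal).conj_mem _ (pV i) c, by simp⟩
  · exfalso
    rcases hn with hn | hn
    · have := h1.trans (c1.trans h2.symm)
      rw [(ea j).1, h.isConj_cls i0] at this
      exact hn (this.symm.trans (ea j).2.1)
    · have := h1.trans c2
      rw [mul_inv_cancel_left, ← map_inv, ek, ← map_inv, h.isConj_cls i0] at this
      exact hn (this.symm.trans (ea k).2.2.1)

end U

end Cfsg.Lib.Block.Nin
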