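import Cfsg.Agent.Lib.Block.Nin2
import Cfsg.Agent.Lib.Block.Nin3

/-! # A group in which `3³ : S₄` contains the centralizers of the elements of `3³` -/

set_option autoImplicit false
set_option linter.unusedSectionVars false
set_option synthInstance.maxSize 100000
set_option maxRecDepth 100000

namespace Cfsg.Lib.Block.Nin

open Cfsg Cfsg.Lib.Block2 Cfsg.Lib.Char Cfsg.Lib.Invol Cfsg.Lib.Transfer Cfsg.Lib.Block.Tri Subgroup SemidirectProduct
open scoped ComplexConjugate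

local notation "𝐂[" x "]" => centralizer ({x} : Set _)

theorem gram_sc {I k r : Type*} [Fintype I] [Fintype k] [DecidableEq k] {c : k → I → ℂ} {N : k → ℤ}
    (hc : ∀ a b, ∑ i, c a i * conj (c b i) = if a = b then (N a : ℂ) else 0) (C : r → k → ℤ) (sc : r → ℂ) {R : I → r → ℤ}
    (hR : ∀ i a, sc a * ∑ j, C a j * c j i = R i a) (a b : r) :
    ((∑ i, R i a * R i b : ℤ) : ℂ) = sc a * conj (sc b) * (∑ j, C a j * C b j * N j : ℤ) := by
  have : ∑ i, (R i a : ℂ) * conj (R i b : ℂ) = sc a * conj (sc b) * ∑ j, (C a j * C b j * N j : ℂ) := by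
    rw [Finset.sum_congr rfl (g := fun i => sc a * conj (sc b) * ∑ j, ∑ l, C a j * c j i * (C b l * conj (c l i))) fun i _ => by
      rw [← hR, ← hR, map_mul, mul_mul_mul_comm, map_sum, Finset.sum_mul_sum]; simp, ← Finset.mul_sum, Finset.sum_comm]
    refine congrArg _ (Finset.sum_congr rfl fun j _ => ?_)
    rw [Finset.sum_comm, Finset.sum_congr rfl (g := fun l => (C a j * C b l : ℂ) * if j = l then (N j : ℂ) else 0) fun l _ => by
      rw [← hc, Finset.mul_sum]; exact Finset.sum_congr rfl fun _ _ => by ring]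
    simp
  simp only [map_intCast] at this
  exact_mod_cast this

noncomputable def s3 : ℂ := (Real.sqrt 3 : ℝ)

theorem s3_sq : s3 * s3 = 3 := by rw [s3, ← Complex.ofReal_mul, Real.mul_self_sqrt (by norm_num)]; rfl

variable {G : Type*} [Group G] [Finite G] {κ : W →* G} {g : G} {χ : G → ℂ}

theorem twelve (hχ : IsCharacter G χ) (h : g ^ 12 = 1) {n u r A D a b : ℂ}
    (e : ∀ k : Fin 12, χ (g ^ k.1) = ![n, a, D, r, A, b, u, b, A, r, D, a] k) :
    ∃ k l m : ℤ, A + D + (a + b) = 4 * k ∧ A + D - (a + b) = 4 * l ∧ A - D - s3 / 3 * (a - b) = 4 * m := by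
  have f : ∀ z : ℂ, z ^ 12 = 1 → ∃ m : ℕ, n + z ^ 6 * u + (z ^ 3 + z ^ 9) * r + (z ^ 4 + z ^ 8) * A + (z ^ 2 + z ^ 10) * D +
      (z + z ^ 11) * a + (z ^ 5 + z ^ 7) * b = 12 * m := fun z hz => by
    obtain ⟨m, hm⟩ := sum_pow_eq hχ h hz
    rw [← Fin.sum_univ_eq_sum_range (fun i => χ (g ^ i) * z ^ i)] at hm
    simp only [e, Fin.sum_univ_succ, Fin.sum_univ_zero, Matrix.cons_val_zero, Matrix.cons_val_succ, Fin.val_succ, Fin.val_zero] at hm
    exact ⟨m, by push_cast at hm; linear_combination hm⟩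
  obtain ⟨ω, h3, hω⟩ := exists_omega
  have hI := Complex.I_mul_I
  have hs := s3_sq
  obtain ⟨m1, h1⟩ := f 1 (by simp)
  obtain ⟨m2, h2⟩ := f ω (by grind)
  obtain ⟨m3, h3⟩ := f (-1) (by norm_num)
  obtain ⟨m4, h4⟩ := f (-ω) (by grind)
  obtain ⟨m5, h5⟩ := f Complex.I (by grind)
  obtain ⟨m6, h6⟩ := f ((s3 + Complex.I) / 2) (by grind)
  refine ⟨m1 - m2, m3 - m4, m5 - m6, ?_, ?_, ?_⟩ <;> push_cast <;> grind

theorem isPPart_twelve (h : g ^ 12 = 1) : IsPPart 3 g (g ^ 4) := by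
  refine ⟨g ^ 9, by rw [← pow_add, pow_succ, h, one_mul], (Commute.refl g).pow_pow _ _, ?_, fun e => ?_⟩
  · obtain ⟨k, -, e⟩ := (Nat.dvd_prime_pow Nat.prime_three (m := 1)).1 (orderOf_dvd_of_pow_eq_one (x := g ^ 4) (by rw [← pow_mul]; exact h))
    exact ⟨k, e⟩
  · exact absurd (e.trans (orderOf_dvd_of_pow_eq_one (n := 4) (by
      rw [← pow_mul, show 9 * 4 = 12 * 3 from rfl, pow_mul, h, one_pow]))) (by norm_num)

def g9 : Fin 9 → W := ![w 1 0, w 4 0, w 13 0, w 1 1, w 1 16, w 1 17, w 4 12, w 1 4, w 2 4]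

def kx (a : Fin 9) : ℕ := if a.1 < 7 then 4 else 3

def mP (a j : Fin 9) : ℤ := if a = 4 ∧ j = 5 then 1 else if a = 5 ∧ j = 5 then -1 else if a = j ∨ (a = 5 ∧ j = 4) then 1 else 0

noncomputable def sc (a : Fin 9) : ℂ := if a = 5 then s3 / 3 else 1

theorem val_eq (hχ : IsCharacter G χ) {x y : W} (h : ∃ c, c * x * c⁻¹ = y) : χ (κ y) = χ (κ x) :=
  (hχ.isClassFunction.eq_of_isConj (κ.map_isConj (isConj_iff.2 h))).symm

theorem exists_row (hχ : IsCharacter G χ) {n : ℤ} (hn : χ 1 = n) : ∃ R : Fin 9 → ℤ, (∀ a, sc a * ∑ j, mP a j * χ (κ (g9 j)) = R a) ∧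
    (9 ∣ R 0 + 4 * R 1 + 4 * R 2 ∧ 9 ∣ R 0 + R 1 - 2 * R 2 ∧ 4 ∣ R 0 + R 3 + R 4 ∧ 4 ∣ R 0 + R 3 - R 4 ∧ 4 ∣ R 0 - R 3 - R 5 ∧
      2 ∣ R 1 - R 6 ∧ 3 ∣ R 7 - R 2 ∧ 3 ∣ R 8 - R 2) ∧ ∃ m : ℕ, n + 6 * R 0 + 12 * R 1 + 8 * R 2 = 27 * m := by
  have r : ∀ a, a ≠ 4 → a ≠ 5 → ∃ z : ℤ, χ (κ (g9 a)) = z := fun a h1 h2 => by
    have p : κ (g9 a) ^ 36 = 1 := by rw [← map_pow, (by decide +kernel : ∀ a, g9 a ^ 36 = 1), map_one]
    refine hχ.isGeneralizedCharacter.exists_int_of_pow (by norm_num) p fun k hk => ?_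
    rw [pow_eq_pow_mod k p, ← map_pow]
    exact val_eq hχ ((by decide +kernel : ∀ a, a ≠ 4 → a ≠ 5 → ∀ k < 36, Nat.gcd k 36 = 1 → ∃ c, c * g9 a * c⁻¹ = g9 a ^ k) a h1 h2 _
      (Nat.mod_lt _ (by norm_num)) (by rw [← Nat.gcd_rec]; exact hk.symm))
  obtain ⟨A, hA⟩ := r 0 (by decide) (by decide)
  obtain ⟨B, hB⟩ := r 1 (by decide) (by decide)
  obtain ⟨C, hC⟩ := r 2 (by decide) (by decide)
  obtain ⟨D, hD⟩ := r 3 (by decide) (by decide)
  obtain ⟨F, hF⟩ := r 6 (by decide) (by decide)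
  obtain ⟨X, hX⟩ := r 7 (by decide) (by decide)
  obtain ⟨Y, hY⟩ := r 8 (by decide) (by decide)
  obtain ⟨k, l, m, h1, h2, h3⟩ := twelve hχ (g := κ (g9 4)) (by rw [← map_pow, show g9 4 ^ 12 = 1 by decide +kernel, map_one])
    (n := χ (κ 1)) (u := χ (κ (w 0 1))) (r := χ (κ (w 0 16))) (A := χ (κ (g9 0))) (D := χ (κ (g9 3))) (a := χ (κ (g9 4)))
    (b := χ (κ (g9 5))) fun k => by
      rw [← map_pow, val_eq hχ ((by decide +kernel : ∀ k : Fin 12, ∃ c, c * ![1, g9 4, g9 3, w 0 16, g9 0, g9 5, w 0 1, g9 5, g9 0,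
        w 0 16, g9 3, g9 4] k * c⁻¹ = g9 4 ^ k.1) k)]
      fin_cases k <;> rfl
  have nine : ∀ a, a = 7 ∨ a = 8 → ∀ x : ℤ, χ (κ (g9 a)) = x → 9 ∣ n + 2 * C + 6 * x := fun a ha x hx => by
    obtain ⟨p, q⟩ := (by decide +kernel : ∀ a, a = 7 ∨ a = 8 → g9 a ^ 9 = 1 ∧ ∀ k : Fin 9,
      ∃ c, c * ![1, g9 a, g9 a, g9 2, g9 a, g9 a, g9 2, g9 a, g9 a] k * c⁻¹ = g9 a ^ k.1) a ha
    obtain ⟨m, hm⟩ := sum_pow_eq hχ (g := κ (g9 a)) (by rw [← map_pow, p, map_one]) (one_pow 9)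
    rw [← Fin.sum_univ_eq_sum_range (fun i => χ (κ (g9 a) ^ i) * 1 ^ i)] at hm
    simp only [← map_pow, fun k => val_eq (κ := κ) hχ (q k), Fin.sum_univ_succ, Fin.sum_univ_zero, Matrix.cons_val_zero,
      Matrix.cons_val_succ, map_one, hn, hx, hC, one_pow] at hm
    exact ⟨m, Int.cast_injective (α := ℂ) (by push_cast at hm ⊢; linear_combination hm)⟩
  have fu : ∀ a, IsConj (κ (a4 (cls a))) (κ (inl a)) := fun a => by
    obtain ⟨d, hd⟩ := fus a
    exact κ.map_isConj (isConj_iff.2 ⟨_, hd⟩)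
  have sm : ∀ (N : Fin 4 → ℕ) (M m : ℕ), ∑ j, N j * χ (κ (a4 j)) = M * m → n * N 0 + N 1 * A + N 2 * B + N 3 * C = M * m :=
    fun N M m e => Int.cast_injective (α := ℂ) (by
      have e0 : χ (κ (a4 0)) = n := by rw [← hn, ← κ.map_one]; rfl
      have e1 : χ (κ (a4 1)) = A := hA
      have e2 : χ (κ (a4 2)) = B := hB
      have e3 : χ (κ (a4 3)) = C := hC
      rw [Fin.sum_univ_four, e0, e1, e2, e3] at e
      push_cast; linear_combination e)
  have w9 : ∀ (x y : T27) (N : Fin 4 → ℕ), (∀ j, (Finset.univ.filter fun a => cls (ph x y a) = j).card = N j) →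
      ∃ m : ℕ, n * N 0 + N 1 * A + N 2 * B + N 3 * C = (9 : ℕ) * m := fun x y N hN => by
    have p : ∀ x : T27, x ^ 3 = 1 := by decide +kernel
    obtain ⟨m, hm⟩ := sum_cls ((κ.comp inl).comp (em (p x) (p y) ((by decide +kernel : ∀ x y : T27, x * y = y * x) x y))) hχ
      (x := fun j => κ (a4 j)) (fun a => cls (ph x y a)) (fun a => fu _) hN
    exact ⟨m, sm N 9 m (by simpa using hm)⟩
  obtain ⟨m0, c0⟩ := sum_cls (κ.comp inl) hχ (x := fun j => κ (a4 j)) cls fu (N := ![1, 6, 12, 8]) (by decide +kernel)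
  have c0 := sm _ 27 m0 (by rw [c0, Nat.card_eq_fintype_card]; rfl)
  obtain ⟨m1, c1⟩ := w9 (.el 1) (.el 3) ![1, 4, 4, 0] (by decide +kernel)
  obtain ⟨m2, c2⟩ := w9 (.el 1) (.el 12) ![1, 2, 2, 4] (by decide +kernel)
  obtain ⟨m3, c3⟩ := w9 (.el 13) (.el 7) ![1, 0, 6, 2] (by decide +kernel)
  have s2 : κ (w 0 12) * κ (w 0 12) = 1 := by rw [← map_mul, show w 0 12 * w 0 12 = 1 by decide +kernel, map_one]
  obtain ⟨z, hz⟩ := Cfsg.IsCharacter.exists_int_of_two hχ s2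
  have m6 : κ (g9 1) * κ (w 0 12) = κ (g9 6) := by rw [← map_mul, show g9 1 * w 0 12 = g9 6 by decide +kernel]
  have rl : ∀ a, IsConj (κ (g9 a)) (κ (g9 a))⁻¹ := fun a =>
    map_inv κ _ ▸ κ.map_isConj (isConj_iff.2 ((by decide +kernel : ∀ a, ∃ c, c * g9 a * c⁻¹ = (g9 a)⁻¹) a))
  have c4 := (dvd_six hχ (by rw [← map_pow, V_cube _ (by decide), map_one]) s2
    (Commute.map (show g9 1 * w 0 12 = w 0 12 * g9 1 by decide +kernel) κ) (m6 ▸ rl 6) (rl 1) hn hB (m6 ▸ hF) hz).1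
  have c5 := nine 7 (by decide) X hX
  have c6 := nine 8 (by decide) Y hY
  rw [hA, hD] at h1 h2 h3
  have c7 : 2 * (A + D) = 4 * (k + l) := Int.cast_injective (α := ℂ) (by push_cast; linear_combination h1 + h2)
  simp only [Matrix.cons_val, Nat.cast_ofNat, Nat.cast_one, Nat.cast_zero] at c0 c1 c2 c3
  refine ⟨![A, B, C, D, 4 * k - A - D, A - D - 4 * m, F, X, Y], fun a => ?_, ?_, m0, ?_⟩
  · fin_cases a <;> simp [sc, mP, Fin.sum_univ_succ, hA, hB, hC, hD, hF, hX, hY]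
    · linear_combination h1
    · linear_combination -h3
  · simp only [Matrix.cons_val]; omega
  · simp only [Matrix.cons_val]; omega

theorem U.eq_top (h : U κ) : κ.range = ⊤ := by
  classical
  haveI := Fintype.ofFinite G
  have pk : ∀ a, g9 a ^ kx a ∈ V ∧ g9 a ^ kx a ≠ 1 := by decide +kernel
  obtain ⟨n, hn, n0, hs⟩ := exists_deg (G := G)
  choose R hR h1 h27 using fun χ : IrrCharacter G => exists_row (κ := κ) χ.2.isCharacter (hn χ)
  have cc : ∀ a, Nat.card 𝐂[κ (g9 a)] = ![108, 54, 81, 12, 12, 12, 6, 9, 9] a := fun a => by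
    rw [card_cent h.inj (h.cent_le _ (pk a).1 (pk a).2)]; revert a; decide +kernel
  have nc : ∀ a b, a ≠ b → ¬ IsConj (κ (g9 a)) (κ (g9 b)) := fun a b ab e => by
    rcases (by decide +kernel : ∀ a b, a ≠ b → ![108, 54, 81, 12, 12, 12, 6, 9, 9] a ≠ ![108, 54, 81, 12, 12, 12, 6, 9, 9] b ∨
      (g9 b ^ kx a ∈ V ∧ ¬ ∃ c, c * g9 a = g9 b * c)) a b ab with h2 | h2
    · exact h2 (by rw [← cc, ← cc, card_centralizer_of_isConj e])
    · exact h2.2 ((h.isConj_iff' _ (pk a).1 (pk a).2 h2.1).1 e)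
  have hG : ∀ a b, ∑ χ, R χ a * R χ b = if a = b then nrm a else 0 := fun a b => Int.cast_injective (α := ℂ) (by
    rw [gram_sc (c := fun j (χ : IrrCharacter G) => χ.1 (κ (g9 j))) (N := fun a => (![108, 54, 81, 12, 12, 12, 6, 9, 9] a : ℕ))
      (fun a b => by
        split_ifs with e
        · rw [e, column_orthogonality_of_isConj (IsConj.refl _), cc]; simp
        · exact column_orthogonality_of_not_isConj (nc a b e)) mP sc hR,
      (by decide +kernel : ∀ a b, ∑ j, mP a j * mP b j * (![108, 54, 81, 12, 12, 12, 6, 9, 9] j : ℕ) =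
        if a = b then (if a = 5 then 3 else 1) * nrm a else 0)]
    split_ifs with e e5
    · subst e e5
      have : conj s3 = s3 := Complex.conj_ofReal _
      simp only [sc, if_true, map_div₀, this, map_ofNat]; push_cast
      linear_combination (nrm 5 / 3 : ℂ) * s3_sq
    · subst e; simp [sc, e5]
    · simp)
  have v : ∀ (χ : IrrCharacter G) (a : Fin 3), χ.1 (κ (g9 (a.castAdd 6))) = R χ (a.castAdd 6) := fun χ a => by
    rw [← hR]; fin_cases a <;> simp [sc, mP, Fin.sum_univ_succ]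
  have v0 : ∀ χ : IrrCharacter G, χ.1 (κ (a4 1)) = R χ 0 := (v · 0)
  have v1 : ∀ χ : IrrCharacter G, χ.1 (κ (a4 2)) = R χ 1 := (v · 1)
  have v2 : ∀ χ : IrrCharacter G, χ.1 (κ (a4 3)) = R χ 2 := (v · 2)
  have ro : R (principalIrr G) = τ 0 := funext fun a => Int.cast_injective (α := ℂ) (by
    rw [← hR]; fin_cases a <;> simp [sc, mP, Fin.sum_univ_succ, principalIrr, τ]; norm_num)
  obtain ⟨e, ε, he, hε, hr, un, h0⟩ := rows9 hG ro (fun χ e => by
    have : ∀ j : Fin 9, j.1 < 7 → χ.1 (κ (g9 j)) = 0 := fun j hj => by_contra fun h1 => by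
      have p := pk j
      rw [kx, if_pos hj] at p
      refine h.m0.ne_zero (isPPart_twelve ?_) ⟨_, p.1, map_pow _ _ _⟩ (map_pow κ _ _ ▸ h.cent _ p.1 p.2) χ h1 ((v2 χ).trans (by simp [e]))
      rw [← map_pow, (by decide +kernel : ∀ j : Fin 9, j.1 < 7 → g9 j ^ 12 = 1) j hj, map_one]
    have : ∀ a : Fin 9, a.1 < 7 → R χ a = 0 := fun a ha => Int.cast_injective (α := ℂ) (by
      rw [← hR, Finset.sum_eq_zero fun j _ => by
        by_cases hj : j.1 < 7
        · rw [this j hj, mul_zero]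
        · rw [(by decide : ∀ a j : Fin 9, a.1 < 7 → ¬ j.1 < 7 → mP a j = 0) a j ha hj]; simp]
      simp)
    simp [this]) h1
  set m : Fin 14 → ℤ := fun j => ε j * n (e j) with hm
  have sm : ∀ {M : Type} [AddCommMonoid M] (F : IrrCharacter G → M) (f : Fin 14 → M), (∀ i, R i = 0 → F i = 0) →
      (∀ j, f j = F (e j)) → ∑ i, F i = ∑ j, f j := fun F f h1 h2 =>
    (Fintype.sum_of_injective e he f F (fun i hi => h1 i (h0 i hi)) h2).symm
  have ln : ∀ a, ∑ j, τ j a * m j = 0 := fun a => by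
    rw [← sm (fun χ => R χ a * n χ) _ (fun i e => by simp [e]) fun j => by simp only [hr, hm]; ring]
    refine Int.cast_injective (α := ℂ) ?_
    have : ∀ j, ∑ χ : IrrCharacter G, χ.1 (κ (g9 j)) * n χ = 0 := fun j => by
      rw [← column_orthogonality_of_not_isConj (g := κ (g9 j)) (h := 1)
        (by rw [isConj_one_left]; exact (map_ne_one_iff κ h.inj).2 (by revert j; decide))]
      simp [hn]
    simp only [Int.cast_sum, Int.cast_mul, ← hR, mul_assoc, ← Finset.mul_sum, Finset.sum_mul]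
    rw [Finset.sum_comm]; simp [← Finset.mul_sum, this]
  have t1 := pair_int v1 v1 v0 hn ((h.pair (by decide) (by decide) (by decide) (by decide)).trans (congrArg _ (by decide +kernel : _ = 4)))
  have t2 := pair_int v0 v1 v2 hn ((h.pair (by decide) (by decide) (by decide) (by decide)).trans (congrArg _ (by decide +kernel : _ = 3)))
  rw [sm _ (fun j => (τ j 1 * τ j 1 * τ j 0 / m j : ℚ)) (fun i e => by simp [e]) fun j => by
    rcases hε j with h | h <;> simp [hr, hm, h] <;> ring, show Nat.card 𝐂[κ (a4 2)] = 54 from cc 1] at t1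
  rw [sm _ (fun j => (τ j 0 * τ j 1 * τ j 2 / m j : ℚ)) (fun i e => by simp [e]) fun j => by
    rcases hε j with h | h <;> simp [hr, hm, h] <;> ring, show Nat.card 𝐂[κ (a4 2)] = 54 from cc 1,
    show Nat.card 𝐂[κ (a4 1)] = 108 from cc 0] at t2
  have sq : ∑ j, m j * m j ≤ Nat.card G := by
    rw [← hs, Finset.sum_congr rfl (g := fun j => n (e j) ^ 2) fun j _ => by rcases hε j with h | h <;> simp [hm, h, sq],
      ← Finset.sum_image (f := fun χ => n χ ^ 2) he.injOn]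
    exact Finset.sum_le_sum_of_subset_of_nonneg (Finset.subset_univ _) fun _ _ _ => sq_nonneg _
  have m0 : m 0 = 1 := by
    have o : principalIrr G = e 0 := un _ _ (Or.inl ro)
    have o1 : n (e 0) = 1 := by rw [← o]; exact_mod_cast (show ((_ : ℤ) : ℂ) = 1 from (hn (principalIrr G)).symm)
    have o2 := hr 0 0
    rw [← o, ro] at o2; simpa [hm, o1, τ] using o2.symm
  have m9 : ∀ j, 27 ∣ m j + 6 * τ j 0 + 12 * τ j 1 + 8 * τ j 2 ∧ (0 < m j ∨ m j + 6 * τ j 0 + 12 * τ j 1 + 8 * τ j 2 ≤ 0) := fun j => by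
    obtain ⟨k, hk⟩ := h27 (e j)
    have := n0 (e j)
    rcases hε j with h | h <;> simp only [hm, h, hr] at hk ⊢ <;> omega
  have l0 := ln 0
  have l1 := ln 1
  have l2 := ln 2
  have l3 := ln 3
  have l4 := ln 4
  have l5 := ln 5
  have l6 := ln 6
  have l7 := ln 7
  have l8 := ln 8
  have k1 := m9 1
  have k2 := m9 2
  have k3 := m9 3
  have k4 := m9 4
  simp only [Fin.sum_univ_succ, Fin.sum_univ_zero, τ, Matrix.cons_val, Matrix.cons_val_zero, Matrix.cons_val_succ, Fin.reduceSucc,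
    m0] at l0 l1 l2 l3 l4 l5 l6 l7 l8 t1 t2 sq k1 k2 k3 k4
  generalize m 1 = a, m 2 = b, m 3 = c, m 4 = d, m 5 = p0, m 6 = p1, m 7 = p2, m 8 = p3, m 9 = r0, m 10 = r1, m 11 = f0, m 12 = f1,
    m 13 = f2 at l0 l1 l2 l3 l4 l5 l6 l7 l8 t1 t2 sq k1 k2 k3 k4
  obtain rfl : p0 = 1 + b + d := by omega
  obtain rfl : p1 = c + d := by omega
  obtain rfl : p2 = a + b + c := by omega
  obtain rfl : p3 = c + d := by omega
  obtain rfl : r0 = 1 + b + 2 * c + d := by omega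
  obtain rfl : r1 = a + b + c + 2 * d := by omega
  obtain rfl : f0 = 1 + a + c + d := by omega
  obtain rfl : f1 = b + c + d := by omega
  obtain rfl : f2 = b + c + d := by omega
  have := num (a := a) (b := b) (c := c) (d := d) (g := Nat.card G) (by omega) (by omega) (by omega) (by omega) (by omega) (by omega)
    (by omega) (by linarith) (by push_cast at t1 t2 ⊢; linear_combination (1 / 3) * t1 + (2 / 3) * t2)
  exact eq_top_of_card_eq _ (by rw [h.m0.card_range]; omega)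

end Cfsg.Lib.Block.Nin
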