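import Cfsg.Agent.Lib.Block.Nin4

/-! # The image of `3³ : S₄` in `Sym(9)` -/

set_option autoImplicit false
set_option linter.unusedSectionVars false
set_option synthInstance.maxSize 100000
set_option maxRecDepth 100000

namespace Cfsg.Lib.Block.Nin

open Cfsg Subgroup SemidirectProduct Equiv

theorem mem_closure_of_depth {M : Type*} [Group M] {s : List M} (dp : M → ℕ) (h : ∀ x, x = 1 ∨ ∃ g ∈ s, dp (g * x) < dp x) (x : M) :
    x ∈ Subgroup.closure {g | g ∈ s} := by
  induction hx : dp x using Nat.strong_induction_on generalizing x with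
  | _ n ih =>
    rcases h x with rfl | ⟨g, hg, e⟩
    · exact one_mem _
    · exact (Subgroup.mul_mem_cancel_left _ (Subgroup.subset_closure (k := {g | g ∈ s}) hg)).1 (ih _ (hx ▸ e) _ rfl)

theorem gen_W (x : W) : x ∈ Subgroup.closure {g | g ∈ [w 1 0, w 0 4, w 4 3, w 9 12]} :=
  mem_closure_of_depth (fun x => lk 0x657777687677887676757786567566786768686775566687646677577576777566647775565758746588854765866877476647855668753864675778554758636477844655756866746675578766577377647685557464687857386486456586635575468665467267537674547867584783778757668667458656683874577866477578536767474682668647558656455748653694745846677758366637762775644955586669444748543583735736667747636666475872468458558566447555583963277566367477525666364771358347448555766686777567886565745774676475876658685674554685755586667466776455635763674657836478953654752865585546945558752763661776663657726367843544742854855584668656586266635671666373677747385375444582744484558555476156525660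
    4 16 (Nat.add (Nat.mul 24 x.left.1) x.right.1)) (by decide +kernel) x

theorem ψ_range : ψ.range = Subgroup.closure {swap (0 : Fin 9) 1 * swap 1 2,
    swap (0 : Fin 9) 3 * swap 3 6 * (swap (1 : Fin 9) 4 * swap 4 7) * (swap (2 : Fin 9) 5 * swap 5 8),
    swap (0 : Fin 9) 1 * swap 3 4, swap (0 : Fin 9) 3 * swap 1 4 * swap 2 5 * swap 6 7} := by
  have e1 : ψ (w 1 0) = swap 0 1 * swap 1 2 := Equiv.ext (by simp only [ψ_apply]; decide +kernel)
  have e2 : ψ (w 0 4) = swap (0 : Fin 9) 3 * swap 3 6 * (swap (1 : Fin 9) 4 * swap 4 7) * (swap (2 : Fin 9) 5 * swap 5 8) :=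
    Equiv.ext (by simp only [ψ_apply]; decide +kernel)
  have e3 : ψ (w 4 3) = swap 0 1 * swap 3 4 := Equiv.ext (by simp only [ψ_apply]; decide +kernel)
  have e4 : ψ (w 9 12) = swap (0 : Fin 9) 3 * swap 1 4 * swap 2 5 * swap 6 7 := Equiv.ext (by simp only [ψ_apply]; decide +kernel)
  rw [← e1, ← e2, ← e3, ← e4, MonoidHom.range_eq_map, ← (eq_top_iff' _).2 gen_W, MonoidHom.map_closure]
  congr 1
  ext; simp [eq_comm]

variable {G : Type*} [Group G] [Finite G]

theorem exists_emb {H : Subgroup G} (e : H ≃* ψ.range) : ∃ κ : W →* G, Function.Injective κ ∧ κ.range = H := by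
  let κ : W →* G := H.subtype.comp ((MonoidHom.ofInjective ψ_inj).trans e.symm).toMonoidHom
  refine ⟨κ, Subtype.val_injective.comp (MulEquiv.injective _), ?_⟩
  rw [MonoidHom.range_comp, MonoidHom.range_eq_top.2 (MulEquiv.surjective _), ← MonoidHom.range_eq_map, range_subtype]

end Cfsg.Lib.Block.Nin
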