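import Cfsg.Agent.Lib.X32.Init

/-! # The table model of an involution centralizer `2^(1+4).S₃` and a fusion argument -/

set_option autoImplicit false
set_option maxRecDepth 100000
set_option synthInstance.maxSize 100000

namespace Cfsg.Lib.X32

open Subgroup Cfsg.Lib.Transfer Cfsg.Lib.Invol Cfsg.Lib.Known2

universe u

variable {G : Type u} [Group G] {Q : Subgroup G} {z x t : G}

theorem FP.model [Finite G] (h : FP Q z x) (hQ : Nat.card Q = 32) (hn : ∀ l, l * z = z * l → ∀ q ∈ Q, l * q * l⁻¹ ∈ Q)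
    (t1 : t * z = z * t) (t2 : t * t = 1) (t4 : t * x * t⁻¹ = x⁻¹)
    (hs' : ∀ l, l * z = z * l → ∃ k ∈ [1, x, x⁻¹, t, t * x, t * x⁻¹], l * k⁻¹ ∈ Q) :
    (∃ φ : HA →* G, Su φ (.el 16) ∧ φ (.el 16) = z ∧ φ (.el 32) = t) ∨ IsConj t (t * z) := by
  obtain ⟨a, b, c, d, hr, a2, hQ4⟩ := h.exists_RN hQ
  obtain ⟨f, rfl, rfl, rfl, rfl, rfl⟩ := exists_homN hr
  have fz : f (.el 16) = z := by rw [← a2, ← map_mul]; rfl
  have hf := HN.inj (fz ▸ h.es.ne)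
  have on := onto hf (S := sg (fun h : HN => h.1 < 32) (by decide +kernel)) ((card_sg _ _).trans (by decide +kernel)) hQ
    (gn := HN.gn) (wd := HN.wd) (by decide +kernel) (x := .el 32) (t := 1) (by decide +kernel) hQ4
  replace t4 : Cj f t (.el 32) (.el 32)⁻¹ := by rw [Cj, map_inv]; exact t4
  have ti := inv_eq_of_mul_eq_one_right t2
  obtain ⟨a, a1, a3⟩ := on _ (hn t t1 _ hQ4.1)
  obtain ⟨c, c1, c3⟩ := on _ (hn t t1 _ hQ4.2.2.1)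
  have ca : Cj f t (.el 1) a := a3.symm
  have cc : Cj f t (.el 4) c := c3.symm
  have cb : Cj f t (.el 2) ((HN.el 32)⁻¹ * a * (HN.el 32)⁻¹⁻¹) := ((t4.mul ca).mul t4.inv).cast (by decide +kernel) rfl
  have cd : Cj f t (.el 8) ((HN.el 32)⁻¹ * c * (HN.el 32)⁻¹⁻¹) := ((t4.mul cc).mul t4.inv).cast (by decide +kernel) rfl
  have τ : ∀ h : HN, Cj f t h (evc (lt a ((HN.el 32)⁻¹ * a * (HN.el 32)⁻¹⁻¹) c ((HN.el 32)⁻¹ * c * (HN.el 32)⁻¹⁻¹)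
      (HN.el 32)⁻¹ 1) 8 (HN.wd h)) := fun h => (Cj.evc (fun n hn => (lt_rel (Cj f t) Cj.one (fun _ _ => Cj.inv) ca cb cc cd t4
        Cj.one n).cast ((by decide +kernel : ∀ n < 16, lt (HN.el 1) (.el 2) (.el 4) (.el 8) (.el 32) 1 n = HN.gn n) n hn) rfl)
        _ _).cast (HN.evc_wd h) rfl
  have hr' := hr.map (MulAut.conj t).toMonoidHom
  simp only [MulEquiv.coe_toMonoidHom, MulAut.conj_apply] at hr'
  rw [ca, cb, cc, cd, t4] at hr'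
  have ca' : Cj f t a (.el 1) := ca.symm.cast' ti
  have cc' : Cj f t c (.el 4) := cc.symm.cast' ti
  have tx : t * f (.el 32) * (t * f (.el 32)) = 1 := by
    rw [← mul_assoc, mul_inv_eq_iff_eq_mul.1 t4, mul_assoc _ t t, t2, mul_one, ← map_mul, inv_mul_cancel, map_one]
  have fQ : ∀ p : HN, p.1 < 32 → f p ∈ Q := fun p hp => (eq_of_le_of_card_ge (K := (sg (fun h : HN => h.1 < 32)
    (by decide +kernel)).map f) on (by rw [card_map_of_injective hf, hQ, card_sg]; decide +kernel)).ge ⟨p, hp, rfl⟩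
  rcases (by decide +kernel : ∀ a : HN, a.1 < 32 → a * a = .el 16 → ∀ c : HN, c.1 < 32 →
      RN a ((HN.el 32)⁻¹ * a * (HN.el 32)⁻¹⁻¹) c ((HN.el 32)⁻¹ * c * (HN.el 32)⁻¹⁻¹) (HN.el 32)⁻¹ →
      evc (lt a ((HN.el 32)⁻¹ * a * (HN.el 32)⁻¹⁻¹) c ((HN.el 32)⁻¹ * c * (HN.el 32)⁻¹⁻¹) (HN.el 32)⁻¹ 1) 8 (HN.wd a) = .el 1 →
      evc (lt a ((HN.el 32)⁻¹ * a * (HN.el 32)⁻¹⁻¹) c ((HN.el 32)⁻¹ * c * (HN.el 32)⁻¹⁻¹) (HN.el 32)⁻¹ 1) 8 (HN.wd c) = .el 4 →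
      (RN (.el 1) (.el 2) a⁻¹ (.el 32 * a⁻¹ * (.el 32)⁻¹) (.el 32) ∧ a⁻¹.1 < 32 ∧ (HN.el 32 * a⁻¹ * (.el 32)⁻¹).1 < 32) ∨
      ∃ p ∈ [HN.el 1, .el 2, .el 3], ∃ q ∈ [HN.el 4, .el 8, .el 12],
        evc (lt a ((HN.el 32)⁻¹ * a * (HN.el 32)⁻¹⁻¹) c ((HN.el 32)⁻¹ * c * (HN.el 32)⁻¹⁻¹) (HN.el 32)⁻¹ 1) 8 (HN.wd p) * p = 1 ∧
        evc (lt a ((HN.el 32)⁻¹ * a * (HN.el 32)⁻¹⁻¹) c ((HN.el 32)⁻¹ * c * (HN.el 32)⁻¹⁻¹) (HN.el 32)⁻¹ 1) 8 (HN.wd q) * q = 1)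
      a a1 ((ca.mul ca).uniq hf (Cj.of_comm (fz ▸ t1))) c c1 (RN.of_map hf hr') ((τ a).uniq hf ca') ((τ c).uniq hf cc')
    with ⟨e1, e2, e3⟩ | ⟨p, p1, q, q1, e1, e2⟩
  · obtain ⟨φ, hφ⟩ := exists_homA (e1.map f) t2 tx (by nth_rewrite 2 [← ti]; rw [ca, ← map_mul]; simp)
      (by nth_rewrite 2 [← ti]; rw [ca'.inv, ← map_mul]; simp)
    have φz : φ (.el 16) = z := by rw [← a2, ← hφ.1, ← map_mul]; rfl
    have hi := HA.inj (φz ▸ h.es.ne)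
    have on' := onto hi (S := sg (fun h : HA => h.1 < 32) (by decide +kernel)) ((card_sg _ _).trans (by decide +kernel)) hQ
      (gn := HA.gn) (wd := HA.wd) (by decide +kernel) (x := .el 64) (t := .el 32) (by decide +kernel)
      ⟨hφ.1 ▸ hQ4.1, hφ.2.1 ▸ hQ4.2.1, hφ.2.2.1 ▸ fQ _ e2, hφ.2.2.2.1 ▸ fQ _ e3⟩
    exact Or.inl ⟨φ, su_of hi φz (by decide +kernel) (fun q hq => (on' q hq).imp fun _ h => h.2)
      ⟨⟨_, hφ.2.2.2.2.1⟩, _, hφ.2.2.2.2.2⟩ hs', φz, hφ.2.2.2.2.2⟩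
  · obtain ⟨e3, e4, e5, e6, e7, e8⟩ := (by decide +kernel : ∀ p ∈ [HN.el 1, .el 2, .el 3], ∀ q ∈ [HN.el 4, .el 8, .el 12],
      RN p (.el 32 * p * (.el 32)⁻¹) q (.el 32 * q * (.el 32)⁻¹) (.el 32) ∧ p * p = .el 16 ∧ p.1 < 32 ∧
      (HN.el 32 * p * (.el 32)⁻¹).1 < 32 ∧ q.1 < 32 ∧ (HN.el 32 * q * (.el 32)⁻¹).1 < 32) p p1 q q1
    have k : ∀ {p r}, Cj f t p r → r * p = 1 → t * f p * (t * f p) = 1 := fun {p r} h e => by
      nth_rewrite 2 [← ti]; rw [← mul_assoc, h, ← map_mul, e, map_one]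
    obtain ⟨φ, hφ⟩ := exists_homB (e3.map f) t2 tx (k (τ p) e1) (k (τ q) e2)
    have φz : φ (.el 16) = z := by rw [← fz, ← e4, map_mul f, ← hφ.1, ← map_mul]; rfl
    exact Or.inr (by
      rw [← φz, ← hφ.2.2.2.2.2, ← map_mul]
      exact φ.map_isConj (isConj_iff.2 ⟨.el 1, by decide +kernel⟩))

namespace HA

def pw (x : HA) (c i : ℕ) : HA := cond (Nat.testBit c i) x 1

def w4 (a b c d p : HA) : HA :=
  let n := Nat.mod (Nat.shiftRight 0xb00e00000d0000c0f00a0000090000803006000005000040700200000100000 (Nat.mul 4 p.1)) 16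
  pw a n 0 * pw b n 1 * pw c n 2 * pw d n 3

theorem nwc {φ : HA →* G} (su : Su φ (el 16)) {y : G} (h1 : Cj φ y (el 16) (el 32 * el 16)) (h2 : Cj φ y (el 32) (el 32))
    (hy : y * y = φ (el 32)) : ∃ q : HA, q.1 < 32 ∧ q ≠ el 16 ∧ Fz φ (el 16) q := by
  obtain ⟨a, a1, a2⟩ := su.norm' h2 h1 (p := el 5) (by decide +kernel) (by decide +kernel)
  obtain ⟨b, b1, b2⟩ := su.norm' h2 h1 (p := el 11) (by decide +kernel) (by decide +kernel)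
  have p : ∀ {x x' : HA}, Cj φ y x x' → ∀ c i, Cj φ y (pw x c i) (pw x' c i) := fun h c i => by
    unfold pw; cases Nat.testBit c i
    exacts [Cj.one, h]
  have ac : Ac φ (fun p => p * el 32 = el 32 * p) y (w4 a b (el 32 * el 16) (el 32)) := fun q hq =>
    ⟨(by decide +kernel : ∀ a, a * el 32 = el 32 * a → ∀ b, b * el 32 = el 32 * b → ∀ q, q * el 32 = el 32 * q →
        w4 a b (el 32 * el 16) (el 32) q * el 32 = el 32 * w4 a b (el 32 * el 16) (el 32) q) a a1 b b1 q hq,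
      ((((p a2 _ 0).mul (p b2 _ 1)).mul (p h1 _ 2)).mul (p h2 _ 3)).cast
        ((by decide +kernel : ∀ q, q * el 32 = el 32 * q → w4 (el 5) (el 11) (el 16) (el 32) q = q) q hq) rfl⟩
  have i2 : ∀ q, q * el 32 = el 32 * q → w4 a b (el 32 * el 16) (el 32) (w4 a b (el 32 * el 16) (el 32) q) = q := fun q hq =>
    (((ac.mul ac) q hq).2.cast' hy).uniq su.inj ((Cj.of _ q).cast rfl (by rw [← hq]; group))
  rcases (by decide +kernel : ∀ a, a * el 32 = el 32 * a → ∀ b, b * el 32 = el 32 * b → let f := w4 a b (el 32 * el 16) (el 32)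
      f (f (el 5)) = el 5 → f (f (el 11)) = el 11 → (∃ k ∈ [el 0, el 1, el 2, el 3], k * (el 32 * el 16) * k⁻¹ * el 32 =
        el 32 * (k * (el 32 * el 16) * k⁻¹) ∧ (f (k * (el 32 * el 16) * k⁻¹)).1 < 32 ∧ f (k * (el 32 * el 16) * k⁻¹) ≠ el 16) ∨
      ∃ k ∈ [el 0, el 1, el 2, el 3], ∃ l ∈ [el 0, el 1, el 2, el 3], f (k * f (l * f (el 16) * l⁻¹) * k⁻¹) = el 16 ∧
        ∀ m, ∃ p ∈ [el 5, el 11, el 32], m * p * m⁻¹ ≠ f (k * f (l * f p * l⁻¹) * k⁻¹)) a a1 b b1 (i2 _ (by decide +kernel))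
      (i2 _ (by decide +kernel)) with ⟨k, -, e1, e2, e3⟩ | ⟨k, k1, l, l1, e1, e2⟩
  · exact ⟨_, e2, e3, ((Fz.refl.cj h1).conj k).cj (ac _ e1).2⟩
  · have n := (by decide +kernel : ∀ k ∈ [el 0, el 1, el 2, el 3], ∀ p, p * el 32 = el 32 * p →
      k * p * k⁻¹ * el 32 = el 32 * (k * p * k⁻¹))
    obtain ⟨m, -, hm⟩ := (ac.mul ((Ac.of k (n k k1)).mul (ac.mul ((Ac.of l (n l l1)).mul ac)))).fix su (by decide +kernel) e1
    obtain ⟨p, p1, e3⟩ := e2 m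
    exact absurd (hm p ((by decide +kernel : ∀ p ∈ [el 5, el 11, el 32], p * el 32 = el 32 * p) p p1)) e3

end HA

end Cfsg.Lib.X32
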