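import Cfsg.Agent.Lib.Block.Nin1
import Cfsg.Agent.Lib.Block.Nin6
import Cfsg.Agent.Lib.Exc.SC3c
import Cfsg.Agent.Lib.PGrp.Critical

/-! # Involution centralizers containing `2 × S₄` -/

set_option autoImplicit false
set_option linter.unusedSectionVars false
set_option maxRecDepth 100000
set_option synthInstance.maxSize 100000

namespace Cfsg.Lib.Block.Nin

open Subgroup Cfsg.Lib.Transfer Cfsg.Lib.Invol Cfsg.Lib.Known2 Cfsg.Lib.X32 Cfsg.Lib.Exc Cfsg.Lib.Block.Tri Cfsg.Lib.JR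

abbrev M48 := C2 × T24

def σ : M48 := (ν, 1)
def β : M48 := (1, .el 4)
def υ : M48 := (1, .el 19)

abbrev F8 : Subgroup M48 := sg (fun d => d.2.1 < 4) (by decide +kernel)
abbrev D16 : Subgroup M48 := sg (fun d => d.2.1 < 4 ∨ (16 ≤ d.2.1 ∧ d.2.1 < 20)) (by decide +kernel)

universe u

variable {Γ : Type u} [Group Γ] [Finite Γ] {Λ : M48 →* Γ} {c g : Γ} {d : M48}

theorem card_psl7 : Nat.card (Linear.PSL2 (ZMod 7)) = 168 := by
  have h1 := Linear.card_PSL_two (F := ZMod 7)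
  rw [Nat.card_zmod] at h1
  exact Nat.eq_of_mul_eq_mul_left two_pos h1

theorem conj_inv_conj' (a b : Γ) : a * (a⁻¹ * b * a) * a⁻¹ = b := by group

theorem C3.cube {x : Γ} (h : C3 x) (hc : 3 ∣ orderOf c) : c ^ 3 = 1 := by
  have e3 := orderOf_pow_orderOf_div (orderOf_pos c).ne' hc
  obtain ⟨g, -, e⟩ := h.sylow.exists_cj_le (isP (e3 ▸ pow_orderOf_eq_one _)) le_top
  have := h.cent' (cj_zpowers_le.1 e) (fun e => by rw [← orderOf_conj g, e, orderOf_one] at e3; omega)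
    (((Commute.refl c).pow_right _).conj g)
  obtain ⟨k, hk⟩ := mem_zpowers_iff.1 this
  have : (g * c * g⁻¹) ^ 3 = 1 := by rw [← hk, ← zpow_natCast, ← zpow_mul, mul_comm, zpow_mul, zpow_natCast, h.pow3, one_zpow]
  rwa [conj_pow, conj_eq_one_iff] at this

structure LD (Λ : M48 →* Γ) : Prop where
  inj : Function.Injective Λ
  cen : ∀ g, g * Λ σ = Λ σ * g
  cb : ∀ g, Commute g (Λ β) → g ∈ Λ.range
  cF : ∀ g, (∀ d ∈ F8, Commute g (Λ d)) → g ∈ Λ.range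

namespace LD
variable (h : LD Λ)
include h

theorem ss : Λ σ * Λ σ = 1 := by rw [← map_mul, show σ * σ = 1 by decide, map_one]

theorem memZ : g ∈ zpowers (Λ σ) ↔ g = 1 ∨ g = Λ σ := mem_zpowers_invol h.ss

theorem nrmZ : (zpowers (Λ σ)).Normal := ⟨fun n hn g => by
  rcases h.memZ.1 hn with rfl | rfl
  · simp
  · rw [h.cen]; simp⟩

theorem memF (hg : ∀ d ∈ F8, Commute g (Λ d)) : g ∈ F8.map Λ := by
  obtain ⟨c, rfl⟩ := h.cF g hg
  exact mem_map_of_mem Λ ((by decide +kernel : ∀ c : M48, (∀ d ∈ F8, c * d = d * c) → c ∈ F8) c fun d hd =>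
    h.inj (by simpa using (hg d hd).eq))

theorem notZ (h1 : d ≠ 1) (h2 : d ≠ σ) : Λ d ∉ zpowers (Λ σ) := fun e =>
  (h.memZ.1 e).elim ((map_ne_one_iff Λ h.inj).2 h1) (h.inj.ne h2)

theorem c3 [(zpowers (Λ σ)).Normal] : C3 (QuotientGroup.mk' (zpowers (Λ σ)) (Λ β)) := by
  refine ⟨orderOf_eq_prime (by rw [← map_pow, ← map_pow, show β ^ 3 = 1 by decide +kernel, map_one, map_one]) fun e =>
    h.notZ (by decide +kernel) (by decide +kernel) ((QuotientGroup.eq_one_iff _).1 e), fun y hy => ?_⟩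
  obtain ⟨g, rfl⟩ := QuotientGroup.mk'_surjective _ y
  have e : g * Λ β * g⁻¹ * (Λ β)⁻¹ ∈ zpowers (Λ σ) := (QuotientGroup.eq_one_iff _).1 (by
    have := hy.eq; simp only [QuotientGroup.mk'_apply] at this; simp [this])
  rcases h.memZ.1 e with e | e
  · obtain ⟨c, rfl⟩ := h.cb g (mul_inv_eq_iff_eq_mul.1 (mul_inv_eq_one.1 e))
    obtain ⟨i, j, rfl⟩ := (by decide +kernel : ∀ c : M48, c * β = β * c → ∃ i : Fin 3, ∃ j : Fin 2, c = β ^ i.1 * σ ^ j.1) c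
      (h.inj (by simpa using mul_inv_eq_iff_eq_mul.1 (mul_inv_eq_one.1 e)))
    rw [map_mul, map_mul, map_pow Λ σ, (QuotientGroup.eq_one_iff _).2 (pow_mem (mem_zpowers _) _) |> fun e =>
      show QuotientGroup.mk' _ (Λ σ ^ j.1) = 1 from e, mul_one, map_pow, map_pow]
    exact pow_mem (mem_zpowers _) _
  · have := congrArg (· ^ 3) (mul_inv_eq_iff_eq_mul.1 e)
    simp only [conj_pow, ← map_mul, ← map_pow, show β ^ 3 = 1 by decide +kernel, map_one, mul_one, mul_inv_cancel] at this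
    exact absurd (h.inj (this.symm.trans Λ.map_one.symm)) (by decide +kernel)

theorem cube (hc : 3 ∣ orderOf c) : c ^ 3 ∈ zpowers (Λ σ) := by
  haveI := h.nrmZ
  refine (QuotientGroup.eq_one_iff _).1 ((map_pow (QuotientGroup.mk' _) c 3).trans (C3.cube h.c3 ?_))
  have : orderOf c ∣ orderOf (QuotientGroup.mk' (zpowers (Λ σ)) c) * 2 := by
    rw [orderOf_dvd_iff_pow_eq_one, pow_mul]
    rcases h.memZ.1 ((QuotientGroup.eq_one_iff _).1 ((map_pow (QuotientGroup.mk' _) c _).trans (pow_orderOf_eq_one _))) with e | e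
    · rw [e, one_pow]
    · rw [e, sq, h.ss]
  exact (Nat.Coprime.dvd_mul_right (by norm_num)).1 (hc.trans this)

variable {Y : Type*} [Group Y] {π : Γ →* Y} (hF : ∀ d ∈ F8, π (Λ d) = 1)
include hF

theorem cube' (hc : orderOf (π c) = 3) (hd : d ∈ F8) : (c * Λ d) ^ 3 ∈ zpowers (Λ σ) :=
  h.cube (hc ▸ (by rw [map_mul, hF d hd, mul_one] : π (c * Λ d) = π c) ▸ orderOf_map_dvd π _)

theorem cm (hc : orderOf (π c) = 3) (hd : d ∈ F8) : Commute (Λ d) (c * Λ d * c⁻¹) := by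
  have h1 := h.cube' hF hc (one_mem _)
  have h2 := h.cube' hF hc hd
  have d2 : Λ d * Λ d = 1 := by rw [← map_mul, (by decide +kernel : ∀ d ∈ F8, d * d = 1) d hd, map_one]
  rw [map_one, mul_one] at h1
  generalize Λ d = f at *
  have z : ∀ x ∈ zpowers (Λ σ), x * x = 1 ∧ ∀ y, Commute x y := fun x hx => by
    rcases h.memZ.1 hx with rfl | rfl
    exacts [by simp, ⟨h.ss, fun y => (h.cen y).symm⟩]
  obtain ⟨z1, z2⟩ := z _ (mul_mem h2 (inv_mem h1))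
  have e : f * (c * f * c⁻¹) = (c * f) ^ 3 * (c ^ 3)⁻¹ * (c * (c * f * c⁻¹) * c⁻¹)⁻¹ := by
    have := (z2 f).eq
    calc _ = f * ((c * f) ^ 3 * (c ^ 3)⁻¹) * (c ^ 3 * f⁻¹ * (c ^ 3)⁻¹) * (c * (c * f * c⁻¹) * c⁻¹)⁻¹ := by
          simp only [pow_three]; group
      _ = _ := by rw [← this, ((z _ h1).2 f⁻¹).eq]; group
  have i : ∀ x : Γ, x * x = 1 → x⁻¹ = x := fun x => inv_eq_of_mul_eq_one_right
  have a1 : c * f * c⁻¹ * (c * f * c⁻¹) = 1 := by rw [conj_mul, d2]; group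
  have : f * (c * f * c⁻¹) * (f * (c * f * c⁻¹)) = 1 := by
    rw [e, (z2 _).symm.mul_mul_mul_comm, z1, ← mul_inv_rev, conj_mul, a1]; group
  show _ = _
  rw [← i _ this, mul_inv_rev, i _ a1, i _ d2]

theorem nF (h1 : orderOf (π (Λ β * g)) = 3) (h2 : orderOf (π (Λ β⁻¹ * g)) = 3) (hd : d ∈ F8) : g * Λ d * g⁻¹ ∈ F8.map Λ := by
  rcases (by decide +kernel : ∀ d ∈ F8, d = 1 ∨ d = σ ∨ ∀ e ∈ F8, ∃ i j k : Fin 2,
    e = (β⁻¹ * d * β⁻¹⁻¹) ^ i.1 * (β * d * β⁻¹) ^ j.1 * σ ^ k.1) d hd with rfl | rfl | e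
  · simp
  · rw [h.cen]; simpa using mem_map_of_mem Λ hd
  refine h.memF fun x hx => ?_
  obtain ⟨i, j, k, rfl⟩ := e x hx
  have a := (h.cm hF h1 hd).conj (Λ β⁻¹)
  have b := (h.cm hF h2 hd).conj (Λ β)
  simp only [map_mul, map_pow, map_inv] at a b ⊢
  refine (Commute.mul_right (Commute.pow_right ?_ _) (Commute.pow_right ?_ _)).mul_right (Commute.pow_right (h.cen _) _)
  · simpa [mul_assoc] using a.symm
  · simpa [mul_assoc] using b.symm

theorem triv (h1 : orderOf (π (Λ β * g)) = 3) (h2 : orderOf (π (Λ β⁻¹ * g)) = 3) (hd : d ∈ F8) :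
    g * Λ d * g⁻¹ = Λ d ∨ g * Λ d * g⁻¹ = Λ d * Λ σ := by
  haveI := h.nrmZ
  obtain ⟨x, hx, e⟩ := h.nF hF h1 h2 hd
  rcases (by decide +kernel : ∀ d ∈ F8, d = 1 ∨ d = σ ∨ d ≠ 1 ∧ d ≠ σ ∧ d ^ 3 = d ∧ ∀ x ∈ F8, x = d ∨ x = d * σ ∨ x = 1 ∨ x = σ ∨
    ∃ ε, (ε = β ∨ ε = β⁻¹) ∧ ∃ k : Fin 2, ε * x * ε⁻¹ = d * σ ^ k.1) d hd with rfl | rfl | ⟨d1, d2, d3, e1⟩
  · simp
  · rw [h.cen]; simp
  rcases e1 x hx with rfl | rfl | rfl | rfl | ⟨ε, hε, k, e1⟩
  · exact Or.inl e.symm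
  · exact Or.inr (by rw [← e, map_mul])
  · rw [map_one, eq_comm, conj_eq_one_iff] at e; exact absurd e ((map_ne_one_iff Λ h.inj).2 d1)
  · exact absurd (h.inj (by rw [← mul_left_cancel_iff (a := g), h.cen, e]; group)) d2
  have h3 : orderOf (π (Λ ε * g)) = 3 := by rcases hε with rfl | rfl <;> assumption
  have a := (QuotientGroup.eq_one_iff _).2 (h.cube' hF h3 hd)
  have b := (QuotientGroup.eq_one_iff _).2 (h.cube' hF h3 (one_mem _))
  have c : Commute ((Λ ε * g : Γ) : Γ ⧸ zpowers (Λ σ)) (Λ d : Γ) := by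
    have : Λ ε * g * Λ d = Λ d * Λ σ ^ k.1 * (Λ ε * g) := by rw [← map_pow, ← map_mul Λ d, ← e1, map_mul, map_mul, e, map_inv]; group
    show _ = _
    rw [← QuotientGroup.mk_mul, this, QuotientGroup.mk_mul, QuotientGroup.mk_mul, (QuotientGroup.eq_one_iff (Λ σ ^ k.1)).2
      (pow_mem (mem_zpowers _) _), mul_one]
  rw [map_one, mul_one] at b
  rw [QuotientGroup.mk_pow, QuotientGroup.mk_mul, c.mul_pow, ← QuotientGroup.mk_pow, b, one_mul, ← QuotientGroup.mk_pow, ← map_pow, d3,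
    QuotientGroup.eq_one_iff] at a
  exact absurd a (h.notZ d1 d2)

omit hF in
theorem piF (hs : π (Λ σ) = 1) (h4 : ∀ y : Y, y ^ 4 = 1 → y ^ 2 = 1) (d : M48) (hd : d ∈ F8) : π (Λ d) = 1 := by
  obtain ⟨ρ, k, e, rfl⟩ := (by decide +kernel : ∀ d ∈ F8, ∃ ρ : M48, ∃ k : Fin 2, ρ ^ 4 = 1 ∧ d = ρ ^ 2 * σ ^ k.1) d hd
  simp only [map_mul, map_pow, hs, one_pow, mul_one]
  exact h4 _ (by rw [← map_pow, ← map_pow, e, map_one, map_one])

omit hF in
theorem card_F : Nat.card (F8.map Λ) = 8 := by rw [card_map_of_injective h.inj, card_sg]; decide +kernel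

omit hF in
theorem ord3 (hk : ¬ 3 ∣ Nat.card π.ker) : orderOf (π (Λ β)) = 3 := by
  have b3 : Λ β ^ 3 = 1 := by rw [← map_pow, show β ^ 3 = 1 by decide +kernel, map_one]
  refine orderOf_eq_prime (by rw [← map_pow, b3, map_one]) fun e => hk ?_
  rw [← orderOf_eq_prime b3 ((map_ne_one_iff Λ h.inj).2 (by decide +kernel))]
  exact π.ker.orderOf_dvd_natCard e

omit hF in
theorem not_a5 {π : Γ →* A60} (hπ : Function.Surjective π) (hs : π (Λ σ) = 1) (hk : ¬ 3 ∣ Nat.card π.ker) : False := by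
  haveI : Fact (Nat.Prime 5) := ⟨by norm_num⟩
  have hF := h.piF hs (by decide +kernel)
  have o := h.ord3 hk
  obtain ⟨v, v', e1, e2, e3⟩ := (by decide +kernel : ∀ y : A60, y ^ 3 = 1 → y ≠ 1 → ∃ v v', (∀ x ∈ [v, v'], ∀ ε ∈ [y, y⁻¹],
    (ε * x) ^ 3 = 1 ∧ ε * x ≠ 1) ∧ (v * v') ^ 5 = 1 ∧ v * v' ≠ 1) _ (o ▸ pow_orderOf_eq_one _) fun e => by simp [e] at o
  obtain ⟨g, rfl⟩ := hπ v
  obtain ⟨g', rfl⟩ := hπ v'
  have n : ∀ x, π x ∈ [π g, π g'] → x ∈ normalizer (F8.map Λ : Set Γ) := fun x hx => mem_normalizer_of_cj_le (cj_le_iff.2 (by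
    rintro _ ⟨d, hd, rfl⟩
    have a := e1 _ hx (π (Λ β)) (by simp)
    have b := e1 _ hx (π (Λ β))⁻¹ (by simp)
    exact h.nF hF (by rw [map_mul]; exact orderOf_eq_prime a.1 a.2) (by rw [map_mul, map_inv, map_inv]; exact orderOf_eq_prime b.1 b.2) hd))
  have e5 := orderOf_pow_orderOf_div (orderOf_pos (g * g')).ne' (orderOf_eq_prime e2 e3 ▸ map_mul π g g' ▸ orderOf_map_dvd π _)
  have m := pow_mem (mul_mem (n g (by simp)) (n g' (by simp))) (orderOf (g * g') / 5)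
  generalize (g * g') ^ (orderOf (g * g') / 5) = ρ at e5 m
  have c1 := PGrp.card_modEq_card_inf_centralizer (q := 5) (R2.isPGroup_zpowers ⟨1, e5⟩) (zpowers_le.2 m)
  have c2 := card_dvd_of_le (inf_le_left : F8.map Λ ⊓ centralizer (zpowers ρ : Set Γ) ≤ _)
  rw [h.card_F] at c1 c2
  have c3 := Nat.le_of_dvd (by norm_num) c2
  have c4 := eq_of_le_of_card_ge (inf_le_left : F8.map Λ ⊓ centralizer (zpowers ρ : Set Γ) ≤ _) (by
    rw [h.card_F]; unfold Nat.ModEq at c1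
    generalize Nat.card ↥(F8.map Λ ⊓ centralizer (zpowers ρ : Set Γ)) = n at *
    interval_cases n <;> omega)
  obtain ⟨x, rfl⟩ := h.cF ρ fun d hd => (c4.ge (mem_map_of_mem Λ hd)).2 ρ (mem_zpowers ρ)
  have := e5 ▸ (orderOf_map_dvd Λ x).trans (orderOf_dvd_natCard x)
  rw [Nat.card_eq_fintype_card] at this
  exact absurd this (by decide)

omit hF in
theorem syl (hc : Nat.card Γ = 48 ∨ Nat.card Γ = 336) : SylowIn 2 (D16.map Λ) ⊤ := by
  have c : Nat.card (D16.map Λ) = 2 ^ 4 := by rw [card_map_of_injective h.inj, card_sg]; decide +kernel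
  refine ⟨le_top, IsPGroup.of_card c, ?_⟩
  have := card_mul_relIndex (le_top : D16.map Λ ≤ ⊤)
  rw [c, card_top] at this; omega

omit hF in
theorem s3 {π : Γ →* Equiv.Perm (Fin 3)} (hπ : Function.Surjective π) (hs : π (Λ σ) = 1) (hk : ¬ 3 ∣ Nat.card π.ker) :
    Nat.card Γ = 48 ∨ (∃ φ : HA →* Γ, Su φ (.el 16) ∧ φ (.el 16) = Λ σ ∧ φ (.el 32) = Λ υ) ∨ IsConj (Λ υ) (Λ υ * Λ σ) := by
  haveI := h.nrmZ
  have hF := h.piF hs (by decide +kernel)
  have o := h.ord3 hk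
  have tr : ∀ g ∈ π.ker, ∀ d ∈ F8, g * Λ d * g⁻¹ = Λ d ∨ g * Λ d * g⁻¹ = Λ d * Λ σ := fun g hg d hd =>
    h.triv hF (by rw [map_mul, show π g = 1 from hg, mul_one, o]) (by rw [map_mul, show π g = 1 from hg, mul_one, map_inv, map_inv,
      orderOf_inv, o]) hd
  have FN : F8.map Λ ≤ π.ker := by rintro _ ⟨d, hd, rfl⟩; exact hF d hd
  have cG : Nat.card π.ker * 6 = Nat.card Γ := by
    rw [← card_mul_index π.ker, index_ker, MonoidHom.range_eq_top.2 hπ, card_top, Nat.card_perm, Nat.card_fin]; rfl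
  by_cases h0 : π.ker ≤ F8.map Λ
  · exact Or.inl (by rw [← cG, le_antisymm h0 FN, h.card_F])
  refine Or.inr ?_
  set N := π.ker
  have nb : ∀ (ε : M48), ∀ g ∈ N, Λ ε * g * (Λ ε)⁻¹ ∈ N := fun ε g hg => (MonoidHom.normal_ker π).conj_mem g hg _
  have mv : ∀ d ∈ F8, d = 1 ∨ d = σ ∨ ∃ g ∈ N, ¬ Commute g (Λ d) := fun d hd => by
    obtain ⟨g, hg, h1⟩ := SetLike.not_le_iff_exists.1 h0
    by_contra! h2
    refine h1 (h.memF fun x hx => ?_)
    rcases (by decide +kernel : ∀ d ∈ F8, d ≠ 1 → d ≠ σ → ∀ x ∈ F8, ∃ ε : M48, ∃ j k : Fin 2, x = (ε * d * ε⁻¹) ^ j.1 * σ ^ k.1)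
      d hd h2.1 h2.2.1 x hx with ⟨ε, j, k, rfl⟩
    have := (h2.2.2 _ (nb ε⁻¹ g hg)).conj (Λ ε)
    simp only [map_mul, map_pow, map_inv] at this ⊢
    exact (Commute.pow_right (by simpa [mul_assoc] using this) _).mul_right (Commute.pow_right (h.cen _) _)
  have fx : ∀ q ∈ N, Λ β * q * (Λ β)⁻¹ = q → q = 1 ∨ q = Λ σ := fun q hq e => by
    obtain ⟨x, rfl⟩ := h.cb q (mul_inv_eq_iff_eq_mul.1 e).symm
    rcases (by decide +kernel : ∀ x : M48, x * β = β * x → x = 1 ∨ x = σ ∨ x ^ 2 = β ∨ x ^ 4 = β) x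
      (h.inj (by simpa using (mul_inv_eq_iff_eq_mul.1 e).symm)) with rfl | rfl | e | e
    exacts [by simp, by simp, by simp [← e, show π (Λ x) = 1 from hq] at o, by simp [← e, show π (Λ x) = 1 from hq] at o]
  have half : ∀ d ∈ F8, ∀ K ≤ N, Nat.card K ∣ Nat.card (K ⊓ centralizer {Λ d} : Subgroup Γ) * 2 := fun d hd K hK => by
    rw [← card_mul_relIndex (inf_le_left : K ⊓ centralizer {Λ d} ≤ K)]
    refine Nat.mul_dvd_mul_left _ (relIndex_dvd_two_iff.2 ?_)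
    by_cases e : ∀ a ∈ K, Commute a (Λ d)
    · exact ⟨1, one_mem _, fun b hb => Or.inr ⟨hb, mem_cent.2 (e b hb)⟩⟩
    push Not at e
    obtain ⟨a, ha, e⟩ := e
    refine ⟨a, ha, fun b hb => (tr b (hK hb) d hd).symm.imp (fun e1 => ⟨mul_mem hb ha, mem_cent.2 (mul_inv_eq_iff_eq_mul.1 ?_)⟩)
      fun e1 => ⟨hb, mem_cent.2 (mul_inv_eq_iff_eq_mul.1 e1)⟩⟩
    calc _ = b * (a * Λ d * a⁻¹) * b⁻¹ := by group
      _ = _ := by rw [(tr a (hK ha) d hd).resolve_left fun e2 => e (mul_inv_eq_iff_eq_mul.1 e2), ← conj_mul, e1, h.cen b,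
        mul_inv_cancel_right, mul_assoc, h.ss, mul_one]
  have c32 : ∀ K, F8.map Λ < K → K ≤ N → Λ β ∈ normalizer (K : Set Γ) → Nat.card K = 32 := fun K k1 k2 k3 => by
    have a1 := half (1, .el 1) (by decide +kernel) K k2
    have a2 := half (1, .el 2) (by decide +kernel) _ ((inf_le_left : K ⊓ centralizer {Λ (1, .el 1)} ≤ K).trans k2)
    have a3 : K ⊓ centralizer {Λ (1, .el 1)} ⊓ centralizer {Λ (1, .el 2)} ≤ F8.map Λ := fun g hg => h.memF fun x hx => by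
      obtain ⟨i, j, k, rfl⟩ := (by decide +kernel : ∀ x ∈ F8, ∃ i j k : Fin 2,
        x = ((1, .el 1) : M48) ^ i.1 * ((1, .el 2) : M48) ^ j.1 * σ ^ k.1) x hx
      simp only [map_mul, map_pow]
      exact (((mem_cent.1 hg.1.2).pow_right _).mul_right ((mem_cent.1 hg.2).pow_right _)).mul_right (Commute.pow_right (h.cen _) _)
    have a4 := a1.trans (Nat.mul_dvd_mul_right (a2.trans (Nat.mul_dvd_mul_right (h.card_F ▸ card_dvd_of_le a3) 2)) 2)
    have a5 := h.card_F ▸ card_lt_of_lt k1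
    have a6 := PGrp.card_modEq_card_inf_centralizer (q := 3) (A := zpowers (Λ β)) (H := K)
      (isP (by rw [← map_pow, show β ^ 3 = 1 by decide +kernel, map_one])) (zpowers_le.2 k3)
    rw [show K ⊓ centralizer (zpowers (Λ β) : Set Γ) = zpowers (Λ σ) from le_antisymm
      (fun q hq => h.memZ.2 (fx q (k2 hq.1) (mul_inv_eq_iff_eq_mul.2 (hq.2 _ (mem_zpowers _)))))
      (zpowers_le.2 ⟨k1.le (mem_map_of_mem Λ (by decide +kernel)), fun y _ => h.cen y⟩),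
      Nat.card_zpowers, orderOf_eq_prime (p := 2) (by rw [sq, h.ss]) ((map_ne_one_iff Λ h.inj).2 (by decide))] at a6
    have := Nat.le_of_dvd (by norm_num) a4
    unfold Nat.ModEq at a6
    interval_cases _ : Nat.card K <;> omega
  have cN := c32 N (lt_of_le_not_ge FN h0) le_rfl ((normalizer_eq_top N).ge (mem_top _))
  let η := QuotientGroup.mk' (zpowers (Λ σ))
  have eZ : ∀ {x y}, η x = η y ↔ x = y ∨ x = y * Λ σ := fun {x y} => by
    rw [eq_comm, QuotientGroup.mk'_apply, QuotientGroup.mk'_apply, QuotientGroup.eq, h.memZ, inv_mul_eq_one, inv_mul_eq_iff_eq_mul, eq_comm]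
  have cF : ∀ x ∈ N, ∀ y ∈ F8.map Λ, Commute (η x) (η y) := by
    rintro x hx _ ⟨d, hd, rfl⟩
    exact mul_inv_eq_iff_eq_mul.1 (by rw [← map_inv, ← map_mul, ← map_mul]; exact eZ.2 (tr x hx d hd))
  have ab : ∀ x ∈ N, ∀ y ∈ N, Commute (η x) (η y) := fun x hx y hy => by
    by_cases hxF : x ∈ F8.map Λ
    · exact (cF y hy x hxF).symm
    have k : ∀ ε, orderOf (π (Λ ε)) = 3 → (η x * η (Λ ε)) ^ 3 = 1 := fun ε e => by
      have := h.cube' hF (c := x * Λ ε) (by rw [map_mul, show π x = 1 from hx, one_mul, e]) (one_mem _)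
      rw [map_one, mul_one] at this
      rw [← map_mul, ← map_pow]; exact (QuotientGroup.eq_one_iff _).2 this
    have k1 := h.c3.mem_D (k β o) (by
      have := k β⁻¹ (by rw [map_inv, map_inv, orderOf_inv, o]); rwa [map_inv, map_inv] at this)
    have k2 := eq_of_le_of_card_ge (inf_le_left : N ⊓ (D3 (η (Λ β)) (η x)).comap η ≤ N) (by
      rw [cN, c32 _ (lt_of_le_not_ge (le_inf FN fun f hf => mem_comap.2 (mem_D3.2 ⟨(cF x hx f hf).symm, ?_, ?_⟩)) fun e => hxF (e ⟨hx, k1⟩))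
        inf_le_left (mem_normalizer_of_cj_le (cj_le_iff.2 fun q hq => ⟨nb β q hq.1, ?_⟩))]
      · simpa only [map_mul, map_inv] using (cF _ (nb β x hx) f hf).symm
      · simpa only [map_mul, map_inv, inv_inv] using (cF _ (nb β⁻¹ x hx) f hf).symm
      · obtain ⟨q1, q2, q3⟩ := mem_D3.1 hq.2
        refine mem_comap.2 ?_
        rw [map_mul, map_mul, map_inv]
        exact mem_D3.2 ⟨(conj_inv_conj' _ _).subst (motive := Commute _) (q3.conj (η (Λ β))), q1.conj _, h.c3.conj_sq _ ▸ q2.conj (η (Λ β))⟩)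
    exact (mem_D3.1 (k2.ge hy).2).1.symm
  have cm : ∀ x ∈ N, ∀ y ∈ N, x * y = y * x ∨ x * y = y * x * Λ σ := fun x hx y hy => eZ.1 (by simpa using (ab x hx y hy).eq)
  have oc : ∀ x ∈ N, (∀ y ∈ N, x * y = y * x) → x = 1 ∨ x = Λ σ := fun x hx e => by
    obtain ⟨d, hd, rfl⟩ := h.memF fun d hd => e _ (FN (mem_map_of_mem Λ hd))
    rcases mv d hd with rfl | rfl | ⟨g, hg, e1⟩
    exacts [by simp, by simp, absurd (e g hg).symm e1]
  obtain ⟨g0, hg0, e0⟩ := ((mv (1, .el 1) (by decide +kernel)).resolve_left (by decide +kernel)).resolve_left (by decide +kernel)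
  refine FP.model (Q := N) (x := Λ β) ⟨⟨hs, (map_ne_one_iff Λ h.inj).2 (by decide), h.ss, fun x _ => h.cen x, oc, cm, fun x hx =>
    oc _ (mul_mem hx hx) fun y hy => ?_, g0, hg0, _, hF _ (by decide +kernel), e0⟩, ?_, by rw [h.cen]; simp, nb β, fx⟩ cN
    (fun l _ q hq => (MonoidHom.normal_ker π).conj_mem q hq l) (h.cen _) ?_ ?_ fun l _ => ?_
  · rcases cm x hx y hy with e | e
    · rw [mul_assoc, e, ← mul_assoc, e, mul_assoc]
    · rw [mul_assoc, e, ← mul_assoc, ← mul_assoc, e, mul_assoc _ (Λ σ), ← h.cen]; simp [mul_assoc, h.ss]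
  · rw [← map_mul, ← map_mul, show β * β * β = 1 by decide +kernel, map_one]
  · rw [← map_mul, show υ * υ = 1 by decide +kernel, map_one]
  · rw [← map_inv, ← map_inv, ← map_mul, ← map_mul, show υ * β * υ⁻¹ = β⁻¹ by decide +kernel]
  · have := (by decide +kernel : ∀ a b : Equiv.Perm (Fin 3), a * b * a⁻¹ = b⁻¹ → b ^ 3 = 1 → b ≠ 1 → ∀ c,
      ∃ k ∈ [1, b, b⁻¹, a, a * b, a * b⁻¹], c * k⁻¹ = 1) (π (Λ υ)) (π (Λ β)) (by
        simp only [← map_inv, ← map_mul, show υ * β * υ⁻¹ = β⁻¹ by decide +kernel]) (orderOf_dvd_iff_pow_eq_one.1 o.dvd)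
        (fun e => by simp [e] at o) (π l)
    simpa [N, MonoidHom.mem_ker] using this

omit hF in
theorem main : SylowIn 2 (D16.map Λ) ⊤ ∨ (∃ φ : HA →* Γ, Su φ (.el 16) ∧ φ (.el 16) = Λ σ ∧ φ (.el 32) = Λ υ) ∨
    IsConj (Λ υ) (Λ υ * Λ σ) := by
  haveI := h.nrmZ
  have cZ : Nat.card (zpowers (Λ σ)) = 2 := by
    rw [Nat.card_zpowers, orderOf_eq_prime (p := 2) (by rw [sq, h.ss]) ((map_ne_one_iff Λ h.inj).2 (by decide))]
  have k : ∀ (N : Subgroup (Γ ⧸ zpowers (Λ σ))) [N.Normal] {Y : Type} [Group Y] (e : (Γ ⧸ zpowers (Λ σ)) ⧸ N ≃* Y), ¬ 3 ∣ Nat.card N →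
      ∃ π : Γ →* Y, Function.Surjective π ∧ π (Λ σ) = 1 ∧ ¬ 3 ∣ Nat.card π.ker := fun N _ Y _ e hN => by
    refine ⟨e.toMonoidHom.comp ((QuotientGroup.mk' N).comp (QuotientGroup.mk' _)), e.surjective.comp
      ((QuotientGroup.mk'_surjective _).comp (QuotientGroup.mk'_surjective _)), ?_, ?_⟩
    · simp [(QuotientGroup.eq_one_iff (Λ σ)).2 (mem_zpowers _)]
    · rw [← MonoidHom.comap_ker, (MonoidHom.ker_eq_bot_iff _).2 e.injective, MonoidHom.comap_bot, ← MonoidHom.comap_ker,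
        QuotientGroup.ker_mk', Core.card_comap_mk', cZ]
      omega
  rcases h.c3.main with ⟨N, hN, -, h3, e | ⟨⟨e⟩⟩⟩ | ⟨N, hN, -, h2, ⟨e⟩⟩ | ⟨⟨e⟩⟩
  · obtain ⟨π, -, h2, h3⟩ := k N (mulEquivOfPrimeCardEq e (show Nat.card C3 = 3 by simp)) (Nat.prime_three.coprime_iff_not_dvd.1 h3.symm)
    have o := h.ord3 h3
    have : π (Λ υ) * π (Λ β) * (π (Λ υ))⁻¹ = (π (Λ β))⁻¹ := by
      simp only [← map_inv, ← map_mul, show υ * β * υ⁻¹ = β⁻¹ by decide +kernel]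
    rw [(by decide : ∀ a b : C3, a * b * a⁻¹ = b⁻¹ → b = 1) _ _ this] at o
    simp at o
  · obtain ⟨π, h1, h2, h3⟩ := k N e (Nat.prime_three.coprime_iff_not_dvd.1 h3.symm)
    exact (h.s3 h1 h2 h3).imp_left fun e => h.syl (Or.inl e)
  · obtain ⟨π, h1, h2, h3⟩ := k N (e.trans A60.equiv.symm) fun h3 => by
      obtain ⟨x, hx⟩ := exists_prime_orderOf_dvd_card' 3 h3
      have := orderOf_dvd_of_pow_eq_one (x := x) (Subtype.ext (h2 x x.2))
      rw [hx] at this; omega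
    exact (h.not_a5 h1 h2 h3).elim
  · refine Or.inl (h.syl (Or.inr ?_))
    rw [card_eq_card_quotient_mul_card_subgroup (zpowers (Λ σ)), Nat.card_congr e.toEquiv, card_psl7, cZ]

end LD

end Cfsg.Lib.Block.Nin
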