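import Cfsg.Agent.Lib.Block.RealEv
import Cfsg.Agent.Lib.Wal.Main
import Cfsg.Agent.Lib.JR.Alt

/-! # Simple groups with abelian Sylow `2`-subgroups have a real character of even degree -/

set_option autoImplicit false
set_option linter.unusedSectionVars false

namespace Cfsg.Lib.Block

open Cfsg Cfsg.Lib.Block Cfsg.Lib.Block2 Cfsg.Lib.Char Cfsg.Lib.Invol Cfsg.Lib.Linear Cfsg.Lib.Amalg Cfsg.Lib.Wal Cfsg.Lib.Gold Subgroup
open scoped ComplexConjugate

local notation "𝐂[" x "]" => centralizer ({x} : Set _)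

universe u
variable {G : Type u} [Group G] [Finite G] {M : Ideal AlgInt} [M.IsMaximal] {x t : G} {A E K H : Subgroup G}

/-- `x ≠ 1` is real and commutes with no involution. -/
def RealOdd (x : G) : Prop := x ≠ 1 ∧ IsConj x x⁻¹ ∧ ∀ u, orderOf u = 2 → ¬ Commute u x

theorem RealOdd.odd (h : RealOdd x) : Odd (Nat.card 𝐂[x]) := Nat.not_even_iff_odd.1 fun e => by
  obtain ⟨u, hu, h2⟩ := exists_two_mem_of_even e
  exact h.2.2 u h2 (mem_centralizer_singleton_iff.1 hu)

theorem realOdd_l2o (h : IsL2o G) : ∃ x : G, RealOdd x := by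
  obtain ⟨F, _, _, h1, h5, ⟨e⟩⟩ := h
  have h2 : (2 : F) ≠ 0 := fun e => by
    have := FiniteField.even_card_of_char_two (F := F) (by
      rw [ringChar.eq_iff]; exact CharTwo.of_one_ne_zero_of_two_eq_zero one_ne_zero e)
    omega
  let f : G ≃* LL F := e.trans (MonoidHom.ofInjective Matrix.ProjectiveSpecialLinearGroup.toPGL_injective)
  have ht : orderOf (Matrix.ProjGenLinGroup.mk (Matrix.GeneralLinearGroup.mkOfDetNeZero !![(0 : F), 1; 1, 0] (by simp))) = 2 :=
    (orderOf_pk_eq_two h2).2 (by simp [Matrix.trace_fin_two])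
  obtain ⟨w, w1, w2⟩ := exists_mem_tor_not_mem_LL h2 ht
  obtain ⟨s, s1, s2, s3⟩ := exists_not_mem_tor_LL h2 ht
  have hτ := orderOf_of_not_mem_tor h2 (s2.mul_left (commute_of_mem_tor w1)) fun e => s3 ((mul_mem_cancel_right w1).1 e)
  have hL : s * w ∉ LL F := fun e => w2 ((mul_mem_cancel_left s1).1 e)
  generalize s * w = τ at hτ hL
  obtain ⟨c, c1, c2⟩ := exists_gen_tor h2 hτ
  obtain ⟨c3, c4⟩ := c1.le (mem_zpowers c)
  obtain ⟨r, r1, r2, r3⟩ := exists_not_mem_tor_LL h2 hτ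
  have c5 : c ≠ 1 := fun e => by rw [e, orderOf_one, Nat.card_eq_fintype_card] at c2; omega
  have c6 : c * c ≠ 1 := fun e => (eq_of_mem_tor h2 hτ c3 e).elim c5 fun e => hL (e ▸ c4)
  refine ⟨f.symm ⟨c, c4⟩, fun e => c5 (congrArg Subtype.val (f.symm.map_eq_one_iff.1 e)), ?_, fun u hu hc => ?_⟩
  · rw [← map_inv]
    exact f.symm.toMonoidHom.map_isConj (isConj_iff.2 ⟨⟨r, r1⟩, Subtype.ext (conj_eq_inv_of_not_mem_tor h2 hτ r2 r3 c3)⟩)
  have h3 : (f u).1 * c = c * (f u).1 := by simpa using congrArg Subtype.val (hc.map f)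
  rcases eq_of_mem_tor h2 hτ (mem_tor_of_commute h2 c3 c6 (ne_one_of_two hτ) h3)
    (by rw [← coe_mul, ← map_mul, mul_self_of_two hu, map_one, coe_one]) with h | h
  · exact ne_one_of_two hu (f.map_eq_one_iff.1 (Subtype.ext h))
  · exact hL (h ▸ (f u).2)

theorem realOdd_se (hH : IsStronglyEmbedded H) : ∃ x : G, RealOdd x := by
  obtain ⟨t, t1, t2⟩ := se_exists_two hH
  obtain ⟨u, u1, u2⟩ := se_exists_two_not_mem hH
  have hi := left_inverts (mul_self_of_two t2) (mul_self_of_two u2)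
  refine ⟨t * u, fun e => u1 (eq_inv_of_mul_eq_one_right e ▸ inv_mem t1), isConj_iff.2 ⟨t, hi⟩, fun v hv hc => ?_⟩
  obtain ⟨j, j1, j2, j3⟩ := BS.exists_two_commute_of_normalizes (N := 𝐂[t * u]) (even_iff_two_dvd.2
    (hv ▸ orderOf_dvd_natCard _ (mem_centralizer_singleton_iff.2 hc))) (mul_self_of_two t2) (Core.mem_normalizer_of_conj_mem fun y hy => by
      have := (Commute.inv_right (mem_centralizer_singleton_iff.1 hy)).map (MulAut.conj t)
      rw [← hi] at this
      exact mem_centralizer_singleton_iff.2 (by simpa [mul_assoc, inv_of_two t2, ← mul_assoc t t, mul_self_of_two t2] using this.eq))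
  have := (j3.inv_right.mul_right (mem_centralizer_singleton_iff.1 j1)).symm
  rw [inv_mul_cancel_left] at this
  exact u1 (se_mem_of_commute hH j2 (se_mem_of_commute hH t2 t1 j3) this)

theorem exists_real_jr (hM : IsPModular 2 M) (h : JR A t E K) : ∃ χ ∉ principalBlock M G, cjI χ = χ := by
  classical
  haveI : Fact (Nat.Prime 2) := ⟨Nat.prime_two⟩
  haveI := Fintype.ofFinite 𝐂[t]
  obtain ⟨h1, h2, h3⟩ := JR.of_idp h.two h.prod
  have KE : K ≤ E := h.sup ▸ le_sup_left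
  obtain ⟨x, x1, x2, x3⟩ := realOdd_l2o h.l2
  have hx : RealOdd (inclusion KE x) := ⟨(map_ne_one_iff _ (inclusion_injective KE)).2 x1, map_inv (inclusion KE) x ▸ (inclusion KE).map_isConj x2, fun u hu hc => by
    have hu' : orderOf (u : G) = 2 := by simpa using hu
    obtain ⟨g, g1, g2⟩ := h.sylE.exists_le_conj (isPGroup_zpowers_of_orderOf (k := 1) hu') (zpowers_le.2 u.2)
    have : (u : G) ∈ K := ((cj_mono g inf_le_right).trans (cj_of_mem_normalizer (h.norm (h.prod.2.1 g1))).le) (g2 (mem_zpowers _))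
    exact x3 ⟨u, this⟩ (by simpa [← orderOf_coe] using hu') (Subtype.ext (congrArg (fun e : E => (e : G)) hc.eq))⟩
  have c4 : (Nat.card E).factorization 2 = 2 := Nat.pow_right_injective le_rfl (h.sylE.card_eq_pow.symm.trans h.four)
  obtain ⟨φ, φ1, φ2⟩ := exists_real_defect_zero hM c4.le hx.2.1 hx.odd
  have t2 := mul_self_of_two h.two
  have hm : ∀ g : 𝐂[t], (g : G) ∉ E → (g : G) * t ∈ E := fun g hg => (h3 g (mem_centralizer_singleton_iff.1 g.2)).resolve_left hg
  have mm : ∀ a b : 𝐂[t], (a : G) * b ∈ E ↔ ((a : G) ∈ E ↔ (b : G) ∈ E) := fun a b => by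
    by_cases ha : (a : G) ∈ E
    · simp [ha, mul_mem_cancel_left ha]
    by_cases hb : (b : G) ∈ E
    · simp [ha, hb, mul_mem_cancel_right hb]
    have := mul_mem (hm a ha) (hm b hb)
    rw [mul_assoc, ← mul_assoc t, ← mem_centralizer_singleton_iff.1 b.2, mul_assoc, t2, mul_one] at this
    simp [ha, hb, this]
  let s : 𝐂[t] →* ℂˣ := MonoidHom.mk' (fun g => if (g : G) ∈ E then 1 else -1) fun a b => by
    by_cases ha : (a : G) ∈ E <;> by_cases hb : (b : G) ∈ E <;> simp [mm, ha, hb]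
  let π : 𝐂[t] →* E := MonoidHom.mk' (fun g => if h : (g : G) ∈ E then ⟨g, h⟩ else ⟨g * t, hm g h⟩) fun a b => by
    have hb' := mem_centralizer_singleton_iff.1 b.2
    by_cases ha : (a : G) ∈ E <;> by_cases hb : (b : G) ∈ E <;> simp [mm, ha, hb, mul_assoc, ← mul_assoc t, ← hb', t2]
  have hπ : Function.Surjective π := fun e => ⟨⟨e, h.prod.2.1 e.2⟩, by simp [π]⟩
  have c8 : (Nat.card 𝐂[t]).factorization 2 ≤ 3 := by
    have := Nat.pow_right_injective le_rfl (h.syl.card_eq_pow.symm.trans h.card : _ = 2 ^ 3)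
    rw [card_top] at this
    exact this ▸ (Nat.factorization_le_iff_dvd Nat.card_pos.ne' Nat.card_pos.ne').2 (card_subgroup_dvd_card _) 2
  have nb : ∀ ψ : IrrCharacter 𝐂[t], ψ.1 1 = φ.1 1 → ψ ∉ principalBlock M 𝐂[t] := fun ψ e hψ => by
    have h4 := Small.height_add_two_le hM isPBlock_principalBlock hψ
    rw [blockDefect_eq, blockHeight_eq, minVal_principalBlock, charDegree_eq_of_apply_one (e.trans (irr_cast_deg φ).symm), φ1, c4] at h4
    omega
  have tE : π ⟨t, mem_centralizer_singleton_iff.2 rfl⟩ = 1 := by simp [π, h2, t2]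
  refine exists_real_of_section hM (ne_one_of_two h.two) ⟨1, h.two⟩ (ψ := ⟨_, φ.2.comp π hπ⟩) (ψ' := ⟨_, (φ.2.comp π hπ).linear_mul s⟩)
    (fun e => ?_) (Subtype.ext (funext fun g => congrArg (·.1 (π g)) φ2)) (Subtype.ext (funext fun g => ?_)) (nb _ (by simp))
    (nb _ (by simp)) fun g hg => ?_
  · have := congrArg (·.1 ⟨t, mem_centralizer_singleton_iff.2 rfl⟩) e
    simp only [tE, s, MonoidHom.mk'_apply, h2, if_false] at this
    exact φ.2.apply_one_ne_zero (by push_cast at this; linear_combination this / 2)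
  · have : conj (φ.1 (π g)) = φ.1 (π g) := congrArg (·.1 (π g)) φ2
    by_cases hg : (g : G) ∈ E <;> simp [cjI, s, hg, this]
  have g1 : (g : G) ∉ E := fun e => hg (by simp [s, e])
  have g2 : ¬ 2 ∣ orderOf (π g) := fun e => hg (by simp [Small.apply_eq_zero_of_defectZero Nat.prime_two φ1 e])
  have g3 := mem_centralizer_singleton_iff.1 g.2
  refine ⟨g * t, by rw [g3, ← mul_assoc, t2, one_mul], (Commute.symm g3).mul_right rfl, ⟨1, h.two⟩, ?_⟩
  simpa [π, g1, ← orderOf_coe] using g2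

theorem exists_real_even_of_comm [IsSimpleGroup G] (hM : IsPModular 2 M) (hG : ¬ IsMulCommutative G) (hS : Syl 2 A ⊤)
    (hc : IsMulCommutative A) : ∃ χ : IrrCharacter G, Even (charDegree χ.1) ∧ cjI χ = χ := by
  have r : (∃ x : G, RealOdd x) → ∃ χ : IrrCharacter G, Even (charDegree χ.1) ∧ cjI χ = χ := fun ⟨x, h⟩ =>
    exists_real_even hM h.1 h.2.1 h.odd
  rcases (walter_aux G inferInstance hG A hS hc).2 with h | h | ⟨t, E, K, h⟩
  exacts [r (realOdd_l2o h.2), r (realOdd_se h.1), (exists_real_jr hM h).imp fun χ h => ⟨Nat.not_odd_iff_even.1 fun e => h.1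
    ((Agent.S4483.result M hM).1 χ (fun g => Complex.conj_eq_iff_im.1 (congrArg (·.1 g) h.2)) e), h.2⟩]

/-- If all `2`-elements are involutions, the power map fixing `2`-elements and inverting odd elements is inversion. -/
theorem pow_eq_inv_of_el (el : ∀ x : G, GW.Two x → x * x = 1) {k : ℕ} (h1 : ∀ g : G, (∃ j : ℕ, orderOf g = 2 ^ j) → g ^ k = g)
    (h2 : ∀ g : G, Odd (orderOf g) → g ^ k = g⁻¹) (g : G) : g ^ k = g⁻¹ := by
  obtain ⟨z, y, rfl, hc, ⟨j, hj⟩, hy⟩ := exists_isPPart Nat.prime_two g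
  rw [hc.mul_pow, h1 z ⟨j, hj⟩, h2 y (Nat.odd_iff.2 (Nat.two_dvd_ne_zero.1 hy)), mul_inv_rev, ← hc.inv_inv.eq,
    inv_eq_of_mul_eq_one_right (el z ⟨j, hj ▸ pow_orderOf_eq_one z⟩)]

end Cfsg.Lib.Block
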