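import Cfsg.Agent.Lib.Block.Column
import Cfsg.Agent.Lib.Small.BT
import Cfsg.Agent.S4483

/-! # Real characters modulo two: real characters of even degree, of defect zero, in the principal `2`-block -/

set_option autoImplicit false
set_option linter.unusedSectionVars false

namespace Cfsg.Lib.Block

open Cfsg Cfsg.Lib.Block Cfsg.Lib.Block2 Cfsg.Lib.Char Cfsg.Lib.Invol Subgroup
open scoped ComplexConjugate

local notation "𝐂[" x "]" => centralizer ({x} : Set _)

variable {G : Type*} [Group G] [Finite G] {M : Ideal AlgInt} [M.IsMaximal] {x t : G}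

/-- The complex conjugate character. -/
def cjI (χ : IrrCharacter G) : IrrCharacter G := ⟨fun g => conj (χ.1 g), χ.2.conj⟩

theorem cjI_cjI (χ : IrrCharacter G) : cjI (cjI χ) = χ := Subtype.ext (funext fun _ => Complex.conj_conj _)

theorem cjI_deg (χ : IrrCharacter G) : charDegree (cjI χ).1 = charDegree χ.1 :=
  charDegree_eq_of_apply_one ((conj_apply_one χ.2.isCharacter).trans (irr_cast_deg χ).symm)

theorem conj_of_real (hx : IsConj x x⁻¹) (χ : IrrCharacter G) : conj (χ.1 x) = χ.1 x := by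
  rw [← χ.2.isCharacter.apply_inv, ← χ.2.isClassFunction.eq_of_isConj hx]

theorem exists_real_of_sum (hM : IsPModular 2 M) (U : IrrCharacter G → Prop) [DecidablePred U] (hU : ∀ χ, U χ → U (cjI χ))
    (hx : IsConj x x⁻¹) (h : ¬ MemLocalIdeal M (∑ χ with U χ, χ.1 x)) : ∃ χ, U χ ∧ cjI χ = χ := by
  haveI := charP_resField hM
  by_contra! hn
  have hi := fun χ : IrrCharacter G => χ.2.isCharacter.memLocalRing (M := M) x
  refine h ((red_eq_zero_iff (memLocalRing_sum fun χ _ => hi χ)).1 ?_)
  rw [red_sum fun χ _ => hi χ]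
  refine Finset.sum_involution (fun χ _ => cjI χ) (fun χ _ => ?_) (fun χ hχ _ => hn χ (by simpa using hχ))
    (fun χ hχ => by simpa using hU χ (by simpa using hχ)) fun χ _ => cjI_cjI χ
  rw [show (cjI χ).1 x = χ.1 x from conj_of_real hx χ]
  exact CharTwo.add_self_eq_zero _

theorem sum_not_mem (hM : IsPModular 2 M) (hx : IsConj x x⁻¹) (ho : Odd (Nat.card 𝐂[x])) :
    ¬ MemLocalIdeal M (∑ χ : IrrCharacter G, χ.1 x) := fun h => by
  haveI := charP_resField hM
  haveI : Fact (Nat.Prime 2) := ⟨Nat.prime_two⟩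
  have hi := fun χ : IrrCharacter G => χ.2.isCharacter.memLocalRing (M := M) x
  have h1 := h.red_eq_zero
  rw [red_sum fun χ _ => hi χ] at h1
  refine ho.not_two_dvd_nat ((memLocalIdeal_natCast_iff hM _).1 ((red_eq_zero_iff (memLocalRing_natCast _)).1 ?_))
  rw [← column_orthogonality_of_isConj (IsConj.refl x)]
  simp only [conj_of_real hx]
  rw [red_sum fun χ _ => (hi χ).mul (hi χ), Finset.sum_congr rfl fun χ _ => (red_mul (hi χ) (hi χ)).trans (sq _).symm, ← sum_pow_char, h1]
  simp

/-- A real element with centralizer of odd order gives a real character of even degree. -/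
theorem exists_real_even (hM : IsPModular 2 M) (x1 : x ≠ 1) (hx : IsConj x x⁻¹) (ho : Odd (Nat.card 𝐂[x])) :
    ∃ χ : IrrCharacter G, Even (charDegree χ.1) ∧ cjI χ = χ := by
  haveI := Fintype.ofFinite G
  refine exists_real_of_sum hM _ (fun χ h => (cjI_deg χ).symm ▸ h) hx fun h => sum_not_mem hM hx ho ?_
  have hi := fun χ : IrrCharacter G => χ.2.isCharacter.memLocalRing (M := M) x
  have e : ∑ χ : IrrCharacter G, χ.1 x = ∑ χ : IrrCharacter G with Even (charDegree χ.1), χ.1 x + ∑ χ : IrrCharacter G,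
      ((if Even (charDegree χ.1) then 0 else 1) - charDegree χ.1 : ℤ) * χ.1 x := by
    have := sum_degree_mul_apply x
    rw [regChar_of_ne x1] at this
    rw [Finset.sum_filter, ← Finset.sum_add_distrib, ← sub_zero (∑ χ : IrrCharacter G, χ.1 x)]
    conv_lhs => rw [← this, ← Finset.sum_sub_distrib]
    exact Finset.sum_congr rfl fun χ _ => by split_ifs <;> simp [irr_cast_deg] <;> ring
  rw [e]
  refine h.add (memLocalIdeal_sum fun χ _ => ((memLocalIdeal_intCast_iff hM _).2 ?_).mul_right (hi χ))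
  simp only [Nat.even_iff]
  split_ifs <;> omega

theorem sum_mem_of_val (hM : IsPModular 2 M) (U : IrrCharacter G → Prop) [DecidablePred U] (hU : IsBlockUnion M {χ | U χ})
    (hx : IsConj x x⁻¹) {m : ℕ} (hm : ∀ χ, U χ → (charDegree χ.1).factorization 2 = m) (h : m < (Nat.card G).factorization 2) :
    MemLocalIdeal M (∑ χ with U χ, χ.1 x) := by
  have h1 : MemLocalRing M (blockCoeff {χ | U χ} x) := coeff_idem {χ | U χ} x ▸ hU.isInt_idem x
  have h2 : MemLocalIdeal M ((Nat.card G : ℂ) / (2 ^ m : ℕ)) :=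
    memLocalIdeal_natDiv hM Nat.card_pos.ne' (by positivity) (by rwa [Nat.prime_two.factorization_pow, Finsupp.single_eq_same])
  have e : ∑ χ with U χ, χ.1 x = (Nat.card G : ℂ) / (2 ^ m : ℕ) * blockCoeff {χ | U χ} x +
      ∑ χ with U χ, (1 - (ordCompl[2] (charDegree χ.1) : ℕ) : ℤ) * χ.1 x := by
    rw [blockCoeff, finsum_mem_irr, ← mul_assoc, Finset.mul_sum]
    simp only [Set.mem_setOf_eq, ← Finset.sum_add_distrib, conj_of_real hx]
    refine Finset.sum_congr rfl fun χ hχ => ?_
    have := Nat.ordProj_mul_ordCompl_eq_self (charDegree χ.1) 2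
    rw [hm χ (by simpa using hχ)] at this ⊢
    have h3 : (Nat.card G : ℂ) ≠ 0 := by exact_mod_cast Nat.card_pos.ne'
    rw [← irr_cast_deg, Int.cast_sub, Int.cast_natCast]
    generalize charDegree χ.1 / 2 ^ m = k at *
    rw [← this]; push_cast; field_simp; ring
  rw [e]
  refine (h2.mul_right h1).add (memLocalIdeal_sum fun χ _ => ((memLocalIdeal_intCast_iff hM _).2 ?_).mul_right
    (χ.2.isCharacter.memLocalRing x))
  have := Nat.not_dvd_ordCompl Nat.prime_two χ.2.charDegree_ne_zero
  omega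

/-- In a group of even order the principal `2`-block has a non-principal real character, if all its degrees are odd or not. -/
theorem exists_real_principal (hM : IsPModular 2 M) (h : Even (Nat.card G)) :
    ∃ χ ∈ principalBlock M G, χ ≠ principalIrr G ∧ cjI χ = χ := by
  classical
  haveI : Fact (Nat.Prime 2) := ⟨Nat.prime_two⟩
  suffices ∃ χ, (χ ∈ principalBlock M G ∧ χ ≠ principalIrr G) ∧ cjI χ = χ by simpa [and_assoc] using this
  refine exists_real_of_sum hM _ (x := 1) (fun χ h => ⟨conj_mem_principalBlock hM ⟨χ, h.1⟩, fun e => h.2 ?_⟩) (by simp) fun h1 => ?_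
  · rw [← cjI_cjI χ, e]; exact Subtype.ext (funext fun _ => map_one _)
  have h2 := (isPBlock_principalBlock (M := M) (G := G)).memLocalRing_blockCoeff 1
  have h3 : (Nat.card G : ℂ) ≠ 0 := by exact_mod_cast Nat.card_pos.ne'
  have e : (1 : ℂ) = Nat.card G * blockCoeff (principalBlock M G) 1 - ∑ χ with χ ∈ principalBlock M G ∧ χ ≠ principalIrr G, χ.1 1 +
      ∑ χ with χ ∈ principalBlock M G, (charDegree χ.1 - charDegree χ.1 * charDegree χ.1 : ℤ) := by
    rw [blockCoeff, finsum_mem_irr, mul_inv_cancel_left₀ h3, ← Finset.filter_filter, Finset.filter_ne',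
      Finset.sum_erase_eq_sub (by simpa using principalIrr_mem)]
    simp [← irr_cast_deg, principalIrr, charDegree_one]
  refine not_memLocalIdeal_one (M := M) ?_
  rw [e]
  refine ((((memLocalIdeal_natCast_iff hM _).2 h.two_dvd).mul_right h2).sub h1).add ((memLocalIdeal_intCast_iff hM _).2
    (Finset.dvd_sum fun χ _ => ?_))
  have := Int.even_mul_pred_self (charDegree χ.1)
  exact (dvd_neg.2 this.two_dvd).trans (dvd_of_eq (by ring))

/-- If the order is not divisible by `8`, a real element with centralizer of odd order gives a real character of defect zero. -/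
theorem exists_real_defect_zero (hM : IsPModular 2 M) (h8 : (Nat.card G).factorization 2 ≤ 2) (hx : IsConj x x⁻¹)
    (ho : Odd (Nat.card 𝐂[x])) : ∃ χ : IrrCharacter G, (charDegree χ.1).factorization 2 = (Nat.card G).factorization 2 ∧ cjI χ = χ := by
  classical
  haveI : Fact (Nat.Prime 2) := ⟨Nat.prime_two⟩
  haveI := Fintype.ofFinite G
  refine exists_real_of_sum hM _ (fun χ h => (cjI_deg χ).symm ▸ h) hx fun h => sum_not_mem hM hx ho ?_
  have hv : ∀ χ ψ : IrrCharacter G, ψ ∈ blockOf M χ.1 → (charDegree ψ.1).factorization 2 = minVal 2 (blockOf M χ.1) := fun χ ψ hψ =>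
    (blockHeight_eq_zero_iff_eq hψ).1 (by_contra fun e => by
      have := Small.height_add_two_le hM (isPBlock_blockOf χ) hψ e
      rw [blockDefect_eq] at this
      omega)
  rw [← Finset.sum_fiberwise_of_maps_to (t := Finset.range ((Nat.card G).factorization 2 + 1))
    (g := fun χ : IrrCharacter G => (charDegree χ.1).factorization 2)
    fun χ _ => Finset.mem_range.2 (Nat.lt_succ_of_le χ.2.factorization_charDegree_le), Finset.sum_range_succ]
  refine (memLocalIdeal_sum fun m hm => sum_mem_of_val hM _ (fun χ hχ ψ e => ?_) hx (fun _ => id) (Finset.mem_range.1 hm)).add h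
  exact (hv χ ψ e).trans ((hv χ χ (mem_blockOf_self χ)).symm.trans hχ)

theorem sum_inner_mul {I H : Type*} [Group H] [Fintype H] (s : Finset I) (f : I → H → ℂ) (α : H → ℂ) :
    ∑ i ∈ s, classInner (f i) α * conj (classInner (f i) α) =
      (Nat.card H : ℂ)⁻¹ * (Nat.card H : ℂ)⁻¹ * ∑ g, ∑ h, conj (α g) * α h * ∑ i ∈ s, f i g * conj (f i h) := by
  simp only [classInner_def, map_mul, map_sum, map_inv₀, map_natCast, Complex.conj_conj, Finset.mul_sum, Finset.sum_mul]
  rw [Finset.sum_comm]
  conv_rhs => rw [Finset.sum_comm]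
  refine Finset.sum_congr rfl fun h _ => ?_
  rw [Finset.sum_comm]
  exact Finset.sum_congr rfl fun g _ => Finset.sum_congr rfl fun i _ => by ring

theorem sum_inner_under {p : ℕ} [Fact p.Prime] (hM : IsPModular p M) {B : Set (IrrCharacter G)} [DecidablePred (· ∈ B)]
    (hB : IsBlockUnion M B) [Fintype 𝐂[t]] [DecidablePred (· ∈ under M 𝐂[t] B)] {α : 𝐂[t] → ℂ} (hα : ∀ g, α g ≠ 0 → IsPPart p (g : G) t) :
    ∑ χ with χ ∈ B, classInner (fun g : 𝐂[t] => χ.1 g) α * conj (classInner (fun g : 𝐂[t] => χ.1 g) α) =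
      ∑ ξ with ξ ∈ under M 𝐂[t] B, classInner ξ.1 α * conj (classInner ξ.1 α) := by
  rw [sum_inner_mul, sum_inner_mul]
  refine congrArg _ (Finset.sum_congr rfl fun g _ => Finset.sum_congr rfl fun h _ => ?_)
  by_cases h1 : α g = 0
  · simp [h1]
  by_cases h2 : α h = 0
  · simp [h2]
  rw [← finsum_mem_irr, ← finsum_mem_irr, finsum_mul_conj_eq_centralizer hM hB (hα g h1) (hα h h2)]

/-- A real difference of two characters of `C(t)` supported on the section of `t` lifts to real characters. -/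
theorem exists_real_of_section {p : ℕ} [Fact p.Prime] (hM : IsPModular p M) (t1 : t ≠ 1) (ht : ∃ k, orderOf t = p ^ k)
    {ψ ψ' : IrrCharacter 𝐂[t]} (hne : ψ ≠ ψ') (h1 : cjI ψ = ψ) (h2 : cjI ψ' = ψ') (h3 : ψ ∉ principalBlock M 𝐂[t])
    (h4 : ψ' ∉ principalBlock M 𝐂[t]) (hα : ∀ g, ψ.1 g ≠ ψ'.1 g → IsPPart p (g : G) t) :
    ∃ χ ∉ principalBlock M G, cjI χ = χ := by
  classical
  haveI := Fintype.ofFinite 𝐂[t]
  have hg := ψ.2.isGeneralizedCharacter.sub ψ'.2.isGeneralizedCharacter
  have hα' : ∀ g, (ψ.1 - ψ'.1) g ≠ 0 → IsPPart p (g : G) t := fun g h => hα g (sub_ne_zero.1 h)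
  choose f hf using fun χ : IrrCharacter G => (χ.2.isGeneralizedCharacter.restrict 𝐂[t]).classInner_int hg
  have s0 := sum_inner_under hM (isPBlock_principalBlock (G := G)).isBlockUnion hα'
  have s1 := sum_inner_under hM (isBlockUnion_univ (G := G)) hα'
  simp only [hf, map_intCast, (allInd_centralizer_singleton hM ht).under_principalBlock hM] at s0 s1
  rw [Finset.sum_eq_zero (s := Finset.univ.filter (· ∈ principalBlock M 𝐂[t])) fun ξ hξ => by
    rw [classInner_sub_right, classInner_irr, classInner_irr, if_neg fun e => h3 (by simpa [e] using hξ),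
      if_neg fun e => h4 (by simpa [e] using hξ)]; simp] at s0
  rw [Finset.filter_true_of_mem fun _ _ => Set.mem_univ _, Finset.filter_true_of_mem fun ξ _ => by
    show lam M _ _ = 1; rw [eB_univ, res_one, ξ.2.lam_one], Finset.sum_congr rfl (s₁ := (Finset.univ : Finset (IrrCharacter 𝐂[t])))
    (g := fun ξ => (if ξ = ψ then 1 else 0) + if ξ = ψ' then 1 else 0) fun ξ _ => by
      rw [classInner_sub_right, classInner_irr, classInner_irr]
      split_ifs with e1 e2
      exacts [absurd (e1.symm.trans e2) hne, by simp, by simp, by simp], Finset.sum_add_distrib] at s1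
  have s2 : ∑ χ, f χ * f χ = 2 := by simp only [Finset.sum_ite_eq', Finset.mem_univ, if_true] at s1; exact_mod_cast s1
  have s3 : ∑ χ with χ ∈ principalBlock M G, f χ * f χ = 0 := by exact_mod_cast s0
  have s4 : ∑ χ, f χ * charDegree χ.1 = 0 := Int.cast_injective (α := ℂ) (by
    simp only [Int.cast_sum, Int.cast_mul, Int.cast_natCast, ← hf, irr_cast_deg, classInner_def, mul_assoc, ← Finset.mul_sum, Finset.sum_mul]
    rw [Finset.sum_comm, Finset.sum_eq_zero fun g _ => ?_, mul_zero, Int.cast_zero]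
    by_cases h : (ψ.1 - ψ'.1) g = 0
    · simp [h]
    haveI := Fintype.ofFinite G
    rw [Finset.sum_congr rfl (g := fun χ => conj ((ψ.1 - ψ'.1) g) * (χ.1 1 * χ.1 g)) fun _ _ => by ring, ← Finset.mul_sum,
      sum_degree_mul_apply, regChar_of_ne fun e => t1 (by simpa [e] using (hα' g h).mem_zpowers hM.1), mul_zero])
  have s5 : ∀ χ, f (cjI χ) = f χ := fun χ => Int.cast_injective (α := ℂ) (by
    rw [← map_intCast (starRingEnd ℂ) (f χ), ← hf, ← hf, conj_classInner, ← classInner_conj_conj]
    refine congrArg₂ _ (funext fun g => ?_) (funext fun g => Complex.conj_conj _)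
    rw [Pi.sub_apply, map_sub]
    exact congrArg₂ _ (congrArg (·.1 g) h1) (congrArg (·.1 g) h2))
  obtain ⟨χ, -, hχ⟩ := Finset.exists_ne_zero_of_sum_ne_zero (s2.trans_ne two_ne_zero)
  refine ⟨χ, fun h => hχ ((Finset.sum_eq_zero_iff_of_nonneg fun _ _ => mul_self_nonneg _).1 s3 χ (by simpa using h)), by_contra fun e => ?_⟩
  have hm : cjI χ ∈ Finset.univ.erase χ := by simpa using e
  rw [← Finset.add_sum_erase _ _ (Finset.mem_univ χ), ← Finset.add_sum_erase _ _ hm, s5] at s2 s4
  have := mul_self_pos.2 (mul_self_ne_zero.1 hχ)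
  have s6 := (Finset.sum_eq_zero_iff_of_nonneg fun ξ _ => mul_self_nonneg (f ξ)).1 (le_antisymm
    (by omega : ∑ ξ ∈ (Finset.univ.erase χ).erase (cjI χ), f ξ * f ξ ≤ 0) (Finset.sum_nonneg fun _ _ => mul_self_nonneg _))
  rw [Finset.sum_eq_zero fun ξ hξ => by rw [mul_self_eq_zero.1 (s6 ξ hξ), zero_mul], cjI_deg, add_zero, ← two_mul] at s4
  simp [mul_self_ne_zero.1 hχ, χ.2.charDegree_ne_zero] at s4

end Cfsg.Lib.Block
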