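import Cfsg.Agent.Lib.Gsm.Main
import Cfsg.Agent.Lib.Golay.Iso
import Cfsg.Agent.Lib.Linear.SmallIso
import Cfsg.Agent.Lib.Hall.ClassSize

/-! A strongly closed `2⁴` with automizer `A₅` in a group with Sylow `2`-subgroups of type `A₈`. -/

set_option autoImplicit false
set_option linter.unusedSectionVars false

namespace Cfsg.Lib.Block.Scn
open Subgroup Cfsg.Lib.Core Cfsg.Lib.BG1 Cfsg.Lib.Invol Cfsg.Lib.Layer Cfsg.Lib.Gold Cfsg.Lib.Gsm
open Cfsg.Lib.Amalg hiding le_cent_symm op_top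
open Cfsg.Lib.GW hiding Ctx
open Cfsg.Lib.Wal (PC CB)
open scoped Cfsg.Lib.Wal commutatorElement

section Calc
open Cfsg.Lib.Golay Equiv
set_option maxRecDepth 100000

noncomputable abbrev c8 : Coding (Fin 8) := finCoding 8 (by norm_num)
def g8 : List ℕ := [0x0706050402030001, 0x0706050401000302, 0x0706040503020001, 0x0302010007060504]

theorem inH_g8 : ∀ g ∈ g8, c8.InH (alternatingGroup (Fin 8)) g := by
  have k : ∀ (g : ℕ) (σ : Perm (Fin 8)), g < 2 ^ 64 → (∀ a : Fin 8, app g a = σ a) → Perm.sign σ = 1 →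
      c8.InH (alternatingGroup (Fin 8)) g := fun g σ h1 h2 h3 =>
    let ⟨e1, e2⟩ := c8.dec_eq_of (σ := σ) h1 h2; ⟨e1, e2 ▸ h3⟩
  simp only [g8, List.mem_cons, List.not_mem_nil, or_false, forall_eq_or_imp, forall_eq]
  exact ⟨k _ (swap 0 1 * swap 2 3) (by norm_num) (by decide +kernel) (by simp),
    k _ (swap 0 2 * swap 1 3) (by norm_num) (by decide +kernel) (by simp),
    k _ (swap 0 1 * swap 4 5) (by norm_num) (by decide +kernel) (by simp),
    k _ (swap 0 4 * swap 1 5 * swap 2 6 * swap 3 7) (by norm_num) (by decide +kernel) (by simp)⟩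

theorem a8_center (P : Sylow 2 (alternatingGroup (Fin 8))) :
    Nat.card P = 64 ∧ ∀ x ∈ center P, ∀ y ∈ center P, x ≠ 1 → y ≠ 1 → x = y := by
  have hv : ∀ g ∈ g8, c8.Valid g := fun g hg => (inH_g8 g hg).1
  have h1 : Nat.card (c8.gen g8) = 64 := Coding.card_gen hv (M := 61) (d := 6) (a := 2) (by decide +kernel)
  obtain ⟨σ, e⟩ := sylow_conjTo (Coding.gen_le inH_g8) (k := 6) (m := 315) h1 Cfsg.Lib.Linear.card_A8 (by norm_num) P
  have k : ∀ x ∈ center P, x ≠ 1 → (e.equiv x : Perm (Fin 8)) = c8.dec 0x0607040502030001 := fun x hx x1 => by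
    obtain ⟨y, y1, y2, y3⟩ := Coding.forall_mem_gen hv (M := 61) (d := 6) (a := 2) (q := fun y => bor (Nat.beq y (idN 8))
      (bor (Nat.beq y 0x0607040502030001) (anyL g8 fun g => Bool.not (Nat.beq (mulN 8 g y) (mulN 8 y g)))))
      (by decide +kernel) (e.equiv x).2
    simp only [bor_eq, Bool.or_eq_true, beq_iff, anyL_iff, Bool.not_eq_true', beq_false_iff] at y3
    rcases y3 with rfl | rfl | ⟨g, g1, g2⟩
    · exact absurd ((map_eq_one_iff _ e.equiv.injective).1 (Subtype.ext (y2.symm.trans Coding.dec_one))) x1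
    · exact y2.symm
    · refine absurd ((((hv g g1).mul y1).dec_inj (y1.mul (hv g g1))).1 ?_) g2
      obtain ⟨u, hu⟩ := e.equiv.surjective ⟨_, (Coding.inH_gen hv g g1).2⟩
      rw [(hv g g1).dec_mul y1, y1.dec_mul (hv g g1), y2, show c8.dec g = e.equiv u from congrArg Subtype.val hu.symm,
        ← coe_mul, ← coe_mul, ← map_mul, ← map_mul, mem_center_iff.1 hx u]
  exact ⟨(e.card_eq).trans h1, fun x hx y hy x1 y1 => e.equiv.injective (Subtype.ext ((k x hx x1).trans (k y hy y1).symm))⟩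

abbrev A5 := alternatingGroup (Fin 5)
def u5 : A5 := ⟨swap 1 4 * swap 2 3, by simp⟩
def g5 : A5 := ⟨swap 0 1 * swap 1 2 * swap 2 3 * swap 3 4, by simp⟩

theorem a5_conj : ∀ x : A5, x * x = 1 → x ≠ 1 → ∃ g, g * x * g⁻¹ = u5 := by decide +kernel
theorem a5_five : u5 * (g5 * u5 * g5⁻¹) ≠ 1 ∧ (u5 * (g5 * u5 * g5⁻¹)) ^ 5 = 1 ∧ u5 * u5 = 1 ∧ u5 ≠ 1 := by decide +kernel
theorem card_a5 : Nat.card A5 = 60 := by rw [nat_card_alternatingGroup]; simp [Nat.factorial]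

end Calc

universe u

variable {G : Type u} [Group G] [Finite G] {A B S T K : Subgroup G} {a b g x y z : G}

theorem normal_of_no_cm (c : SA A) (h : ∀ K, ¬ Cm A K ⊤) : (A ⊔ pPrimeCore 2 G).Normal := by
  have ok : Ok A ⊤ := ⟨le_top, fun K hK h1 => c.ok gsThm (fun Y _ _ _ => kn_aux _ Y rfl) le_top hK h1⟩
  refine normalizer_eq_top_iff.1 (top_le_iff.1 (c.gen ok ?_ (fun K hK h1 => (h K (ok.cm hK h1)).elim) ?_))
  · exact (opp_top Nat.prime_two).le.trans (le_sup_right.trans le_normalizer)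
  · exact fun g hg => cj_eq_self_iff.1 (by rw [cj_sup, cj_of_mem_normalizer hg.2, cj_normal])

/-- for an involution `y` acting freely on the elementary abelian group `B`, the involutions of `B y` are conjugate -/
theorem conj_of_free (hB : ∀ a ∈ B, a * a = 1) (hy : y ∈ 𝐍(B)) (y2 : y * y = 1)
    (h : Nat.card ↥(B ⊓ 𝐂[y]) * Nat.card ↥(B ⊓ 𝐂[y]) ≤ Nat.card B) (ha : a ∈ B) (h1 : Commute a y) :
    ∃ b ∈ B, b * y * b⁻¹ = a * y := by
  have inv : ∀ a ∈ B, a⁻¹ = a := fun a ha => inv_eq_of_mul_eq_one_left (hB a ha)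
  have com : ∀ a ∈ B, ∀ b ∈ B, a * b = b * a := fun a ha b hb => by
    have := inv _ (mul_mem ha hb)
    rwa [mul_inv_rev, inv a ha, inv b hb, eq_comm] at this
  have yi : y⁻¹ = y := inv_eq_of_mul_eq_one_left y2
  let f : B →* G := MonoidHom.mk' (fun b => b * (y * b * y⁻¹)) fun b c => by
    have := com _ c.2 _ (conj_mem_norm hy b.2)
    rw [coe_mul, ← conj_mul, mul_assoc, mul_assoc (b : G), ← mul_assoc (c : G), this, mul_assoc (y * b * y⁻¹)]
  have h2 : f.range ≤ B ⊓ 𝐂[y] := by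
    rintro _ ⟨b, rfl⟩
    refine mem_inf.2 ⟨mul_mem b.2 (conj_mem_norm hy b.2), mem_cent.2 ?_⟩
    show b * (y * b * y⁻¹) * y = y * (b * (y * b * y⁻¹))
    nth_rw 2 [com _ b.2 _ (conj_mem_norm hy b.2)]
    rw [yi, mul_assoc, mul_assoc, y2, mul_one, ← mul_assoc y, ← mul_assoc y, ← mul_assoc y, y2, one_mul, mul_assoc]
  have h3 : f.ker.map B.subtype ≤ B ⊓ 𝐂[y] := by
    rintro _ ⟨b, hb, rfl⟩
    refine mem_inf.2 ⟨b.2, mem_cent.2 ?_⟩
    have : y * b * y⁻¹ = b := (eq_inv_of_mul_eq_one_right hb).trans (inv _ b.2)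
    exact (mul_inv_eq_iff_eq_mul.1 this).symm
  have h4 := card_le_of_le h3
  rw [card_map_subtype] at h4
  have h5 := f.ker.card_mul_index
  rw [index_ker] at h5
  have h6 : Nat.card ↥(B ⊓ 𝐂[y]) ≤ Nat.card f.range := Nat.le_of_mul_le_mul_left
    (h.trans (h5 ▸ Nat.mul_le_mul_right _ h4)) Nat.card_pos
  obtain ⟨b, hb⟩ := (eq_of_le_of_card_ge h2 h6).ge (mem_inf.2 ⟨ha, mem_cent.2 h1⟩)
  refine ⟨b, b.2, ?_⟩
  rw [← hb, inv _ b.2]
  show _ = b * (y * b * y⁻¹) * y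
  group

/-- `G / B O(G) ≅ A₅` with `B ≅ 2⁴` -/
structure L5 (B : Subgroup G) (φ : G →* A5) : Prop where
  sq : ∀ a ∈ B, a * a = 1
  card : Nat.card B = 16
  nrm : B.Normal
  surj : Function.Surjective φ
  ker : φ.ker = B ⊔ pPrimeCore 2 G

namespace L5
variable {φ : G →* A5} (l : L5 B φ)
include l

theorem pg : IsPGroup 2 B := .of_card (n := 4) l.card
theorem top : ⊤ ≤ 𝐍(B) := (normalizer_eq_top_iff.2 l.nrm).ge
theorem le (hT : Syl 2 T ⊤) : B ≤ T := hT.le_of_normal l.pg le_top l.top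
theorem syl : Syl 2 B φ.ker := by
  rw [l.ker, sup_comm]
  exact syl_sup_of_not_dvd l.pg (le_top.trans (normalizer_eq_top _).ge) (not_dvd_card_pPrimeCore Nat.prime_two)
theorem mem (hx : Two x) (h : φ x = 1) : x ∈ B :=
  zpowers_le.1 (l.syl.le_of_normal_syl (le_top.trans l.top) hx.isPGroup (zpowers_le.2 h))

theorem card_syl (hT : Syl 2 T ⊤) : Nat.card T = 64 := by
  have h1 := card_map_mul_card_inf_ker φ T
  have h2 := (hT.map_top l.surj).card_eq_pow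
  rw [card_top, card_a5, show Nat.factorization 60 2 = 2 by rw [Nat.factorization_def _ Nat.prime_two]; decide +kernel] at h2
  rw [l.syl.eq_of_le _ (le_inf l.syl.le (l.le hT)) inf_le_left (hT.isPGroup.to_le inf_le_right), h2, l.card] at h1
  exact h1.symm

theorem ker_le : φ.ker ≤ 𝐂(B) := by
  rw [l.ker]
  refine sup_le (fun a ha => mem_centS.2 fun b hb => ?_) fun o ho => mem_centS.2 fun b hb =>
    (commute_of_normal_of_disjoint _ _ l.nrm inferInstance (disjoint_iff.2 (inf_eq_bot_of_coprime ?_)) b o hb ho).symm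
  · have inv : ∀ a ∈ B, a⁻¹ = a := fun a ha => inv_eq_of_mul_eq_one_left (l.sq a ha)
    have := inv _ (mul_mem ha hb)
    rwa [mul_inv_rev, inv a ha, inv b hb, eq_comm] at this
  · rw [l.card]
    exact ((coprime_card_pPrimeCore 2 G).pow_right 4).symm

variable (hT : Syl 2 T ⊤) (hz : ∀ x ∈ T, x ∈ 𝐂(T) → x ≠ 1 → x = z)
include hT hz

theorem cent_le : 𝐂(B) ≤ φ.ker := by
  haveI := l.nrm
  rcases ((inferInstance : 𝐂(B).Normal).map φ l.surj).eq_bot_or_eq_top with h | h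
  · exact (Subgroup.map_eq_bot_iff _).1 h
  have h1 : 𝐂(B) = ⊤ := by rw [← comap_map_eq_self l.ker_le, h, comap_top]
  have h2 : (B : Set G) ⊆ {1, z} := fun a ha => or_iff_not_imp_left.2 fun e =>
    hz a (l.le hT ha) (mem_centS.2 fun t _ => (mem_centS.1 (h1.ge (mem_top t)) a ha).symm) e
  have h3 := (Set.ncard_le_ncard h2).trans (Set.ncard_insert_le _ _)
  rw [Set.ncard_singleton, ← Nat.card_coe_set_eq] at h3
  exact absurd (l.card.symm.trans_le h3) (by norm_num)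

theorem fpf (h1 : φ g ≠ 1) (h5 : φ g ^ 5 = 1) (ha : a ∈ B) (h : Commute a g) : a = 1 := by
  haveI : Fact (Nat.Prime 5) := ⟨by norm_num⟩
  obtain ⟨s, ⟨i, s1⟩, y, ⟨j, y1⟩, e, s2, y2⟩ := Hall.exists_pPart (p := 5) (by norm_num) g
  have h2 : φ y = 1 := by
    have := (pow_gcd_eq_one (a := φ y) (m := orderOf y) (n := 5)).2 ⟨by rw [← map_pow, pow_orderOf_eq_one, map_one],
      by rw [← y1, map_zpow, ← zpow_natCast, ← zpow_mul, mul_comm, zpow_mul, zpow_natCast, h5, one_zpow]⟩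
    rwa [y2, pow_one] at this
  have h3 := PGrp.card_modEq_card_inf_centralizer s2 (le_top.trans l.top)
  have h4 := card_dvd_of_le (inf_le_left : B ⊓ 𝐂(zpowers s) ≤ B)
  have h6 : Nat.card ↥(B ⊓ 𝐂(zpowers s)) ≠ 16 := fun e' => h1 (by
    have := eq_of_le_of_card_ge (inf_le_left : B ⊓ 𝐂(zpowers s) ≤ B) (by rw [e', l.card])
    rw [e, map_mul, h2, mul_one]
    exact l.cent_le hT hz (mem_centS.2 fun b hb => (mem_centS.1 (this.ge hb).2 s (mem_zpowers s)).symm))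
  rw [l.card] at h3 h4
  have h7 : Nat.card ↥(B ⊓ 𝐂(zpowers s)) = 1 := by
    have := Nat.le_of_dvd (by norm_num) h4
    unfold Nat.ModEq at h3
    generalize Nat.card ↥(B ⊓ 𝐂(zpowers s)) = n at *
    interval_cases n <;> simp_all
  refine mem_bot.1 ((card_eq_one.1 h7).le (mem_inf.2 ⟨ha, mem_centS.2 ?_⟩))
  rintro _ ⟨k, rfl⟩
  exact (show Commute a s by rw [← s1]; exact h.zpow_right i).zpow_right k

theorem five_dvd (ha : a ∈ B) (h1 : a ≠ 1) : 5 ∣ 𝐂[a].index := by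
  haveI : Fact (Nat.Prime 5) := ⟨by norm_num⟩
  rw [← index_map_eq _ l.surj fun x hx => mem_cent.2 (mem_centS.1 (l.ker_le hx) a ha)]
  have := (𝐂[a].map φ).card_mul_index
  refine ((Nat.Prime.dvd_mul Fact.out).1 (by rw [this, card_a5]; norm_num)).resolve_left fun h => ?_
  obtain ⟨⟨_, g, g1, rfl⟩, g2⟩ := exists_prime_orderOf_dvd_card' 5 h
  replace g2 : orderOf (φ g) = 5 := (orderOf_coe _).trans g2
  exact h1 (l.fpf hT hz (fun e => by simp [e] at g2) (orderOf_dvd_iff_pow_eq_one.1 g2.dvd) ha (mem_cent.1 g1).symm)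

theorem two_dvd (ha : a ∈ B) (h1 : a ≠ 1) (h : ¬ IsConj z a) : 2 ∣ 𝐂[a].index := by_contra fun e => by
  obtain ⟨R, hR⟩ := exists_syl 2 𝐂[a]
  have h2 := hR.of_le_of_not_dvd le_top (by rwa [relIndex_top_right])
  obtain ⟨g, -, rfl⟩ := h2.exists_conj hT
  refine h (hz _ (conj_mem_cj g (l.le h2 ha)) (cj_centralizer g R ▸ conj_mem_cj g (mem_centS.2 fun r hr =>
    (mem_cent.1 (hR.le hr)).symm)) (by simpa using h1) ▸ (isConj_conj g a).symm)

theorem two_classes : ∃ b, ∀ a ∈ B, a ≠ 1 → IsConj z a ∨ IsConj b a := by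
  by_cases h : ∃ b ∈ B, b ≠ 1 ∧ ¬ IsConj z b
  swap
  · exact ⟨1, fun a ha h1 => Or.inl (by_contra fun e => h ⟨a, ha, h1, e⟩)⟩
  obtain ⟨b, b1, b2, b3⟩ := h
  refine ⟨b, fun a ha h1 => or_iff_not_imp_left.2 fun e => by_contra fun e' => ?_⟩
  have k : ∀ a ∈ B, a ≠ 1 → ¬ IsConj z a → 10 ≤ {y | IsConj a y}.ncard ∧ {y | IsConj a y} ⊆ B := fun a ha h1 e =>
    ⟨by
      rw [← Nat.card_coe_set_eq, Set.coe_setOf, card_isConj_eq_index]
      exact Nat.le_of_dvd (Nat.pos_of_ne_zero index_ne_zero_of_finite) (Nat.Coprime.mul_dvd_of_dvd_of_dvd (m := 2) (n := 5)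
        (by norm_num) (l.two_dvd hT hz ha h1 e) (l.five_dvd hT hz ha h1)),
    fun y hy => let ⟨g, hg⟩ := isConj_iff.1 hy; hg ▸ l.nrm.conj_mem a ha g⟩
  have h2 := Set.ncard_le_ncard (Set.union_subset (k a ha h1 e).2 (k b b1 b2 b3).2)
  have h3 : Disjoint {y | IsConj a y} {y | IsConj b y} := Set.disjoint_left.2 fun y y1 y2 => e' (IsConj.trans y2 (IsConj.symm y1))
  rw [Set.ncard_union_eq h3, ← Nat.card_coe_set_eq (B : Set G)] at h2
  have := (k a ha h1 e).1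
  have := (k b b1 b2 b3).1
  have := h2.trans_eq l.card
  omega

theorem free (h : φ y = u5) : Nat.card ↥(B ⊓ 𝐂[y]) * Nat.card ↥(B ⊓ 𝐂[y]) ≤ Nat.card B := by
  obtain ⟨g, hg⟩ := l.surj g5
  haveI := l.nrm
  have h1 := Hall.card_mul_card_le (inf_le_left : B ⊓ 𝐂[y] ≤ B) (cj_le_of_le_of_mem_normalizer (inf_le_left : B ⊓ 𝐂[y] ≤ B)
    (l.top (mem_top g)))
  have e : φ (y * (g * y * g⁻¹)) = u5 * (g5 * u5 * g5⁻¹) := by simp only [map_mul, map_inv, h, hg]
  have h2 : B ⊓ 𝐂[y] ⊓ cj g (B ⊓ 𝐂[y]) = ⊥ := eq_bot_iff.2 fun a ha => by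
    rw [cj_inf, cj_centralizer_singleton] at ha
    exact l.fpf hT hz (e ▸ a5_five.1) (e ▸ a5_five.2.1) ha.1.1 ((mem_cent.1 ha.1.2).mul_right (mem_cent.1 ha.2.2))
  rwa [h2, card_bot, mul_one, card_cj] at h1

theorem outer (hx : x * x = 1) (x1 : φ x ≠ 1) (hy : y * y = 1) (y1 : φ y ≠ 1) : IsConj x y := by
  have k : ∀ x, x * x = 1 → φ x ≠ 1 → ∃ x', IsConj x x' ∧ x' * x' = 1 ∧ φ x' = u5 := fun x hx x1 => by
    obtain ⟨g, e⟩ := a5_conj (φ x) (by rw [← map_mul, hx, map_one]) x1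
    obtain ⟨g, rfl⟩ := l.surj g
    exact ⟨_, isConj_conj g x, by rw [conj_mul, hx, mul_one, mul_inv_cancel], by rw [map_mul, map_mul, map_inv, e]⟩
  obtain ⟨x, x2, hx, x1⟩ := k x hx x1
  obtain ⟨y, y2, hy, y1⟩ := k y hy y1
  refine x2.trans (IsConj.trans ?_ y2.symm)
  obtain ⟨s, s1, o, o1, s2, o2, e⟩ := exists_two_odd (x * y)
  have h1 : zpowers (x * y) ≤ φ.ker := zpowers_le.2 (by rw [MonoidHom.mem_ker, map_mul, x1, y1, a5_five.2.2.1])
  have h2 : ∀ w ∈ zpowers (x * y), x * w * x⁻¹ = w⁻¹ := by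
    rintro _ ⟨i, rfl⟩
    exact conj_zpow_of_inv (left_inverts hx hy) i
  have s3 := l.mem s2 (h1 s1)
  have h3 : x * o * (x * o) = 1 := by
    rw [← mul_assoc, ← inv_eq_of_mul_eq_one_left hx, inv_eq_of_mul_eq_one_left hx]
    nth_rw 2 [← inv_eq_of_mul_eq_one_left hx]
    rw [h2 o o1, inv_mul_cancel]
  have h4 : Commute s o := by
    obtain ⟨i, rfl⟩ := s1
    obtain ⟨j, rfl⟩ := o1
    exact Commute.zpow_zpow_self _ _ _
  have h5 := (commute_of_inverts (h2 s s1) (l.sq s s3)).mul_right h4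
  obtain ⟨b, -, hb⟩ := conj_of_free l.sq (l.top (mem_top _)) h3 (l.free hT hz (by rw [map_mul, x1, h1 o1, mul_one])) s3 h5
  refine (isConj_of_odd hx h3 (by rwa [← mul_assoc, hx, one_mul])).trans (isConj_iff.2 ⟨b, ?_⟩)
  rw [hb, h5.eq, mul_assoc, ← h4.eq, ← e, ← mul_assoc, hx, one_mul]

end L5

theorem a8_type (S : Sylow 2 G) (P : Sylow 2 (alternatingGroup (Fin 8))) (e : S ≃* P)
    (h3 : Nat.card {c : ConjClasses G // ∃ x ∈ c.carrier, orderOf x = 2} = 3) (hA : ∀ a ∈ A, a * a = 1)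
    {φ : 𝐍(A) →* A5} (l : L5 (A.subgroupOf 𝐍(A)) φ) : (A ⊔ pPrimeCore 2 G).Normal := by
  obtain ⟨T, hT⟩ := exists_syl 2 (⊤ : Subgroup 𝐍(A))
  obtain ⟨p1, p2⟩ := a8_center P
  have hU : Syl 2 (T.map 𝐍(A).subtype) ⊤ := (syl_top S).of_card_ge (hT.isPGroup.map _) le_top
    (by rw [card_map_subtype, l.card_syl hT, Nat.card_congr e.toEquiv, p1])
  obtain ⟨g, -, hg⟩ := (syl_top S).exists_conj hU
  let f : T ≃* P := (T.equivMapOfInjective _ 𝐍(A).subtype_injective).trans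
    (((MulEquiv.subgroupCongr hg).symm.trans (cjEquiv g _).symm).trans e)
  obtain ⟨z, hz⟩ : ∃ z, ∀ x ∈ T, x ∈ 𝐂(T) → x ≠ 1 → x = z := by
    have k : ∀ x (hx : x ∈ T), x ∈ 𝐂(T) → x ≠ 1 → f ⟨x, hx⟩ ∈ center P ∧ f ⟨x, hx⟩ ≠ 1 := fun x hx h1 h2 =>
      ⟨mem_center_iff.2 fun u => by
        obtain ⟨u, rfl⟩ := f.surjective u
        rw [← map_mul, ← map_mul]
        exact congrArg f (Subtype.ext (mem_centS.1 h1 u u.2).eq.symm),
      fun e => h2 (congrArg Subtype.val ((map_eq_one_iff _ f.injective).1 e))⟩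
    by_cases h : ∃ z ∈ T, z ∈ 𝐂(T) ∧ z ≠ 1
    · obtain ⟨z, z1, z2, z3⟩ := h
      exact ⟨z, fun x x1 x2 x3 => congrArg Subtype.val (f.injective
        (p2 _ (k x x1 x2 x3).1 _ (k z z1 z2 z3).1 (k x x1 x2 x3).2 (k z z1 z2 z3).2))⟩
    · exact ⟨1, fun x x1 x2 x3 => (h ⟨x, x1, x2, x3⟩).elim⟩
  have c : SA A := by
    refine sa_of_closed hU hA ⟨fun a ha => ⟨⟨a, le_normalizer ha⟩, l.le hT ha, rfl⟩, fun a ha g hg => by_contra fun h => ?_⟩
    obtain ⟨x, -, hx⟩ := hg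
    obtain ⟨b, hb⟩ := l.two_classes hT hz
    have x2 : x * x = 1 := Subtype.ext (by
      rw [coe_mul, show (x : G) = g * a * g⁻¹ from hx, conj_mul, hA a ha, mul_one, mul_inv_cancel, coe_one])
    have x1 : φ x ≠ 1 := fun e => h (hx ▸ l.mem ⟨1, by rw [pow_one, pow_two, x2]⟩ e)
    have k : ∀ a ∈ A, a ≠ 1 → IsConj (z : G) a ∨ IsConj (b : G) a := fun a ha h1 =>
      (hb ⟨a, le_normalizer ha⟩ ha fun e => h1 (congrArg Subtype.val e)).imp 𝐍(A).subtype.map_isConj 𝐍(A).subtype.map_isConj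
    have h1 : {c : ConjClasses G | ∃ x ∈ c.carrier, orderOf x = 2} ⊆ {ConjClasses.mk (z : G), ConjClasses.mk (b : G)} := by
      rintro _ ⟨y, y1, y2⟩
      rw [← ConjClasses.mem_carrier_iff_mk_eq.1 y1]
      obtain ⟨u, w, -, hw⟩ := Wal.exists_conj_mem hU (Two.of_two y2)
      have w0 : IsConj (w : G) y := (show (w : G) = _ from hw) ▸ (isConj_conj u y).symm
      have w1 := (orderOf_of_isConj w0).trans y2
      suffices IsConj (z : G) w ∨ IsConj (b : G) w from this.imp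
        (fun e => ConjClasses.mk_eq_mk_iff_isConj.2 (e.trans w0).symm) fun e => ConjClasses.mk_eq_mk_iff_isConj.2 (e.trans w0).symm
      rw [orderOf_coe] at w1
      by_cases w2 : φ w = 1
      · exact k w (l.mem (Two.of_two w1) w2) fun e => ne_one_of_two w1 (Subtype.ext e)
      have w3 : IsConj a w := (isConj_conj g a).trans (hx ▸ 𝐍(A).subtype.map_isConj (l.outer hT hz x2 x1 (mul_self_of_two w1) w2))
      exact (k a ha fun e => h (by simp [e])).imp (·.trans w3) (·.trans w3)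
    have h2 := (Set.ncard_le_ncard h1).trans (Set.ncard_insert_le _ _)
    rw [Set.ncard_singleton, ← Nat.card_coe_set_eq] at h2
    exact absurd (h3.symm.trans_le h2) (by norm_num)
  refine normal_of_no_cm c fun K h => ?_
  obtain ⟨V, t, tv⟩ := c.exists_tv h
  have h1 : (K.subgroupOf 𝐍(A)).map φ = ⊤ := by
    refine (((subnormalIn_top_iff.1 h.pc.sn).subgroupOf.map l.surj).eq_bot_or_top_of_isSimpleGroup inferInstance).resolve_left
      fun e => ?_
    have t1 := l.ker_le ((Subgroup.map_eq_bot_iff _).1 e (show (⟨t, tv.nA⟩ : 𝐍(A)) ∈ K.subgroupOf _ from tv.mem))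
    obtain ⟨v, v1, w, w1, v2, w2, e⟩ := tv.nc
    obtain ⟨i, hi⟩ := tv.tr v v1 v2 w w1 w2
    have : Commute t v := congrArg Subtype.val (mem_centS.1 t1 ⟨v, le_normalizer (tv.le v1)⟩ (tv.le v1)).eq
    exact e (by rw [← hi, (this.pow_left i).eq, mul_inv_cancel_right])
  obtain ⟨d, d1, d2⟩ := h1.ge (mem_top (u5 * (g5 * u5 * g5⁻¹)))
  have h2 : ∀ a ∈ A, a ∈ CB K → a = 1 := fun a ha h1 => congrArg Subtype.val
    (l.fpf hT hz (a := ⟨a, le_normalizer ha⟩) (d2 ▸ a5_five.1) (d2 ▸ a5_five.2.1) ha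
      (Subtype.ext (mul_inv_eq_iff_eq_mul.1 (c.fix h d1 d.2 ha h1)).symm))
  obtain ⟨y, y1, y2⟩ := h1.ge (mem_top u5)
  obtain ⟨s, s1, o, o1, s2, o2, e⟩ := exists_two_odd y
  have o3 : φ o = 1 := by
    obtain ⟨i, rfl⟩ := o1
    refine Two.eq_one ⟨1, ?_⟩ (o2.of_dvd_nat (orderOf_map_dvd φ _))
    rw [map_zpow, y2, pow_one, ← zpow_natCast, ← zpow_mul, mul_comm, zpow_mul, zpow_natCast, pow_two, a5_five.2.2.1, one_zpow]
  refine a5_five.2.2.2 ?_
  rw [← y2, e, map_mul, o3, mul_one]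
  refine l.cent_le hT hz (mem_centS.2 fun a ha => Subtype.ext ?_)
  have := h2 _ (mul_mem (conj_mem_norm s.2 ha) (inv_mem ha))
    (c.two_cent h (zpowers_le.2 y1 s1) s.2 (s2.map 𝐍(A).subtype) a ha)
  exact mul_inv_eq_iff_eq_mul.1 (mul_inv_eq_one.1 this)

end Cfsg.Lib.Block.Scn
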