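import Cfsg.Agent.Lib.Block.ScnA
import Cfsg.Agent.Lib.Golay.Cls
import Mathlib.Algebra.Ring.BooleanRing

/-! A model `Q5` of `T / Z(T)` for a Sylow `2`-subgroup `T ≅ UT₅(2)` of `M₂₄`. -/

set_option autoImplicit false
set_option linter.unusedSectionVars false
set_option maxRecDepth 100000

namespace Cfsg.Lib.Block.Scn
open Subgroup Cfsg.Lib.Core Cfsg.Lib.BG1 Cfsg.Lib.Invol Cfsg.Lib.Golay MulAction
open Cfsg.Lib.Amalg hiding le_cent_symm op_top
open Cfsg.Lib.GW hiding Ctx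
open scoped commutatorElement

section Aut
variable {V : Type*} [Finite V]

theorem odd_eq_bot [CommGroup V] (hV : ∀ a : V, a * a = 1) {O S : Subgroup (MulAut V)} (hO : Odd (Nat.card O))
    (hS : IsPGroup 2 S) (hn : S ≤ 𝐍(O)) (h : ∀ a, (∀ s ∈ S, s a = a) → ∀ o ∈ O, o a = a) : O = ⊥ := by
  classical
  letI := Fintype.ofFinite O
  let T : V →* V := MonoidHom.mk' (fun a => ∏ o : O, (o : MulAut V) a) fun a b => by simp [Finset.prod_mul_distrib]
  have h1 : ∀ s ∈ S, ∀ a, T (s a) = s (T a) := fun s hs a => by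
    show ∏ o : O, (o : MulAut V) (s a) = s (∏ o : O, (o : MulAut V) a)
    rw [map_prod]
    refine (Fintype.prod_equiv (O.normalizerMonoidHom ⟨s, hn hs⟩).toEquiv _ _ fun o => ?_).symm
    show s ((o : MulAut V) a) = (s * o * s⁻¹) (s a)
    simp
  have h2 : T.ker = ⊥ := by_contra fun e => by
    let U : SubMulAction S V := ⟨T.ker, fun s a ha => by
      show T ((s : MulAut V) a) = 1
      rw [h1 s s.2, show T a = 1 from ha, map_one]⟩
    obtain ⟨u, u1, u2⟩ := (T.ker.bot_or_exists_ne_one).resolve_left e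
    have h3 : 2 ∣ Nat.card U := two_of_mul_self (hV u) u2 ▸ T.ker.orderOf_dvd_natCard u1
    obtain ⟨b, b1, b2⟩ := hS.exists_fixed_point_of_prime_dvd_card_of_fixed_point U h3 (a := ⟨1, T.ker.one_mem⟩)
      fun s => Subtype.ext (map_one (s : MulAut V))
    have h4 : T b = b.1 ^ Nat.card O := by
      show ∏ o : O, (o : MulAut V) b = _
      rw [Finset.prod_congr rfl fun (o : O) _ => h b (fun s hs => congrArg Subtype.val (b1 ⟨s, hs⟩)) o o.2, Finset.prod_const,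
        Finset.card_univ, Nat.card_eq_fintype_card]
    obtain ⟨k, hk⟩ := hO
    rw [show T b = 1 from b.2, hk, pow_succ, pow_mul, pow_two, hV, one_pow, one_mul] at h4
    exact b2 (Subtype.ext h4)
  refine eq_bot_iff.2 fun o ho => MulEquiv.ext fun a => (MonoidHom.ker_eq_bot_iff T).1 h2 ?_
  exact Fintype.prod_equiv (Equiv.mulRight (⟨o, ho⟩ : O)) _ _ fun _ => rfl

variable [Group V] {O : Subgroup (MulAut V)} {σ τ : MulAut V} {w : V}

/-- `[V, σ] ∩ [V, τ] = ⟨w⟩` and `[V, σ, τ] = 1` -/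
def Pw (σ τ : MulAut V) (w : V) : Prop := (∃ a, w = a * σ a) ∧ (∃ a, w = a * τ a) ∧ (∀ a, τ (a * σ a) = a * σ a) ∧
  ∀ a b, a * σ a = b * τ b → a * σ a = 1 ∨ a * σ a = w

theorem Pw.le (h : Pw σ τ w) (hw : w ≠ 1) (hO : Odd (Nat.card O)) (h2 : orderOf τ = 2) (hn : τ ∈ 𝐍(O)) (hc : Commute τ σ) :
    O ⊓ 𝐂[σ] ≤ stabilizer (MulAut V) w := by
  obtain ⟨⟨a, ha⟩, ⟨b, hb⟩, h3, h4⟩ := h
  have k : ∀ {β ρ : MulAut V} {a : V}, Commute β ρ → β (a * ρ a) = β a * ρ (β a) := fun {β ρ a} e => by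
    rw [map_mul, ← MulAut.mul_apply, e.eq, MulAut.mul_apply]
  rw [← coprime_cent_prod (A := zpowers τ) (K := O ⊓ 𝐂[σ]) (zpowers_le.2 (cj_eq_self_iff.1 (by
    rw [cj_inf, cj_of_mem_normalizer hn, cj_centralizer_singleton, hc.eq, mul_inv_cancel_right])))
    (by rw [Nat.card_zpowers, h2]; exact Nat.coprime_two_left.2 (hO.of_dvd_nat (card_dvd_of_le inf_le_left)))
    (Or.inl inferInstance)]
  refine sup_le (commutator_le.2 fun β hβ z hz => ?_) fun β hβ => ?_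
  · have e : ∀ a, z (a * σ a) = a * σ a := fun a => (zpowers_le (H := stabilizer (MulAut V) (a * σ a))).2 (h3 a) hz
    show β (z (β⁻¹ (z⁻¹ w))) = w
    have e1 : z⁻¹ w = w := by rw [ha]; nth_rw 1 [← e a]; exact MulAut.inv_apply_self _ _ _
    rw [e1, ha, k (mem_cent.1 hβ.2).inv_left, e, ← k (mem_cent.1 hβ.2).inv_left]
    exact MulAut.apply_inv_self _ _ _
  · have e := k (a := a) (mem_cent.1 hβ.1.2)
    rw [← ha] at e
    refine ((e ▸ h4 _ (β b) (by rw [← e, hb, k (mem_centS.1 hβ.2 τ (mem_zpowers τ))])).resolve_left ?_ : β w = w)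
    simpa using hw

theorem fix_w (h : Kl σ τ) (hw : w ≠ 1) (hO : Odd (Nat.card O)) (h1 : σ ∈ 𝐍(O)) (h2 : τ ∈ 𝐍(O)) (p1 : Pw σ τ w)
    (p2 : Pw τ σ w) (p3 : Pw (σ * τ) τ w) : O ≤ stabilizer (MulAut V) w :=
  h.gen hO h1 h2 (p1.le hw hO h.hb h2 h.comm) (p2.le hw hO h.ha h1 h.comm.symm) (p3.le hw hO h.hb h2 h.mul'.comm.symm)

end Aut

def xr (a b : Bool) : Bool := Bool.rec b (Bool.rec true false b) a
local infixl:65 " ⊕₂ " => xr
local infixl:70 " ⊗₂ " => band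
theorem xr_eq (a b : Bool) : a ⊕₂ b = a + b := by cases a <;> cases b <;> rfl
theorem nd_eq (a b : Bool) : a ⊗₂ b = a * b := by cases a <;> cases b <;> rfl

/-- `UT₅(2) / Z`; the fields are the entries `12, 23, 34, 45, 13, 24, 35, 14, 25` -/
@[ext] structure Q5 where
  (a b c d e f g h i : Bool)

namespace Q5
noncomputable section
def mul (x y : Q5) : Q5 := ⟨x.a ⊕₂ y.a, x.b ⊕₂ y.b, x.c ⊕₂ y.c, x.d ⊕₂ y.d, x.e ⊕₂ y.e ⊕₂ x.a ⊗₂ y.b,
  x.f ⊕₂ y.f ⊕₂ x.b ⊗₂ y.c, x.g ⊕₂ y.g ⊕₂ x.c ⊗₂ y.d, x.h ⊕₂ y.h ⊕₂ x.a ⊗₂ y.f ⊕₂ x.e ⊗₂ y.c,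
  x.i ⊕₂ y.i ⊕₂ x.b ⊗₂ y.g ⊕₂ x.f ⊗₂ y.d⟩
def inv (x : Q5) : Q5 := ⟨x.a, x.b, x.c, x.d, x.e ⊕₂ x.a ⊗₂ x.b, x.f ⊕₂ x.b ⊗₂ x.c, x.g ⊕₂ x.c ⊗₂ x.d,
  x.h ⊕₂ x.a ⊗₂ (x.f ⊕₂ x.b ⊗₂ x.c) ⊕₂ x.e ⊗₂ x.c, x.i ⊕₂ x.b ⊗₂ (x.g ⊕₂ x.c ⊗₂ x.d) ⊕₂ x.f ⊗₂ x.d⟩
instance : Mul Q5 := ⟨mul⟩
instance : Inv Q5 := ⟨inv⟩
instance : One Q5 := ⟨⟨false, false, false, false, false, false, false, false, false⟩⟩
instance : DecidableEq Q5 := fun _ _ => decidable_of_iff _ Q5.ext_iff.symm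
instance (p : Q5 → Prop) [DecidablePred p] : Decidable (∀ x, p x) :=
  decidable_of_iff (∀ a b c d e f g h i, p ⟨a, b, c, d, e, f, g, h, i⟩) ⟨fun h _ => h .., fun h _ _ _ _ _ _ _ _ _ => h _⟩
instance : Group Q5 := Group.ofLeftAxioms
  (fun x y z => by
    show mul (mul x y) z = mul x (mul y z)
    ext <;> simp only [mul, xr_eq, nd_eq] <;> ring)
  (by decide +kernel) (by decide +kernel)

def eqv : Q5 ≃ (Bool × Bool × Bool × Bool × Bool × Bool) × Bool × Bool × Bool where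
  toFun x := ((x.a, x.d, x.e, x.g, x.h, x.i), x.b, x.c, x.f)
  invFun x := ⟨x.1.1, x.2.1, x.2.2.1, x.1.2.1, x.1.2.2.1, x.2.2.2, x.1.2.2.2.1, x.1.2.2.2.2.1, x.1.2.2.2.2.2⟩
instance : Fintype Q5 := .ofEquiv _ eqv.symm
theorem card : Nat.card Q5 = 512 := by rw [Nat.card_congr eqv]; simp

def A0 : Subgroup Q5 where
  carrier := {x | x.b = false ∧ x.c = false ∧ x.f = false}
  mul_mem' {x y} hx hy := by
    show x.b ⊕₂ y.b = false ∧ x.c ⊕₂ y.c = false ∧ x.f ⊕₂ y.f ⊕₂ x.b ⊗₂ y.c = false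
    rw [hx.1, hx.2.1, hx.2.2, hy.1, hy.2.1, hy.2.2]; decide
  one_mem' := ⟨rfl, rfl, rfl⟩
  inv_mem' {x} hx := by
    show x.b = false ∧ x.c = false ∧ x.f ⊕₂ x.b ⊗₂ x.c = false
    rw [hx.1, hx.2.1, hx.2.2]; decide
instance : A0.Normal := ⟨fun ⟨_, _, _, _, _, _, _, _, _⟩ ⟨h1, h2, h3⟩ ⟨_, b, c, _, _, f, _, _, _⟩ => by
  cases h1; cases h2; cases h3; cases b <;> cases c <;> cases f <;> exact ⟨rfl, rfl, rfl⟩⟩
instance : DecidablePred (· ∈ A0) := fun x => inferInstanceAs (Decidable (x.b = false ∧ x.c = false ∧ x.f = false))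
instance (p : Q5 → Prop) [DecidablePred p] : Decidable (∀ x ∈ A0, p x) :=
  decidable_of_iff (∀ a d e g h i, p ⟨a, false, false, d, e, false, g, h, i⟩)
    ⟨fun h ⟨_, _, _, _, _, _, _, _, _⟩ ⟨h1, h2, h3⟩ => by cases h1; cases h2; cases h3; exact h ..,
      fun h _ _ _ _ _ _ => h _ ⟨rfl, rfl, rfl⟩⟩
def dd (b c f : Bool) : Q5 := ⟨false, b, c, false, false, f, false, false, false⟩
abbrev D (x : Q5) : Q5 := dd x.b x.c x.f
def cnt (p : Q5 → Prop) [DecidablePred p] : ℕ := (Finset.univ.filter fun x => x ∈ A0 ∧ p x).card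
theorem card_eq {H : Subgroup Q5} (p : Q5 → Prop) [DecidablePred p] (h : ∀ x, x ∈ H ↔ x ∈ A0 ∧ p x) : Nat.card H = cnt p := by
  rw [cnt, ← Fintype.card_subtype, ← Nat.card_eq_fintype_card]
  exact Nat.card_congr (Equiv.subtypeEquivRight h)

variable {a x y z n m : Q5} {B : Subgroup Q5}

theorem sq : ∀ a ∈ A0, a * a = 1 := by decide +kernel
theorem inv_eq (h : a ∈ A0) : a⁻¹ = a := inv_eq_of_mul_eq_one_left (sq a h)
theorem com (ha : a ∈ A0) (hx : x ∈ A0) : Commute a x := by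
  have := inv_eq (mul_mem ha hx)
  rwa [mul_inv_rev, inv_eq ha, inv_eq hx, eq_comm] at this
theorem cardA : Nat.card A0 = 64 := (card_eq (fun _ => True) fun _ => (and_iff_left trivial).symm).trans (by decide +kernel)
theorem dec : ∀ y : Q5, y * (D y)⁻¹ ∈ A0 := by decide +kernel
theorem cj_D (ha : a ∈ A0) (y : Q5) : y * a * y⁻¹ = D y * a * (D y)⁻¹ := by
  calc _ = y * (D y)⁻¹ * (D y * a * (D y)⁻¹) * (y * (D y)⁻¹)⁻¹ := by group
    _ = _ := by rw [(com (dec y) (Normal.conj_mem inferInstance a ha _)).eq, mul_inv_cancel_right]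
theorem com_D (ha : a ∈ A0) : Commute a y ↔ a * D y = D y * a := by
  rw [commute_iff_eq, eq_comm, ← mul_inv_eq_iff_eq_mul, cj_D ha, mul_inv_eq_iff_eq_mul, eq_comm]

theorem c16' : ∀ b c f, dd b c f ∉ A0 → cnt (fun a => a * dd b c f = dd b c f * a) ≤ 16 ∧
  (dd b c f * dd b c f ∈ A0 → cnt (fun a => a * dd b c f = dd b c f * a) = 16) := by decide +kernel
theorem c16 (hx : x ∉ A0) : Nat.card ↥(A0 ⊓ 𝐂[x]) ≤ 16 ∧ (x * x ∈ A0 → Nat.card ↥(A0 ⊓ 𝐂[x]) = 16) := by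
  rw [card_eq (fun a => a * D x = D x * a) fun a => and_congr_right fun ha => mem_cent.trans (com_D ha)]
  exact c16' _ _ _ hx
theorem c8' : ∀ b c f b' c' f', dd b c f ∉ A0 → dd b' c' f' ∉ A0 → (dd b c f)⁻¹ * dd b' c' f' ∉ A0 →
  cnt (fun a => a * dd b c f = dd b c f * a ∧ a * dd b' c' f' = dd b' c' f' * a) ≤ 8 := by decide +kernel
theorem c8 (hx : x ∉ A0) (hy : y ∉ A0) (h : x⁻¹ * y ∉ A0) : Nat.card ↥(A0 ⊓ 𝐂[x] ⊓ 𝐂[y]) ≤ 8 := by
  rw [card_eq (fun a => a * D x = D x * a ∧ a * D y = D y * a) fun a => and_assoc.trans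
    (and_congr_right fun ha => and_congr (mem_cent.trans (com_D ha)) (mem_cent.trans (com_D ha)))]
  exact c8' _ _ _ _ _ _ hx hy h
theorem q1' : ∀ b c f, dd b c f * dd b c f ∈ A0 → ∀ b' c' f', dd b' c' f' * dd b c f * (dd b' c' f')⁻¹ * dd b c f ∈ A0 →
  ∀ a ∈ A0, a * (dd b c f * a * (dd b c f)⁻¹) * dd b' c' f' = dd b' c' f' * (a * (dd b c f * a * (dd b c f)⁻¹)) := by
  decide +kernel
theorem q1 (hx : x * x ∈ A0) (hy : y * x * y⁻¹ * x ∈ A0) (ha : a ∈ A0) : Commute (a * (x * a * x⁻¹)) y := by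
  rw [com_D (mul_mem ha (Normal.conj_mem inferInstance a ha _)), cj_D ha]
  exact q1' _ _ _ hx _ _ _ hy a ha
theorem q2' : ∀ x, x ∉ A0 → x * x = 1 → ∀ b c f, dd b c f * x * (dd b c f)⁻¹ * x ∈ A0 → ∀ b' c' f',
  dd b' c' f' * x * (dd b' c' f')⁻¹ * x ∈ A0 →
  dd b c f * x * (dd b c f)⁻¹ * x * dd b' c' f' = dd b' c' f' * (dd b c f * x * (dd b c f)⁻¹ * x) := by decide +kernel
theorem q2 (hx : x ∉ A0) (x2 : x * x = 1) (hn : n * x * n⁻¹ * x ∈ A0) (hm : m * x * m⁻¹ * x ∈ A0) :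
    Commute (n * x * n⁻¹ * x) m := by
  have h1 : D n * x * (D n)⁻¹ * x ∈ A0 := hn
  have h2 : n * x * n⁻¹ * x = D n * x * (D n)⁻¹ * x * (n * (D n)⁻¹ * (x * (n * (D n)⁻¹) * x⁻¹)) := by
    rw [← mul_assoc, ← (com (dec n) h1).eq]
    nth_rw 2 [← inv_eq (dec n)]
    rw [inv_eq_of_mul_eq_one_left x2]
    calc _ = n * x * (D n)⁻¹ * (x * x) * D n * n⁻¹ * x := by rw [x2]; group
      _ = _ := by group
  rw [h2]
  exact ((com_D h1).2 (q2' x hx x2 _ _ _ h1 _ _ _ hm)).mul_left (q1 (x2 ▸ one_mem _) hm (dec n))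
theorem q3' : ∀ b c f, dd b c f ∉ A0 → dd b c f * dd b c f ∈ A0 → ∀ b' c' f',
  dd b' c' f' * dd b c f * (dd b' c' f')⁻¹ * dd b c f ∈ A0 → ∀ b'' c'' f'',
  dd b'' c'' f'' * dd b c f * (dd b'' c'' f'')⁻¹ * dd b c f ∈ A0 →
  (dd b'' c'' f'' * dd b' c' f')⁻¹ * (dd b' c' f' * dd b'' c'' f'') ∈ A0 ∨
  (dd b'' c'' f'' * dd b' c' f')⁻¹ * (dd b' c' f' * dd b'' c'' f'') * dd b c f ∈ A0 := by decide +kernel
theorem ab (hx : x ∉ A0) (x2 : x * x = 1) (hn : n * x * n⁻¹ * x ∈ A0) (hm : m * x * m⁻¹ * x ∈ A0) :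
    Commute ((m * n)⁻¹ * (n * m)) x ∧ ∀ a ∈ A0, Commute a x → Commute ((m * n)⁻¹ * (n * m)) a := by
  refine ⟨?_, fun a ha h => ?_⟩
  · have k : ∀ n : Q5, n * x * n⁻¹ = n * x * n⁻¹ * x * x := fun n => by rw [mul_assoc _ x x, x2, mul_one]
    have e : n * m * x * (n * m)⁻¹ = m * n * x * (m * n)⁻¹ :=
      calc _ = n * (m * x * m⁻¹ * x) * n⁻¹ * (n * x * n⁻¹) := by rw [conj_mul, ← k]; group
        _ = m * x * m⁻¹ * x * (n * x * n⁻¹ * x * x) := by rw [← (q2 hx x2 hm hn).eq, mul_inv_cancel_right, ← k]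
        _ = n * x * n⁻¹ * x * (m * x * m⁻¹ * x * x) := by
          rw [← mul_assoc _ (n * x * n⁻¹ * x), (com hm hn).eq, mul_assoc _ (m * x * m⁻¹ * x)]
        _ = m * (n * x * n⁻¹ * x) * m⁻¹ * (m * x * m⁻¹) := by rw [← (q2 hx x2 hn hm).eq, mul_inv_cancel_right, ← k]
        _ = _ := by rw [conj_mul, ← k]; group
    rw [commute_iff_eq, mul_assoc, mul_inv_eq_iff_eq_mul.1 e]; group
  · rcases q3' _ _ _ hx (show x * x ∈ A0 from x2 ▸ one_mem _) _ _ _ hn _ _ _ hm with e | e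
    · exact com (a := (m * n)⁻¹ * (n * m)) e ha
    · have := (com (a := (m * n)⁻¹ * (n * m) * x) e ha).mul_left h.symm
      rwa [mul_assoc _ x x, x2, mul_one] at this
def a0 : Q5 := ⟨true, false, false, true, false, false, false, false, false⟩
theorem reg : a0 ∈ A0 ∧ ∀ y, y * a0 = a0 * y → y ∈ A0 := by decide +kernel

/-- an abelian subgroup meets `A0` in index at most four -/
theorem idx (hB : IsMulCommutative B) : Nat.card B ≤ 4 * Nat.card ↥(A0 ⊓ B) ∧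
    (y ∈ B → 2 * Nat.card ↥(A0 ⊓ B) < Nat.card B → ∃ z ∈ B, z ∉ A0 ∧ y⁻¹ * z ∉ A0) := by
  have h1 := card_map_mul_card_inf_ker (QuotientGroup.mk' A0) B
  rw [QuotientGroup.ker_mk'] at h1
  have h2 : Nat.card (Q5 ⧸ A0) = 8 := by
    have := A0.card_eq_card_quotient_mul_card_subgroup
    rw [card, cardA] at this
    omega
  refine ⟨h1.symm.trans_le (Nat.mul_le_mul_right _ ?_), fun hy h => by_contra fun e => ?_⟩
  · have h3 := card_subgroup_dvd_card (B.map (QuotientGroup.mk' A0))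
    have h4 : Nat.card (B.map (QuotientGroup.mk' A0)) ≠ 8 := fun e => by
      have e1 := eq_top_of_card_eq _ (e.trans h2.symm)
      obtain ⟨u, u1, u2⟩ := e1.ge (mem_top (dd true false false : Q5 ⧸ A0))
      obtain ⟨v, v1, v2⟩ := e1.ge (mem_top (dd false true false : Q5 ⧸ A0))
      refine absurd ((QuotientGroup.eq (s := A0)).1 (?_ : ((dd true false false * dd false true false : Q5) : Q5 ⧸ A0) =
        (dd false true false * dd true false false : Q5))) (by decide +kernel)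
      rw [QuotientGroup.mk_mul, QuotientGroup.mk_mul, ← u2, ← v2, ← map_mul, ← map_mul, mul_comm_of_mem_isMulCommutative _ u1 v1]
    rw [h2] at h3
    have := Nat.le_of_dvd (by norm_num) h3
    generalize Nat.card (B.map (QuotientGroup.mk' A0)) = k at h3 h4 this ⊢
    interval_cases k <;> omega
  · have h3 : ((B.map (QuotientGroup.mk' A0) : Subgroup _) : Set (Q5 ⧸ A0)) ⊆ {1, (y : Q5 ⧸ A0)} := by
      rintro _ ⟨z, hz, rfl⟩
      by_cases h4 : z ∈ A0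
      · exact Or.inl ((QuotientGroup.eq_one_iff z).2 h4)
      · exact Or.inr (QuotientGroup.eq.2 (by_contra fun h5 => e ⟨z, hz, h4, h5⟩)).symm
    have h4 := (Set.ncard_le_ncard h3).trans (Set.ncard_insert_le _ _)
    rw [Set.ncard_singleton, ← Nat.card_coe_set_eq] at h4
    exact absurd (h1.symm.trans_le (Nat.mul_le_mul_right _ h4)) (not_le.2 h)

theorem inf_le (hB : IsMulCommutative B) (hy : y ∈ B) : A0 ⊓ B ≤ 𝐂[y] := fun _ h =>
  mem_cent.2 (mul_comm_of_mem_isMulCommutative _ h.2 hy)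

theorem uniq (hB : IsMulCommutative B) (h : Nat.card B = 64) : B = A0 := by
  refine eq_of_le_of_card_ge (fun y hy => by_contra fun e => ?_) (by rw [h, cardA])
  have h1 := (card_le_of_le (le_inf inf_le_left (inf_le hB hy))).trans (c16 e).1
  obtain ⟨z, z1, z2, z3⟩ := (idx hB).2 hy (by omega)
  have h2 := (card_le_of_le (le_inf (le_inf inf_le_left (inf_le hB hy)) (inf_le hB z1))).trans (c8 e z2 z3)
  have := (idx (y := 1) hB).1
  omega

theorem norm32 (hB : ∀ y ∈ B, y * y = 1) (h : Nat.card B = 32) : A0 ≤ 𝐍(B) := by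
  have inv : ∀ y ∈ B, y⁻¹ = y := fun y hy => inv_eq_of_mul_eq_one_left (hB y hy)
  have hc : IsMulCommutative B := PGrp.isMulCommutative_iff_forall.2 fun a ha b hb => by
    have := inv _ (mul_mem ha hb)
    rwa [mul_inv_rev, inv a ha, inv b hb, eq_comm] at this
  refine le_normalizer_of_cj_le fun a ha => cj_le_iff'.2 fun y hy => ?_
  by_cases e : y ∈ A0
  · rwa [(com ha e).eq, mul_inv_cancel_right]
  have k : ∀ z ∈ B, a * (y * a * y⁻¹) ∈ 𝐂[z] := fun z hz => mem_cent.2 (q1 (hB y hy ▸ one_mem _)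
    (by rw [mul_comm_of_mem_isMulCommutative _ hz hy, mul_inv_cancel_right, hB y hy]; exact one_mem _) ha)
  have h0 := mul_mem ha (Normal.conj_mem inferInstance a ha y)
  suffices a * (y * a * y⁻¹) ∈ B by
    have := mul_mem this hy
    rw [mul_assoc, inv_mul_cancel_right, ← mul_assoc] at this
    rwa [inv_eq ha]
  have h1 := le_inf inf_le_left (inf_le hc hy)
  by_cases h2 : 2 * Nat.card ↥(A0 ⊓ B) < Nat.card B
  · obtain ⟨z, z1, z2, z3⟩ := (idx hc).2 hy h2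
    have h3 := (idx (y := 1) hc).1
    exact ((eq_of_le_of_card_ge (le_inf h1 (inf_le hc z1)) ((c8 e z2 z3).trans (by omega))).ge ⟨⟨h0, k y hy⟩, k z z1⟩).2
  · exact ((eq_of_le_of_card_ge h1 ((c16 e).1.trans (by omega))).ge ⟨h0, k y hy⟩).2

def w1 : Q5 := ⟨false, false, false, false, false, false, false, false, true⟩
def w2 : Q5 := ⟨false, false, false, false, false, false, false, true, false⟩
def e1 : Q5 := ⟨true, false, false, false, false, false, false, false, false⟩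
def e2 : Q5 := ⟨false, false, false, true, false, false, false, false, false⟩
def e3 : Q5 := ⟨false, false, false, false, true, false, false, false, false⟩
def e4 : Q5 := ⟨false, false, false, false, false, false, true, false, false⟩
instance (p : A0 → Prop) [DecidablePred p] : Decidable (∀ x, p x) :=
  decidable_of_iff (∀ a d e g h i, p ⟨⟨a, false, false, d, e, false, g, h, i⟩, rfl, rfl, rfl⟩)
    ⟨fun h ⟨⟨_, _, _, _, _, _, _, _, _⟩, h1, h2, h3⟩ => by cases h1; cases h2; cases h3; exact h .., fun h _ _ _ _ _ _ => h _⟩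

theorem pw {w : A0} (u v t : A0) (h1 : w.1 = u * (x * u * x⁻¹)) (h2 : w.1 = v * (y * v * y⁻¹))
    (h3 : x * x ∈ A0) (h4 : y * x * y⁻¹ * x ∈ A0)
    (h5 : ∀ a ∈ A0, a * (x * a * x⁻¹) = 1 ∨ a * (x * a * x⁻¹) = w ∨ a * (x * a * x⁻¹) = t ∨ a * (x * a * x⁻¹) = t * w)
    (h6 : ∀ a ∈ A0, a * (y * a * y⁻¹) ≠ t ∧ a * (y * a * y⁻¹) ≠ t * w) :
    Pw (MulAut.conjNormal x : MulAut A0) (MulAut.conjNormal y) w := by
  refine ⟨⟨u, Subtype.ext h1⟩, ⟨v, Subtype.ext h2⟩, fun a => Subtype.ext ?_, fun a b e => ?_⟩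
  · exact mul_inv_eq_iff_eq_mul.2 (q1 h3 h4 a.2).symm
  · replace e : a.1 * (x * a * x⁻¹) = b * (y * b * y⁻¹) := congrArg Subtype.val e
    rcases h5 a a.2 with h | h | h | h
    exacts [Or.inl (Subtype.ext h), Or.inr (Subtype.ext h), ((h6 b b.2).1 (e ▸ h)).elim, ((h6 b b.2).2 (e ▸ h)).elim]

theorem kl (h1 : x * x = 1) (h2 : y * y = 1) (h3 : y * x = x * y) (h4 : x ∉ A0) (h5 : y ∉ A0) (h6 : x⁻¹ * y ∉ A0) :
    Kl (MulAut.conjNormal x : MulAut A0) (MulAut.conjNormal y) := by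
  have k : ∀ x : Q5, (MulAut.conjNormal x : MulAut A0) = 1 → x ∈ A0 := fun x e =>
    reg.2 x (mul_inv_eq_iff_eq_mul.1 (congrArg Subtype.val (DFunLike.congr_fun e (⟨a0, reg.1⟩ : A0)) :))
  exact ⟨two_of_mul_self (by rw [← map_mul, h1, map_one]) fun e => h4 (k x e),
    two_of_mul_self (by rw [← map_mul, h2, map_one]) fun e => h5 (k y e),
    fun e => h6 (k _ (by rw [map_mul, map_inv, e, inv_mul_cancel])), by rw [commute_iff_eq, ← map_mul, h3, map_mul]⟩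

theorem odd_bot {O : Subgroup (MulAut A0)} (hO : Odd (Nat.card O)) (hn : ∀ x : Q5, MulAut.conjNormal x ∈ 𝐍(O)) : O = ⊥ := by
  let W1 : A0 := ⟨w1, rfl, rfl, rfl⟩
  let W2 : A0 := ⟨w2, rfl, rfl, rfl⟩
  let E1 : A0 := ⟨e1, rfl, rfl, rfl⟩
  let E2 : A0 := ⟨e2, rfl, rfl, rfl⟩
  let E3 : A0 := ⟨e3, rfl, rfl, rfl⟩
  let E4 : A0 := ⟨e4, rfl, rfl, rfl⟩
  have h1 : O ≤ stabilizer _ W1 := fix_w (kl (x := dd true false false) (y := dd false false true) (by decide +kernel)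
    (by decide +kernel) (by decide +kernel) (by decide +kernel) (by decide +kernel) (by decide +kernel)) (by decide +kernel) hO
    (hn _) (hn _) (pw E4 E2 E3 (by decide +kernel) (by decide +kernel) (by decide +kernel) (by decide +kernel) (by decide +kernel)
    (by decide +kernel)) (pw E2 E4 W2 (by decide +kernel) (by decide +kernel) (by decide +kernel) (by decide +kernel)
    (by decide +kernel) (by decide +kernel)) (by rw [← map_mul]; exact (pw E4 E2 (E3 * W2) (by decide +kernel)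
    (by decide +kernel) (by decide +kernel) (by decide +kernel) (by decide +kernel) (by decide +kernel)))
  have h2 : O ≤ stabilizer _ W2 := fix_w (kl (x := dd false true false) (y := dd false false true) (by decide +kernel)
    (by decide +kernel) (by decide +kernel) (by decide +kernel) (by decide +kernel) (by decide +kernel)) (by decide +kernel) hO
    (hn _) (hn _) (pw E3 E1 E4 (by decide +kernel) (by decide +kernel) (by decide +kernel) (by decide +kernel) (by decide +kernel)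
    (by decide +kernel)) (pw E1 E3 W1 (by decide +kernel) (by decide +kernel) (by decide +kernel) (by decide +kernel)
    (by decide +kernel) (by decide +kernel)) (by rw [← map_mul]; exact (pw E3 E1 (E4 * W1) (by decide +kernel)
    (by decide +kernel) (by decide +kernel) (by decide +kernel) (by decide +kernel) (by decide +kernel)))
  letI : CommGroup A0 := { mul_comm a b := Subtype.ext (com a.2 b.2) }
  refine odd_eq_bot (S := (MulAut.conjNormal : Q5 →* MulAut A0).range) (fun a => Subtype.ext (sq a a.2)) hO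
    ((IsPGroup.of_card (n := 9) card).of_surjective _ (MonoidHom.rangeRestrict_surjective _)) (by rintro _ ⟨x, rfl⟩; exact hn x)
    fun a ha o ho => ?_
  have h3 : ∀ a : A0, dd true false false * a * (dd true false false)⁻¹ = a → dd false true false * a * (dd false true false)⁻¹ = a →
      a = 1 ∨ a = W1 ∨ a = W2 ∨ a = W1 * W2 := by decide +kernel
  rcases h3 a (congrArg Subtype.val (ha _ ⟨_, rfl⟩)) (congrArg Subtype.val (ha _ ⟨_, rfl⟩)) with rfl | rfl | rfl | rfl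
  exacts [map_one o, h1 ho, h2 ho, (map_mul o _ _).trans (congrArg₂ _ (h1 ho) (h2 ho))]

end
end Q5

/-- `UT₅(2)` -/
@[ext] structure U5 where
  q : Q5
  z : Bool

namespace U5
noncomputable section
def mul (x y : U5) : U5 := ⟨x.q.mul y.q, x.z ⊕₂ y.z ⊕₂ x.q.a ⊗₂ y.q.i ⊕₂ x.q.e ⊗₂ y.q.g ⊕₂ x.q.h ⊗₂ y.q.d⟩
def inv (x : U5) : U5 := ⟨x.q.inv, x.z ⊕₂ x.q.a ⊗₂ x.q.inv.i ⊕₂ x.q.e ⊗₂ x.q.inv.g ⊕₂ x.q.h ⊗₂ x.q.d⟩
instance : Mul U5 := ⟨mul⟩
instance : Inv U5 := ⟨inv⟩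
instance : One U5 := ⟨⟨1, false⟩⟩
instance : DecidableEq U5 := fun _ _ => decidable_of_iff _ U5.ext_iff.symm
instance (p : U5 → Prop) [DecidablePred p] : Decidable (∀ x, p x) :=
  decidable_of_iff (∀ q z, p ⟨q, z⟩) ⟨fun h _ => h .., fun h _ _ => h _⟩
instance : Group U5 := Group.ofLeftAxioms
  (fun x y z => by
    show mul (mul x y) z = mul x (mul y z)
    ext <;> simp only [mul, Q5.mul, xr_eq, nd_eq] <;> ring)
  (by decide +kernel) (by decide +kernel)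
theorem card : Nat.card U5 = 1024 := by
  rw [Nat.card_congr (⟨fun x => (x.q, x.z), fun x => ⟨x.1, x.2⟩, fun _ => rfl, fun _ => rfl⟩ : U5 ≃ Q5 × Bool), Nat.card_prod, Q5.card]
  simp

def sel (b : Bool) (g acc : ℕ) : ℕ := Bool.rec acc (mulN 24 acc g) b
def gs : List ℕ := [0x2120a070916030c06050b100d151304140f0e0811170001, 0x3060d14101201130f00150c0b0a0908041602071705110e,
  0x1160609071205100a030d0c0b0f1408131511040e001702, 0x30610080d0f02151200130a090c0b14041601071711050e,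
  0x60d08100f0513120315090a0b0c14041611070e010217, 0x20d061407120e040f11160c0b0a09081315031005170001,
  0x2100609070c03160a050412080f140b13150e0d11170001, 0x170d0609070b11040a0e1608120f140c1315051003020100,
  0x413141512050d0f03100c0b0a0908060711160e010217, 0x1704130f1508110d140e100b0c090a120607051603020100]
abbrev gi (i : ℕ) : ℕ := getL gs (idN 24) i
def ps (m : U5) : ℕ := sel m.z (gi 9) (sel m.q.h (gi 7) (sel m.q.e (gi 4) (sel m.q.a (gi 0) (sel m.q.i (gi 8) (sel m.q.f (gi 5)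
  (sel m.q.b (gi 1) (sel m.q.g (gi 6) (sel m.q.c (gi 2) (sel m.q.d (gi 3) (idN 24))))))))))
def e12 : U5 := ⟨Q5.e1, false⟩
def e23 : U5 := ⟨Q5.dd true false false, false⟩
def e34 : U5 := ⟨Q5.dd false true false, false⟩
def e45 : U5 := ⟨Q5.e2, false⟩
theorem chk : ∀ m : U5, ps (m * e12) = mulN 24 (ps m) (ps e12) ∧ ps (m * e23) = mulN 24 (ps m) (ps e23) ∧
  ps (m * e34) = mulN 24 (ps m) (ps e34) ∧ ps (m * e45) = mulN 24 (ps m) (ps e45) ∧ (ps m = idN 24 → m = 1) := by decide +kernel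

theorem inH_ps (m : U5) : gc.InH M24 (ps m) := by
  have h1 : gc.InH M24 (idN 24) := ⟨Coding.valid_one, Coding.dec_one (c := gc) ▸ one_mem _⟩
  have k : ∀ b i acc, gc.InH M24 acc → gc.InH M24 (sel b (gi i) acc) := fun b i acc h => by
    have h2 : gc.InH M24 (gi i) := (getL_mem_or gs _ i).elim (inH_of_allL (by decide +kernel) _) fun e => by rw [gi, e]; exact h1
    cases b
    exacts [h, ⟨h.1.mul h2.1, h.1.dec_mul h2.1 ▸ mul_mem h.2 h2.2⟩]
  exact k _ _ _ (k _ _ _ (k _ _ _ (k _ _ _ (k _ _ _ (k _ _ _ (k _ _ _ (k _ _ _ (k _ _ _ (k _ _ _ h1)))))))))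

def pw (b : Bool) (x : U5) : U5 := Bool.rec 1 x b
theorem gen : ∀ m : U5, m = pw m.q.d e45 * pw m.q.c e34 * pw m.q.g ⁅e34, e45⁆ * pw m.q.b e23 * pw m.q.f ⁅e23, e34⁆ *
  pw m.q.i ⁅e23, ⁅e34, e45⁆⁆ * pw m.q.a e12 * pw m.q.e ⁅e12, e23⁆ * pw m.q.h ⁅e12, ⁅e23, e34⁆⁆ *
  pw m.z ⁅e12, ⁅e23, ⁅e34, e45⁆⁆⁆ := by decide +kernel
theorem mem_of {H : Subgroup U5} (h1 : e12 ∈ H) (h2 : e23 ∈ H) (h3 : e34 ∈ H) (h4 : e45 ∈ H) (m : U5) : m ∈ H := by
  have k : ∀ b x, x ∈ H → pw b x ∈ H := fun b x h => by cases b; exacts [one_mem _, h]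
  have c : ∀ {x y}, x ∈ H → y ∈ H → ⁅x, y⁆ ∈ H := fun hx hy => mul_mem (mul_mem (mul_mem hx hy) (inv_mem hx)) (inv_mem hy)
  rw [gen m]
  exact mul_mem (mul_mem (mul_mem (mul_mem (mul_mem (mul_mem (mul_mem (mul_mem (mul_mem (k _ _ h4) (k _ _ h3)) (k _ _ (c h3 h4)))
    (k _ _ h2)) (k _ _ (c h2 h3))) (k _ _ (c h2 (c h3 h4)))) (k _ _ h1)) (k _ _ (c h1 h2))) (k _ _ (c h1 (c h2 h3))))
    (k _ _ (c h1 (c h2 (c h3 h4))))

def ψ : U5 →* Equiv.Perm GolayPt := MonoidHom.mk' (fun m => gc.dec (ps m)) fun m n => by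
  let H : Subgroup U5 :=
    { carrier := {n | ∀ m, gc.dec (ps (m * n)) = gc.dec (ps m) * gc.dec (ps n)}
      mul_mem' := fun {a b} ha hb m => by rw [← mul_assoc, hb, ha, hb, mul_assoc]
      one_mem' := fun m => by rw [mul_one, show gc.dec (ps 1) = 1 from Coding.dec_one, mul_one]
      inv_mem' := fun {a} ha m => by
        have h1 := ha (m * a⁻¹)
        have h2 := ha a⁻¹
        rw [inv_mul_cancel, show gc.dec (ps 1) = 1 from Coding.dec_one] at h2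
        rw [inv_mul_cancel_right] at h1
        rw [h1, eq_inv_of_mul_eq_one_left h2.symm, mul_inv_cancel_right] }
  have k : ∀ {e : U5}, (∀ m, ps (m * e) = mulN 24 (ps m) (ps e)) → e ∈ H := fun h m =>
    h m ▸ (inH_ps m).1.dec_mul (inH_ps _).1
  exact mem_of (k fun m => (chk m).1) (k fun m => (chk m).2.1) (k fun m => (chk m).2.2.1) (k fun m => (chk m).2.2.2.1) n m

theorem ψ_inj : Function.Injective ψ := (injective_iff_map_eq_one ψ).2 fun m h =>
  (chk m).2.2.2.2 (((inH_ps m).1.dec_inj Coding.valid_one).1 (h.trans Coding.dec_one.symm))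

def π : U5 →* Q5 := MonoidHom.mk' U5.q fun _ _ => rfl
theorem ker_π : π.ker = center U5 := by
  have h1 : ∀ m : U5, (m.q = 1 ↔ e12 * m = m * e12 ∧ e23 * m = m * e23 ∧ e34 * m = m * e34 ∧ e45 * m = m * e45) := by decide +kernel
  ext m
  refine (h1 m).trans ⟨fun h => mem_center_iff.2 fun g => mem_cent.1
    (mem_of (mem_cent.2 h.1) (mem_cent.2 h.2.1) (mem_cent.2 h.2.2.1) (mem_cent.2 h.2.2.2) g), fun h => ?_⟩
  exact ⟨mem_center_iff.1 h _, mem_center_iff.1 h _, mem_center_iff.1 h _, mem_center_iff.1 h _⟩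

end
end U5

theorem m24_sylow (P : Sylow 2 M24) : ∃ f : P →* Q5, Function.Surjective f ∧ f.ker = center P ∧ Nat.card P = 1024 := by
  have h1 : Nat.card U5.ψ.range = 1024 := by rw [← Nat.card_congr (MonoidHom.ofInjective U5.ψ_inj).toEquiv, U5.card]
  obtain ⟨σ, e⟩ := sylow_conjTo (H := M24) (S := U5.ψ.range) (by rintro _ ⟨m, rfl⟩; exact (U5.inH_ps m).2) (k := 10) (m := 239085)
    h1 card_M24 (by norm_num) P
  let f := e.equiv.trans (MonoidHom.ofInjective U5.ψ_inj).symm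
  refine ⟨U5.π.comp f.toMonoidHom, Function.Surjective.comp (g := U5.π) (fun q => ⟨⟨q, false⟩, rfl⟩) f.surjective, ?_, e.card_eq.trans h1⟩
  rw [← MonoidHom.comap_ker, U5.ker_π]
  ext x
  exact MulEquivClass.apply_mem_center_iff f

end Cfsg.Lib.Block.Scn
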