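import Cfsg.Agent.Lib.Block.ScnB
import Cfsg.Agent.Lib.R2.LyG

/-! Groups with a Sylow `2`-subgroup `T / Z(T)`, `T` of type `M₂₄`: the abelian subgroup of order `64` is normal mod `O(G)`. -/

set_option autoImplicit false
set_option linter.unusedSectionVars false

namespace Cfsg.Lib.Block.Scn
open Subgroup Cfsg.Lib.Core Cfsg.Lib.BG1 Cfsg.Lib.Invol Cfsg.Lib.Layer Cfsg.Lib.Gold Cfsg.Lib.Gsm
open Cfsg.Lib.Amalg hiding le_cent_symm op_top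
open Cfsg.Lib.GW hiding Ctx
open Cfsg.Lib.Wal (PC CB)
open scoped Cfsg.Lib.Wal commutatorElement

universe u

variable {G : Type u} [Group G] [Finite G] {A A₁ A₂ B C D R S T K X Y : Subgroup G} {a b d g n m o x y z : G}

theorem inv_of_sq (h : ∀ a ∈ A, a * a = 1) (ha : a ∈ A) : a⁻¹ = a := inv_eq_of_mul_eq_one_left (h a ha)
theorem com_of_sq (h : ∀ a ∈ A, a * a = 1) (ha : a ∈ A) (hb : b ∈ A) : Commute a b := by
  have := inv_of_sq h (mul_mem ha hb)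
  rwa [mul_inv_rev, inv_of_sq h ha, inv_of_sq h hb, eq_comm] at this
theorem cent_of_sq (h : ∀ a ∈ A, a * a = 1) (hB : B ≤ A) : A ≤ 𝐂(B) := fun _ ha => mem_centS.2 fun _ hb => com_of_sq h ha (hB hb)
theorem pg_of_sq (h : ∀ a ∈ A, a * a = 1) : IsPGroup 2 A :=
  isPGroup_iff_mem.2 fun x hx => ⟨1, by rw [pow_one, pow_two, h x hx]⟩

theorem dec_two (hR : Syl 2 R D) (h : ∀ o ∈ D, Odd (orderOf o) → o ∈ 𝐂(X)) (hn : D ≤ 𝐍(X)) (hd : d ∈ D) :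
    ∃ r ∈ R, ∀ x ∈ X, d * x * d⁻¹ = r * x * r⁻¹ := by
  obtain ⟨c, hc, r, hr, rfl⟩ := hR.mem_res_mul hd
  refine ⟨r, hr, fun x hx => ?_⟩
  have := mem_centS.1 (res_le_iff.2 (fun o ho e => h o ho (Nat.coprime_two_right.1 e)) hc) _ (conj_mem_norm (hn (hR.le hr)) hx)
  rw [mul_inv_rev, ← mul_assoc, mul_assoc c, mul_assoc c, this.eq, mul_inv_cancel_right]

theorem odd_cent (hX : IsPGroup 2 X) (ho : Odd (orderOf o)) (hn : o ∈ 𝐍(X)) (hY : Y ≤ X) (h : ⁅X, zpowers o⁆ ≤ Y)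
    (h1 : o ∈ 𝐂(Y)) : o ∈ 𝐂(X) :=
  zpowers_le.1 (stable_factor_cent (zpowers_le.2 hn) (cop_pgroup hX (by rwa [Nat.card_zpowers])).symm (Or.inl (solv_zpowers o)) hY h
    (zpowers_le.2 h1))

/-- `(S, A)` is isomorphic to `(Q5, A0)` -/
def MT (S A : Subgroup G) : Prop := ∃ ι : Q5 →* G, Function.Injective ι ∧ ι.range = S ∧ Q5.A0.map ι = A

namespace MT
variable (h : MT S A)
include h

theorem conj (g : G) : MT (cj g S) (cj g A) := by
  obtain ⟨ι, hι, rfl, rfl⟩ := h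
  exact ⟨(MulAut.conj g).toMonoidHom.comp ι, (MulAut.conj g).injective.comp hι, MonoidHom.range_comp _ _, (map_map _ _ _).symm⟩

theorem le : A ≤ S := by obtain ⟨ι, -, rfl, rfl⟩ := h; exact map_le_range _ _
theorem sq : ∀ a ∈ A, a * a = 1 := by
  obtain ⟨ι, -, rfl, rfl⟩ := h
  rintro _ ⟨a, ha, rfl⟩
  rw [← map_mul, Q5.sq a ha, map_one]
theorem nrm : S ≤ 𝐍(A) := by
  obtain ⟨ι, -, rfl, rfl⟩ := h
  rintro _ ⟨s, rfl⟩
  rw [← cj_eq_self_iff, ← map_cj, cj_normal]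
theorem card : Nat.card A = 64 := by obtain ⟨ι, hι, rfl, rfl⟩ := h; rw [card_map_of_injective hι, Q5.cardA]

theorem uniq (hB : B ≤ S) (hc : IsMulCommutative B) (h1 : Nat.card B = 64) : B = A := by
  obtain ⟨ι, hι, rfl, rfl⟩ := h
  have e := map_comap_eq_self hB
  rw [← e, Q5.uniq (B := B.comap ι) (comap_injective_isMulCommutative _ hι) (by rw [← card_map_of_injective hι, e, h1])]

theorem norm32 (hB : B ≤ S) (hc : ∀ y ∈ B, y * y = 1) (h1 : Nat.card B = 32) : A ≤ 𝐍(B) := by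
  obtain ⟨ι, hι, rfl, rfl⟩ := h
  have e := map_comap_eq_self hB
  rintro _ ⟨a, ha, rfl⟩
  rw [← e, ← cj_eq_self_iff, ← map_cj, cj_of_mem_normalizer (Q5.norm32 (fun y hy => hι (by rw [map_mul, hc _ hy, map_one]))
    (by rw [← card_map_of_injective hι, e, h1]) ha)]

omit h in
theorem map_inf {ι : Q5 →* G} (hι : Function.Injective ι) (H : Subgroup Q5) (x : Q5) : (H ⊓ 𝐂[x]).map ι = H.map ι ⊓ 𝐂[ι x] := by
  ext y
  refine ⟨fun ⟨a, ha, e⟩ => e ▸ ⟨mem_map_of_mem _ ha.1, mem_cent.2 ((mem_cent.1 ha.2).map ι)⟩, ?_⟩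
  rintro ⟨⟨a, ha, rfl⟩, e⟩
  exact mem_map_of_mem _ ⟨ha, mem_cent.2 ((mem_cent.1 e).of_map hι)⟩

theorem c16 (hx : x ∈ S) (h1 : x ∉ A) (h2 : x * x ∈ A) : Nat.card ↥(A ⊓ 𝐂[x]) = 16 := by
  obtain ⟨ι, hι, rfl, rfl⟩ := h
  obtain ⟨x, rfl⟩ := hx
  rw [← map_mul, mem_map_iff_mem hι] at h2
  rw [← map_inf hι, card_map_of_injective hι, (Q5.c16 fun e => h1 (mem_map_of_mem _ e)).2 h2]

theorem c8 (hx : x ∈ S) (hy : y ∈ S) (h1 : x ∉ A) (h2 : y ∉ A) (h3 : x⁻¹ * y ∉ A) : Nat.card ↥(A ⊓ 𝐂[x] ⊓ 𝐂[y]) ≤ 8 := by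
  obtain ⟨ι, hι, rfl, rfl⟩ := h
  obtain ⟨x, rfl⟩ := hx
  obtain ⟨y, rfl⟩ := hy
  rw [← map_inv, ← map_mul] at h3
  rw [← map_inf hι, ← map_inf hι, card_map_of_injective hι]
  exact Q5.c8 (fun e => h1 (mem_map_of_mem _ e)) (fun e => h2 (mem_map_of_mem _ e)) fun e => h3 (mem_map_of_mem _ e)

theorem ab (hx : x ∈ S) (hn : n ∈ S) (hm : m ∈ S) (h1 : x ∉ A) (x2 : x * x = 1) (h2 : n * x * n⁻¹ * x ∈ A) (h3 : m * x * m⁻¹ * x ∈ A) :
    Commute ((m * n)⁻¹ * (n * m)) x ∧ ∀ a ∈ A, Commute a x → Commute ((m * n)⁻¹ * (n * m)) a := by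
  obtain ⟨ι, hι, rfl, rfl⟩ := h
  obtain ⟨x, rfl⟩ := hx
  obtain ⟨n, rfl⟩ := hn
  obtain ⟨m, rfl⟩ := hm
  simp only [← map_inv, ← map_mul, mem_map_iff_mem hι] at h1 h2 h3 ⊢
  obtain ⟨e1, e2⟩ := Q5.ab h1 (hι (by rw [map_mul, x2, map_one])) h2 h3
  refine ⟨e1.map ι, ?_⟩
  rintro _ ⟨a, ha, rfl⟩ e
  exact (e2 a ha (e.of_map hι)).map ι

theorem reg : ∃ a ∈ A, ∀ y ∈ S, Commute y a → y ∈ A := by
  obtain ⟨ι, hι, rfl, rfl⟩ := h
  refine ⟨_, mem_map_of_mem _ Q5.reg.1, ?_⟩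
  rintro _ ⟨y, rfl⟩ e
  exact mem_map_of_mem _ (Q5.reg.2 y (e.of_map hι))

theorem odd_bot {O : Subgroup (MulAut A)} (hO : Odd (Nat.card O)) (hn : ∀ s : 𝐍(A), A.normalizerMonoidHom s ∈ 𝐍(O)) : O = ⊥ := by
  have h0 := h.nrm
  obtain ⟨ι, hι, rfl, rfl⟩ := h
  let e := MulAut.congr (Q5.A0.equivMapOfInjective ι hι)
  have h1 := Q5.odd_bot (O := O.comap e.toMonoidHom) (by rwa [← card_map_of_injective e.injective (f := e.toMonoidHom),
    map_comap_eq_self_of_surjective e.surjective]) fun x => by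
      rw [← cj_eq_self_iff, ← comap_cj, show e.toMonoidHom (MulAut.conjNormal x) = normalizerMonoidHom _ ⟨ι x, h0 ⟨x, rfl⟩⟩ from ?_,
        cj_of_mem_normalizer (hn _)]
      ext ⟨_, a, ha, rfl⟩
      have : (Q5.A0.equivMapOfInjective ι hι).symm ⟨ι a, a, ha, rfl⟩ = ⟨a, ha⟩ := by rw [MulEquiv.symm_apply_eq]; rfl
      show ι (x * ((Q5.A0.equivMapOfInjective ι hι).symm ⟨ι a, a, ha, rfl⟩ : Q5.A0) * x⁻¹) = ι x * ι a * (ι x)⁻¹
      rw [this, map_mul, map_mul, map_inv]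
  rw [← map_comap_eq_self_of_surjective (f := e.toMonoidHom) e.surjective O, h1, Subgroup.map_bot]

theorem cj_eq (hg : cj g A ≤ S) : cj g A = A :=
  h.uniq hg (isMulCommutative_cj g (le_centralizer_iff_isMulCommutative.1 (cent_of_sq h.sq le_rfl))) ((card_cj g A).trans h.card)

theorem ext (hS : Syl 2 S ⊤) (hR : IsPGroup 2 R) (hA : A ≤ R) : ∃ T, R ≤ T ∧ MT T A := by
  obtain ⟨g, -, hg⟩ := hS.exists_conj_le hR le_top
  have := h.conj g⁻¹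
  rw [← cj_eq_iff.1 (h.cj_eq ((cj_mono g hA).trans hg))] at this
  exact ⟨_, cj_le_iff.1 hg, this⟩

end MT

/-- `A` induces at least a four-group of transvections on `X` with common axis `A ⊓ X` -/
structure Tv (A X : Subgroup G) : Prop where
  sq : ∀ a ∈ A, a * a = 1
  sqX : ∀ a ∈ X, a * a = 1
  nX : A ≤ 𝐍(X)
  nA : X ≤ 𝐍(A)
  idx : ∀ u ∈ X, ∀ v ∈ X, u ∉ A → v ∉ A → u * v ∈ A
  three : ∃ b ∈ A, ∃ c ∈ A, b ∉ 𝐂(X) ∧ c ∉ 𝐂(X) ∧ b * c ∉ 𝐂(X)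

theorem Tv.conj (h : Tv A X) (hg : g ∈ 𝐍(X)) : Tv (cj g A) X := by
  have e := cj_of_mem_normalizer hg
  have k : ∀ {b}, b ∉ 𝐂(X) → g * b * g⁻¹ ∉ 𝐂(X) := fun hb e' => hb (by rwa [← e, ← cj_centralizer, conj_mem_cj_iff] at e')
  obtain ⟨b, b1, c, c1, b2, c2, d2⟩ := h.three
  refine ⟨?_, h.sqX, by rw [← e, ← cj_normalizer]; exact cj_mono g h.nX, by rw [← e, ← cj_normalizer]; exact cj_mono g h.nA,
    fun u hu v hv u1 v1 => ?_, _, conj_mem_cj g b1, _, conj_mem_cj g c1, k b2, k c2, by rw [conj_mul]; exact k d2⟩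
  · rintro _ ⟨a, ha, rfl⟩
    exact (map_mul _ a a).symm.trans (by rw [h.sq a ha, map_one])
  · rw [← e, mem_cj] at hu hv
    rw [mem_cj] at u1 v1 ⊢
    convert h.idx _ hu _ hv u1 v1 using 1
    group

/-- the stabiliser of the chain `X ≥ X ⊓ A₂ ≥ X ⊓ A₂ ⊓ A₁ ≥ 1` -/
def Ch (A₁ A₂ X : Subgroup G) : Subgroup G := 𝐍(X) ⊓ 𝐍(X ⊓ A₂) ⊓ 𝐂(X ⊓ A₂ ⊓ A₁) ⊓ centQuo (X ⊓ A₂ ⊓ A₁) (X ⊓ A₂)

theorem Ch.le : Ch A₁ A₂ X ≤ 𝐍(X) := fun _ h => h.1.1.1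

namespace Tv
variable (p : Tv A₁ X) (q : Tv A₂ X)
include p

theorem left : A₁ ⊓ 𝐍(X ⊓ A₂) ≤ Ch A₁ A₂ X := by
  have h1 : A₁ ⊓ 𝐍(X ⊓ A₂) ≤ 𝐂(X ⊓ A₂ ⊓ A₁) := inf_le_left.trans (cent_of_sq p.sq inf_le_right)
  exact le_inf (le_inf (le_inf (inf_le_left.trans p.nX) inf_le_right) h1) (le_centQuo (inf_le_left.trans
    ((cent_of_sq p.sqX (inf_le_left.trans inf_le_left)).trans (cent_le_norm _))) (h1.trans (cent_le_norm _))
    (le_inf (comm_le_left inf_le_right) ((commutator_mono le_rfl inf_le_left).trans (comm_le_right (inf_le_left.trans p.nA)))))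

theorem right : A₁ ≤ Ch A₂ A₁ X := by
  have h1 : A₁ ≤ 𝐂(X ⊓ A₁) := cent_of_sq p.sq inf_le_right
  have h2 : A₁ ≤ 𝐂(X ⊓ A₁ ⊓ A₂) := cent_of_sq p.sq (inf_le_left.trans inf_le_right)
  exact le_inf (le_inf (le_inf p.nX (h1.trans (cent_le_norm _))) h2)
    ((le_inf (h2.trans (cent_le_norm _)) h1).trans (cent_le_centQuo _ _))

theorem odd (h : o ∈ Ch A₂ A₁ X) (ho : Odd (orderOf o)) : o ∈ 𝐂(X) := by
  have hX := pg_of_sq p.sqX
  refine odd_cent hX ho h.1.1.1 inf_le_left (commutator_le.2 fun u hu z hz => ?_) (odd_cent (hX.to_le inf_le_left) ho h.1.1.2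
    inf_le_left (commutator_le_of_le_centQuo (inf_le_left.trans ((cent_of_sq p.sqX (inf_le_left.trans inf_le_left)).trans
    (cent_le_norm _))) (zpowers_le.2 h.2)) h.1.2)
  have z1 := conj_mem_norm (zpowers_le.2 h.1.1.1 hz) (inv_mem hu)
  have z2 : z ∈ 𝐍(X ⊓ A₁) := zpowers_le.2 h.1.1.2 hz
  rw [commutatorElement_def, mul_assoc, mul_assoc, ← mul_assoc z]
  refine ⟨mul_mem hu z1, ?_⟩
  by_cases e : u ∈ A₁
  · exact mul_mem e (conj_mem_norm z2 (inv_mem ⟨hu, e⟩)).2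
  · exact p.idx _ hu _ z1 e fun e' => e (inv_mem_iff.1 ((mem_normalizer_iff.1 z2 _).2 ⟨z1, e'⟩).2)

include q

theorem key (ab : ∀ R ≤ 𝐍(X), IsPGroup 2 R → ∀ n ∈ R, ∀ m ∈ R, (m * n)⁻¹ * (n * m) ∈ 𝐂(X)) : A₂ ≤ 𝐍(X ⊓ A₁) := by
  obtain ⟨x, x1, x2⟩ : ∃ x ∈ X, x ∉ A₁ := by
    obtain ⟨b, b1, -, -, b2, -⟩ := p.three
    exact SetLike.not_le_iff_exists.1 fun e => b2 (cent_of_sq p.sq e b1)
  have k0 : ∀ b ∈ A₁, ∀ y ∈ X, y ∈ A₁ → b * y * b⁻¹ = y := fun b hb y _ hy => by rw [(com_of_sq p.sq hb hy).eq, mul_inv_cancel_right]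
  have k1 : ∀ b ∈ A₁, ∀ y ∈ X, y ∉ A₁ → b * y * b⁻¹ = b * x * b⁻¹ * x * y := fun b hb y hy h =>
    calc _ = b * x * b⁻¹ * (b * (x * y) * b⁻¹) := by rw [conj_mul, ← mul_assoc x, p.sqX x x1, one_mul]
      _ = _ := by rw [k0 b hb _ (mul_mem x1 hy) (p.idx _ x1 _ hy x2 h), mul_assoc _ x y]
  have k2 : ∀ b ∈ A₁, b * x * b⁻¹ * x ∈ X := fun b hb => mul_mem (conj_mem_norm (p.nX hb) x1) x1
  have k3 : ∀ b ∈ A₁, b * x * b⁻¹ * x ∈ A₁ := fun b hb => by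
    rw [mul_assoc, mul_assoc, ← mul_assoc x, ← inv_of_sq p.sqX x1, inv_of_sq p.sqX x1]
    nth_rw 2 [← inv_of_sq p.sqX x1]
    exact mul_mem hb (conj_mem_norm (p.nA x1) (inv_mem hb))
  obtain ⟨b, b1, b2, b3⟩ : ∃ b ∈ A₁, b ∉ 𝐂(X) ∧ b * x * b⁻¹ * x ∈ A₂ := by
    obtain ⟨b, b1, c, c1, b2, c2, d2⟩ := p.three
    by_contra! e
    refine e _ (mul_mem b1 c1) d2 ?_
    have := q.idx _ (k2 c c1) _ (k2 b b1) (e c c1 c2) (e b b1 b2)
    rw [← k0 b b1 _ (k2 c c1) (k3 c c1), ← mul_assoc, conj_mul, mul_assoc _ x x, p.sqX x x1, mul_one] at this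
    convert this using 1
    group
  have b4 : b ∈ 𝐍(X ⊓ A₂) := mem_normalizer_of_cj_le (cj_le_iff'.2 fun y hy => ⟨conj_mem_norm (p.nX b1) hy.1, by
    by_cases e : y ∈ A₁
    · rw [k0 b b1 y hy.1 e]; exact hy.2
    · rw [k1 b b1 y hy.1 e]; exact mul_mem b3 hy.2⟩)
  obtain ⟨R, hR⟩ := exists_syl 2 (Ch A₁ A₂ X)
  obtain ⟨r, r1, r2⟩ := dec_two hR (fun o => q.odd) Ch.le (p.left ⟨b1, b4⟩)
  refine le_normalizer_of_cj_le fun u hu => cj_le_iff'.2 fun y hy => ?_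
  obtain ⟨s, s1, s2⟩ := dec_two hR (fun o => q.odd) Ch.le (q.right hu)
  have y1 := conj_mem_norm (q.nX hu) hy.1
  refine ⟨y1, by_contra fun e => b2 (mem_centS.2 fun v hv => mul_inv_eq_iff_eq_mul.1 ?_)⟩
  have h1 : b * (u * y * u⁻¹) * b⁻¹ = u * (b * y * b⁻¹) * u⁻¹ := by
    have := (mem_centS.1 (ab R (hR.le.trans Ch.le) hR.isPGroup r r1 s s1) y hy.1).eq
    rw [r2 _ y1, s2 _ hy.1, s2 _ (conj_mem_norm (p.nX b1) hy.1), r2 _ hy.1]
    calc _ = s * r * ((s * r)⁻¹ * (r * s) * y) * (r * s)⁻¹ := by group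
      _ = _ := by rw [this]; group
  rw [k0 b b1 y hy.1 hy.2, k1 b b1 _ y1 e, mul_eq_right] at h1
  by_cases e' : v ∈ A₁
  · exact k0 b b1 v hv e'
  · rw [k1 b b1 v hv e', h1, one_mul]

end Tv

namespace MT
variable (h : MT S A) (hS : Syl 2 S ⊤)
include h hS

theorem sa : SA A := by
  refine sa_of_closed hS h.sq ⟨h.le, fun a ha g hx => by_contra fun x1 => ?_⟩
  generalize hxe : g * a * g⁻¹ = x at hx x1
  have x2 : x * x = 1 := by rw [← hxe, conj_mul, h.sq a ha, mul_one, mul_inv_cancel]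
  have x3 : orderOf x = 2 := two_of_mul_self x2 fun e => x1 (e ▸ one_mem _)
  have h16 := h.c16 hx x1 (x2 ▸ one_mem _)
  set X := A ⊓ 𝐂[x] ⊔ zpowers x with hX
  have x4 : x ∈ 𝐂(A ⊓ 𝐂[x]) := mem_centS.2 fun c hc => (mem_cent.1 hc.2).symm
  have h32 : Nat.card X = 32 := by
    rw [PGrp.card_sup_zpowers_of_mem_normalizer (p := 2) (cent_le_norm _ x4) (fun e => x1 e.1) (by rw [pow_two, x2]; exact one_mem _), h16]
  have xX : x ∈ X := mem_sup_right (mem_zpowers x)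
  have mem : ∀ u ∈ X, u ∈ A ⊓ 𝐂[x] ∨ ∃ c ∈ A ⊓ 𝐂[x], u = c * x := fun u hu => by
    obtain ⟨c, c1, z, z1, rfl⟩ := (mem_sup_of_le_normalizer' (zpowers_le.2 (cent_le_norm _ x4))).1 hu
    rcases mem_zpowers_two' x3 z1 with rfl | rfl
    exacts [Or.inl (by rwa [mul_one]), Or.inr ⟨c, c1, rfl⟩]
  have cen : ∀ b, Commute b x → (∀ a ∈ A, Commute a x → Commute b a) → b ∈ 𝐂(X) := fun b h1 h2 => mem_centS.2 fun u hu => by
    rcases mem u hu with e | ⟨c, c1, rfl⟩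
    exacts [h2 u e.1 (mem_cent.1 e.2), (h2 c c1.1 (mem_cent.1 c1.2)).mul_right h1]
  have p : Tv A X := by
    refine ⟨h.sq, fun u hu => ?_, le_normalizer_of_cj_le fun b hb => cj_le_iff'.2 fun u hu => ?_,
      sup_le (inf_le_left.trans le_normalizer) (zpowers_le.2 (h.nrm hx)), fun u hu v hv u1 v1 => ?_, ?_⟩
    · rcases mem u hu with e | ⟨c, c1, rfl⟩
      · exact h.sq u e.1
      · rw [mul_assoc, ← mul_assoc x, ← (mem_cent.1 c1.2).eq, mul_assoc c, x2, mul_one, h.sq c c1.1]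
    · have h1 : b * x * b⁻¹ ∈ X := by
        have e : b * x * b⁻¹ = b * (x * b * x⁻¹) * x := by rw [inv_of_sq h.sq hb, mul_assoc b (x * b * x⁻¹), inv_mul_cancel_right, mul_assoc b x b]
        have e1 := conj_mem_norm (h.nrm hx) hb
        rw [e]
        refine mul_mem (mem_sup_left ⟨mul_mem hb e1, mem_cent.2 ?_⟩) xX
        show b * (x * b * x⁻¹) * x = x * (b * (x * b * x⁻¹))
        nth_rw 2 [(com_of_sq h.sq hb e1).eq]
        rw [inv_eq_of_mul_eq_one_left x2, mul_assoc, mul_assoc, x2, mul_one, ← mul_assoc x, ← mul_assoc x, ← mul_assoc x, x2,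
          one_mul, mul_assoc]
      rcases mem u hu with e | ⟨c, c1, rfl⟩
      · rwa [(com_of_sq h.sq hb e.1).eq, mul_inv_cancel_right]
      · rw [← conj_mul, (com_of_sq h.sq hb c1.1).eq, mul_inv_cancel_right]
        exact mul_mem (mem_sup_left c1) h1
    · obtain ⟨c, c1, rfl⟩ := (mem u hu).resolve_left fun e => u1 e.1
      obtain ⟨d, d1, rfl⟩ := (mem v hv).resolve_left fun e => v1 e.1
      rw [mul_assoc, ← mul_assoc x, ← (mem_cent.1 d1.2).eq, mul_assoc d, x2, mul_one]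
      exact mul_mem c1.1 d1.1
    · have k : ∀ {B : Subgroup G}, Nat.card B < 64 → ∃ b ∈ A, b ∉ B := fun hB =>
        SetLike.not_le_iff_exists.1 fun e => absurd (card_le_of_le e) (by rw [h.card]; omega)
      obtain ⟨b, b1, b2⟩ := k (B := A ⊓ 𝐂[x]) (by omega)
      obtain ⟨c, c1, c2⟩ := k (B := A ⊓ 𝐂[x] ⊔ zpowers b) (by
        rw [PGrp.card_sup_zpowers_of_mem_normalizer (p := 2) (cent_le_norm _ (cent_of_sq h.sq inf_le_left b1)) b2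
          (by rw [pow_two, h.sq b b1]; exact one_mem _), h16]; omega)
      have k1 : ∀ {b}, b ∈ A → b ∈ 𝐂(X) → b ∈ A ⊓ 𝐂[x] := fun hb e => ⟨hb, mem_cent.2 (mem_centS.1 e x xX)⟩
      exact ⟨b, b1, c, c1, fun e => b2 (k1 b1 e), fun e => c2 (mem_sup_left (k1 c1 e)), fun e => c2
        ((mul_mem_cancel_left (mem_sup_right (mem_zpowers b))).1 (mem_sup_left (k1 (mul_mem b1 c1) e)))⟩
  have hXp := pg_of_sq p.sqX
  obtain ⟨R, hR, hAR⟩ := exists_syl_ge (pg_of_sq h.sq) p.nX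
  obtain ⟨T, hT, mT⟩ := h.ext hS hR.isPGroup hAR
  have xT := hT (hR.le_of_normal hXp le_normalizer le_rfl xX)
  have ab : ∀ R ≤ 𝐍(X), IsPGroup 2 R → ∀ n ∈ R, ∀ m ∈ R, (m * n)⁻¹ * (n * m) ∈ 𝐂(X) := fun U hU hp n hn m hm => by
    obtain ⟨k, k1, k2⟩ := hR.exists_conj_le hp hU
    have k3 : ∀ n ∈ R, n * x * n⁻¹ * x ∈ A := fun n hn => p.idx _ (conj_mem_norm (hR.le hn) xX) _ xX
      (fun e => x1 ((mem_normalizer_iff.1 (mT.nrm (hT hn)) _).2 e)) x1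
    have n1 := k2 (conj_mem_cj k hn)
    have m1 := k2 (conj_mem_cj k hm)
    obtain ⟨e1, e2⟩ := mT.ab xT (hT n1) (hT m1) x1 x2 (k3 _ n1) (k3 _ m1)
    have := conj_mem_norm (inv_mem (mem_norm_centS k1)) (cen _ e1 e2)
    convert this using 1
    group
  obtain ⟨U, hU, hXU⟩ := exists_syl_ge hXp (show X ≤ 𝐂[x] from fun u hu => mem_cent.2 (com_of_sq p.sqX hu xX))
  have hg := h.conj g
  obtain ⟨c, c1, c2⟩ := hU.exists_conj_le (pg_of_sq hg.sq) fun u hu => mem_cent.2 (com_of_sq hg.sq hu (hxe ▸ conj_mem_cj g ha))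
  have hc := hg.conj c
  have xc : x ∈ cj c (cj g A) := by
    have := conj_mem_cj c (conj_mem_cj g ha)
    rwa [hxe, (mem_cent.1 c1).eq, mul_inv_cancel_right] at this
  obtain ⟨T', hT', mT'⟩ := hc.ext ((hS.conj_top g).conj_top c) hU.isPGroup c2
  obtain ⟨k, k1, k2⟩ := hR.exists_conj_le (pg_of_sq hc.sq) (mT'.norm32 (hXU.trans hT') p.sqX h32)
  rw [← cj_mul, ← cj_mul] at k2
  have e := mT.cj_eq (k2.trans hT)
  rw [cj_mul, cj_mul, cj_eq_iff] at e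
  rw [e] at xc
  have q := p.conj (inv_mem k1)
  have h1 : A ≤ Ch A (cj k⁻¹ A) X := (le_inf le_rfl (q.key p ab)).trans p.left
  obtain ⟨W, hW, hAW⟩ := exists_syl_ge (pg_of_sq h.sq) h1
  obtain ⟨d, d1, d2⟩ := hW.exists_conj_le (pg_of_sq q.sq) q.right
  obtain ⟨r, r1, r2⟩ := dec_two hW (fun o => q.odd) Ch.le d1
  obtain ⟨T, hT, mT⟩ := h.ext hS hW.isPGroup hAW
  rw [← cj_mul] at d2
  have := (mT.cj_eq (d2.trans hT)).le (cj_mul d _ A ▸ conj_mem_cj d xc)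
  rw [r2 x xX] at this
  exact x1 ((mem_normalizer_iff.1 (mT.nrm (hT r1)) _).2 this)

theorem no_cm (k : Cm A K ⊤) : False := by
  have c := h.sa hS
  obtain ⟨V, t, tv⟩ := c.exists_tv k
  have ht : ¬ ∀ v ∈ V, Commute t v := fun e => by
    obtain ⟨v, v1, w, w1, v2, w2, e'⟩ := tv.nc
    obtain ⟨i, hi⟩ := tv.tr v v1 v2 w w1 w2
    exact e' (by rw [← hi, ((e v v1).pow_left i).eq, mul_inv_cancel_right])
  have fix : ∀ d ∈ K, d ∈ 𝐍(A) → d ∈ 𝐂(A ⊓ CB K) := fun d h1 h2 => mem_centS.2 fun f hf =>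
    mul_inv_eq_iff_eq_mul.1 (c.fix k h1 h2 hf.1 hf.2)
  have h1 : ∀ g ∈ K, g ∈ 𝐍(A) → Two g → g ∈ 𝐂(A) := fun g g1 g2 g3 => by_contra fun g4 => by
    let Q := 𝐍(A) ⊓ 𝐂(A ⊓ CB K) ⊓ centQuo (A ⊓ CB K) A
    have θ : ∀ g ∈ K, g ∈ 𝐍(A) → Two g → ∀ a ∈ A, g * a * g⁻¹ * a⁻¹ ∈ A ⊓ CB K := fun g g1 g2 g3 a ha =>
      mem_inf.2 ⟨mul_mem (conj_mem_norm g2 ha) (inv_mem ha), c.two_cent k g1 g2 g3 a ha⟩
    have mQ : ∀ g ∈ K, g ∈ 𝐍(A) → Two g → g ∈ Q := fun g g1 g2 g3 => ⟨⟨g2, fix g g1 g2⟩, zpowers_le.1 (le_centQuo (c.nB inf_le_left)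
      (zpowers_le.2 (cent_le_norm _ (fix g g1 g2))) (commutator_le.2 fun a ha z hz => by
        obtain ⟨i, rfl⟩ := mem_powers_iff_mem_zpowers.2 hz
        have := inv_mem (θ _ (pow_mem g1 i) (pow_mem g2 i) (let ⟨j, e⟩ := g3; ⟨j, by rw [← pow_mul, mul_comm, pow_mul, e, one_pow]⟩) a ha)
        convert this using 1
        rw [commutatorElement_def]
        group))⟩
    obtain ⟨R, hR, hA⟩ := exists_syl_ge (c.pg le_rfl) (show A ≤ Q from le_inf (le_inf le_normalizer (c.A_cent inf_le_left))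
      ((le_inf (c.nB inf_le_left) (c.A_cent le_rfl)).trans (cent_le_centQuo _ _)))
    obtain ⟨T, hT, mT⟩ := h.ext hS hR.isPGroup hA
    obtain ⟨a, a1, a2⟩ := mT.reg
    have dc : ∀ i : ℕ, ∃ r ∈ T, r ∉ A ∧ ∀ x ∈ A, t ^ i * g * (t ^ i)⁻¹ * x * (t ^ i * g * (t ^ i)⁻¹)⁻¹ = r * x * r⁻¹ := fun i => by
      have t1 := pow_mem tv.nA i
      obtain ⟨r, r1, r2⟩ := dec_two (X := A) hR (fun o ho e => odd_cent (c.pg le_rfl) e ho.1.1 inf_le_left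
        (commutator_le_of_le_centQuo (c.nB inf_le_left) (zpowers_le.2 ho.2)) ho.1.2) (fun o ho => ho.1.1)
        (mQ _ (mul_mem (mul_mem (pow_mem tv.mem i) g1) (inv_mem (pow_mem tv.mem i))) (mul_mem (mul_mem t1 g2) (inv_mem t1)) (g3.conj _))
      refine ⟨r, hT r1, fun e => g4 ((mem_normalizer_iff.1 (mem_norm_centS t1) g).2 (mem_centS.2 fun x hx =>
        mul_inv_eq_iff_eq_mul.1 ?_)), r2⟩
      rw [r2 x hx, (c.com e hx).eq, mul_inv_cancel_right]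
    have g5 := mem_centS.1 (fix g g1 g2)
    by_cases hv : ∃ v ∈ V, v ≠ 1 ∧ Commute g v
    · obtain ⟨v, v1, v2, v3⟩ := hv
      obtain ⟨w, w1, f, f1, f2, e⟩ := tv.dec a a1
      obtain ⟨i, hi⟩ : ∃ i : ℕ, Commute (t ^ i * g * (t ^ i)⁻¹) w := by
        by_cases w2 : w = 1
        · exact ⟨0, w2 ▸ Commute.one_right _⟩
        · obtain ⟨i, rfl⟩ := tv.tr v v1 v2 w w1 w2
          exact ⟨i, commute_conj _ v3⟩
      obtain ⟨r, r1, r2, r3⟩ := dc i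
      have := commute_conj (t ^ i) (g5 f ⟨f1, f2⟩)
      rw [((mem_centS.1 (fix t tv.mem tv.nA) f ⟨f1, f2⟩).pow_left i).eq, mul_inv_cancel_right] at this
      refine r2 (a2 r r1 (mul_inv_eq_iff_eq_mul.1 ?_))
      rw [← r3 a a1, e, (hi.mul_right this).eq, mul_inv_cancel_right]
    obtain ⟨r, r1, r2, r3⟩ := dc 0
    obtain ⟨s, s1, s2, s3⟩ := dc 1
    simp only [pow_zero, inv_one, one_mul, mul_one, pow_one] at r3 s3
    have r4 : r * r ∈ A := a2 _ (mul_mem r1 r1) (mul_inv_eq_iff_eq_mul.1 (by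
      have e := θ g g1 g2 g3 a a1
      calc _ = r * (r * a * r⁻¹) * r⁻¹ := by group
        _ = g * (g * a * g⁻¹ * a⁻¹) * g⁻¹ * (g * a * g⁻¹ * a⁻¹ * a) := by
          rw [← r3 a a1, ← r3 _ (conj_mem_norm g2 a1)]; group
        _ = _ := by rw [(g5 _ e).eq, mul_inv_cancel_right, ← mul_assoc, c.sq _ e.1, one_mul]))
    have h2 : A ⊓ 𝐂[r] ≤ 𝐂[s] := fun x hx => by
      obtain ⟨w, w1, f, f1, f2, rfl⟩ := tv.dec x hx.1
      have e : Commute g (w * f) := mul_inv_eq_iff_eq_mul.1 (by rw [r3 _ hx.1, ← (mem_cent.1 hx.2).eq, mul_inv_cancel_right])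
      have w2 : w = 1 := by_contra fun w2 => hv ⟨w, w1, w2, by simpa using e.mul_right (g5 f ⟨f1, f2⟩).inv_right⟩
      have := commute_conj t (g5 f ⟨f1, f2⟩)
      rw [(mem_centS.1 (fix t tv.mem tv.nA) f ⟨f1, f2⟩).eq, mul_inv_cancel_right] at this
      rw [w2, one_mul]
      refine mem_cent.2 (Commute.symm (mul_inv_eq_iff_eq_mul.1 ?_))
      rw [← s3 f f1, this.eq, mul_inv_cancel_right]
    have h3 : r⁻¹ * s ∈ A := by_contra fun e => by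
      have := mT.c8 r1 s1 r2 s2 e
      rw [inf_eq_left.2 h2, mT.c16 r1 r2 r4] at this
      omega
    refine ht fun v hv' => mul_inv_eq_iff_eq_mul.1 (by_contra fun e => hv ⟨_, mul_mem hv' (conj_mem_norm tv.nV hv'),
      fun e' => e ((eq_inv_of_mul_eq_one_right e').trans (c.inv (tv.le hv'))), mul_inv_eq_iff_eq_mul.1 ?_⟩)
    have v1 := tv.le hv'
    have v2 := conj_mem_norm tv.nA v1
    have e1 := θ g g1 g2 g3 v v1
    have e2 : g * (t * v * t⁻¹) * g⁻¹ = g * v * g⁻¹ * v⁻¹ * (t * v * t⁻¹) :=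
      calc _ = r * ((r⁻¹ * s) * (t * v * t⁻¹) * (r⁻¹ * s)⁻¹) * r⁻¹ := by rw [r3 _ v2, (c.com h3 v2).eq, mul_inv_cancel_right]
        _ = t * (g * v * g⁻¹ * v⁻¹) * t⁻¹ * (t * v * t⁻¹) := by
          rw [show r * ((r⁻¹ * s) * (t * v * t⁻¹) * (r⁻¹ * s)⁻¹) * r⁻¹ = s * (t * v * t⁻¹) * s⁻¹ by group, ← s3 _ v2]; group
        _ = _ := by rw [(mem_centS.1 (fix t tv.mem tv.nA) _ e1).eq, mul_inv_cancel_right]
    rw [← conj_mul, e2, ← mul_assoc, ← inv_mul_cancel_right (g * v * g⁻¹) v, mul_inv_cancel_right, (c.com e1.1 v1).eq,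
      mul_assoc v, c.sq _ e1.1, mul_one]
  let f := A.normalizerMonoidHom
  have h2 : (Nat.card ((K.subgroupOf 𝐍(A)).map f)).Coprime 2 := Nat.coprime_two_right.2 (Nat.not_even_iff_odd.1 fun e => by
    obtain ⟨⟨_, y, y1, rfl⟩, y2⟩ := exists_prime_orderOf_dvd_card' 2 e.two_dvd
    replace y2 : orderOf (f y) = 2 := (orderOf_coe _).trans y2
    obtain ⟨s, s1, o, -, s2, o2, rfl⟩ := exists_two_odd y
    have : s ∈ f.ker := normalizerMonoidHom_ker A ▸ h1 s (zpowers_le.2 y1 s1) s.2 (s2.map 𝐍(A).subtype)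
    rw [map_mul, show f s = 1 from this, one_mul] at y2
    exact absurd (o2.of_dvd_nat (y2 ▸ orderOf_map_dvd f o)) (by norm_num))
  have h3 := ((subnormalIn_top_iff.2 (subnormalIn_top_iff.1 k.pc.sn).subgroupOf).map f).le_pPrimeCoreOf h2
  rw [h.odd_bot (Nat.coprime_two_right.1 (coprime_card_pPrimeCoreOf _)) fun s =>
    le_normalizer_pPrimeCoreOf _ (mem_map_of_mem f (mem_top s))] at h3
  have h4 : (⟨t, tv.nA⟩ : 𝐍(A)) ∈ f.ker := h3 (mem_map_of_mem f (show (⟨t, tv.nA⟩ : 𝐍(A)) ∈ K.subgroupOf _ from tv.mem))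
  rw [normalizerMonoidHom_ker] at h4
  exact ht fun v hv => mem_centS.1 h4 v (tv.le hv)

theorem normal : (A ⊔ pPrimeCore 2 G).Normal := normal_of_no_cm (h.sa hS) fun _ => h.no_cm hS

end MT

theorem m24_quo (hO : pPrimeCore 2 G = ⊥) (hS : Syl 2 S ⊤) (P : Sylow 2 M24) (e : S ≃* P ⧸ center P) (hA : A ≤ S)
    (hc : IsMulCommutative A) (h64 : Nat.card A = 64) : A.Normal := by
  obtain ⟨f, f1, f2, -⟩ := m24_sylow P
  let e' := (e.trans (QuotientGroup.quotientMulEquivOfEq f2.symm)).trans (QuotientGroup.quotientKerEquivOfSurjective f f1)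
  have h : MT S (Q5.A0.map (S.subtype.comp e'.symm.toMonoidHom)) := ⟨_, S.subtype_injective.comp e'.symm.injective,
    by rw [MonoidHom.range_comp, MonoidHom.range_eq_top.2 e'.symm.surjective, map_subtype_top], rfl⟩
  have := h.normal hS
  rwa [hO, sup_bot_eq, ← h.uniq hA hc h64] at this

theorem m24_central {E : Subgroup G} (hO : pPrimeCore 2 G = ⊥) (hT : Syl 2 T ⊤) (P : Sylow 2 M24) (e : T ≃* P)
    (hZ : T ⊓ 𝐂(T) ≤ center G) (hE : E ≤ T) (hn : T ≤ 𝐍(E)) (hx : IsExtraspecial 2 E) (h7 : Nat.card E = 2 ^ 7) : E.Normal := by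
  obtain ⟨f, f1, f2, f3⟩ := m24_sylow P
  haveI : (T ⊓ 𝐂(T)).Normal := ⟨fun z hz g => by rwa [mem_center_iff.1 (hZ hz) g, mul_inv_cancel_right]⟩
  have h1 : Nat.card ↥(T ⊓ 𝐂(T)) = 2 := by
    have := f.ker.card_mul_index
    rw [index_ker, MonoidHom.range_eq_top.2 f1, card_top, Q5.card, f3, f2, ← Nat.card_congr (centerCongr e).toEquiv,
      ← card_map_subtype, Layer.map_subtype_center] at this
    omega
  have h2 : Nat.card ↥(E ⊓ 𝐂(E)) = 2 := by rw [← Layer.map_subtype_center, card_map_subtype, hx.2]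
  have h3 : E ⊓ 𝐂(E) = T ⊓ 𝐂(T) := by
    refine eq_of_le_of_card_ge (fun z hz => ⟨hE hz.1, mem_centS.2 fun t ht => Commute.symm (mul_inv_eq_iff_eq_mul.1 ?_)⟩) (by rw [h1, h2])
    by_cases z1 : z = 1
    · simp [z1]
    obtain ⟨y, -, hy⟩ := (Nat.card_eq_two_iff' (1 : ↥(E ⊓ 𝐂(E)))).1 h2
    exact congrArg Subtype.val ((hy ⟨_, conj_mem_norm (hn ht) hz.1, conj_mem_norm (mem_norm_centS (hn ht)) hz.2⟩
      fun e => z1 (by simpa using congrArg Subtype.val e)).trans (hy ⟨z, hz⟩ fun e => z1 (congrArg Subtype.val e)).symm)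
  let π := QuotientGroup.mk' (T ⊓ 𝐂(T))
  let φ := π.subgroupMap T
  have h4 : φ.ker = center T := by
    ext x
    rw [MonoidHom.mem_ker, Subtype.ext_iff, ← mem_map_iff_mem T.subtype_injective, Layer.map_subtype_center]
    exact QuotientGroup.eq_one_iff _
  have := m24_quo (A := E.map π) (R2.oddCore_quotient hO (hT.isPGroup.to_le inf_le_left) hZ) (hT.map_top (QuotientGroup.mk'_surjective _)) P
    (((QuotientGroup.quotientKerEquivOfSurjective φ (π.subgroupMap_surjective T)).symm.trans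
      (QuotientGroup.quotientMulEquivOfEq h4)).trans (QuotientGroup.congr _ _ e (by
        rw [map_equiv_eq_comap_symm]; ext x; exact MulEquivClass.apply_mem_center_iff e.symm))) (map_mono hE)
    (PGrp.isMulCommutative_iff_forall.2 (by
      rintro _ ⟨a, ha, rfl⟩ _ ⟨b, hb, rfl⟩
      rw [← commutatorElement_eq_one_iff_mul_comm, ← map_commutatorElement]
      refine (QuotientGroup.eq_one_iff _).2 ?_
      rw [← h3, ← Layer.map_subtype_center, ← hx.1.2.2]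
      exact ⟨⁅⟨a, ha⟩, ⟨b, hb⟩⁆, commutator_mem_commutator (mem_top _) (mem_top _), rfl⟩)) (by
      have := card_map_mul_card_inf_ker π E
      rw [QuotientGroup.ker_mk', inf_eq_left.2 (h3.ge.trans inf_le_left), h1, h7] at this
      omega)
  have h5 := this.comap π
  rwa [comap_map_eq_self (by rw [QuotientGroup.ker_mk']; exact h3.ge.trans inf_le_left)] at h5

end Cfsg.Lib.Block.Scn
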