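import Cfsg.Agent.Lib.Block.Nin11
import Cfsg.Agent.Lib.Block2.Quot

/-! # Groups whose Sylow `3`-normalizer is `S₃ × S₃` -/

set_option autoImplicit false
set_option linter.unusedSectionVars false
set_option synthInstance.maxSize 100000
set_option maxRecDepth 100000

namespace Cfsg.Lib.Block.Ten

open Cfsg Cfsg.Lib.Block2 Cfsg.Lib.Char Cfsg.Lib.Invol Cfsg.Lib.Transfer Cfsg.Lib.Block.Tri Cfsg.Lib.X32 Subgroup SemidirectProduct
open scoped ComplexConjugate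

local notation "𝐍(" X ")" => normalizer (SetLike.coe X)
local notation "𝐂(" X ")" => centralizer (SetLike.coe X)
local notation "𝐂[" x "]" => centralizer ({x} : Set _)

def τ5 : Fin 9 → Fin 5 → ℤ :=
  ![![1, 1, 1, 1, 1], ![1, 1, 1, 1, -1], ![1, 1, 1, -1, 1], ![1, 1, 1, -1, -1], ![-1, 2, -1, -1, 0], ![-1, 2, -1, 1, 0],
    ![2, -1, -1, 0, -1], ![2, -1, -1, 0, 1], ![-2, -2, 1, 0, 0]]

def M5 : Fin 9 → Fin 5 → Fin 5 → ℤ :=
  ![![![4, 1, 6, 6, 3], ![0, -2, 0, 3, 6], ![0, 0, 0, 0, 0], ![0, 0, 0, 0, 9], ![0, 0, 0, 0, 0]],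
    ![![4, 1, 6, 6, -3], ![0, -2, 0, 3, -6], ![0, 0, 0, 0, 0], ![0, 0, 0, 0, -9], ![0, 0, 0, 0, 0]],
    ![![4, 1, 6, -6, 3], ![0, -2, 0, -3, 6], ![0, 0, 0, 0, 0], ![0, 0, 0, 0, -9], ![0, 0, 0, 0, 0]],
    ![![4, 1, 6, -6, -3], ![0, -2, 0, -3, -6], ![0, 0, 0, 0, 0], ![0, 0, 0, 0, 9], ![0, 0, 0, 0, 0]],
    ![![-2, -2, 0, 6, 0], ![0, 4, 0, -6, 0], ![0, 0, 0, 0, 0], ![0, 0, 0, 0, 0], ![0, 0, 0, 0, 0]],
    ![![-2, -2, 0, -6, 0], ![0, 4, 0, 6, 0], ![0, 0, 0, 0, 0], ![0, 0, 0, 0, 0], ![0, 0, 0, 0, 0]],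
    ![![4, -2, 0, 0, -6], ![0, -2, 0, 0, 6], ![0, 0, 0, 0, 0], ![0, 0, 0, 0, 0], ![0, 0, 0, 0, 0]],
    ![![4, -2, 0, 0, 6], ![0, -2, 0, 0, -6], ![0, 0, 0, 0, 0], ![0, 0, 0, 0, 0], ![0, 0, 0, 0, 0]],
    ![![-2, 4, -6, 0, 0], ![0, 4, 0, 0, 0], ![0, 0, 0, 0, 0], ![0, 0, 0, 0, 0], ![0, 0, 0, 0, 0]]]

def N5 : Fin 5 → ℤ := ![18, 18, 9, 6, 6]

theorem row5 : ∀ x ∈ Nin.L 4, x ≠ 0 → ∀ y ∈ Nin.L 4, y ≠ 0 → (x - y) % 3 = 0 → ∀ z ∈ Nin.L 3, z ≠ 0 → (x - z) % 3 = 0 →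
    ∀ u ∈ Nin.L 2, (x - u) % 2 = 0 → ∀ v ∈ Nin.L 2, (y - v) % 2 = 0 → x * x + y * y + 2 * (z * z) + 3 * (u * u) + 3 * (v * v) ≤ 18 →
    0 ≤ 4 * (z * z) - x * x - 3 * (u * u) ∧ (4 * (z * z) - x * x - 3 * (u * u) = 0 →
      ∃ j, ![x, y, z, u, v] = τ5 j ∨ ![x, y, z, u, v] = -τ5 j) := by decide +kernel

theorem rows5 {I : Type*} [Fintype I] [DecidableEq I] {R : I → Fin 5 → ℤ}
    (hG : ∀ a b, ∑ i, R i a * R i b = if a = b then N5 a else 0) (h0 : ∀ i, R i = 0 ∨ (R i 0 ≠ 0 ∧ R i 1 ≠ 0 ∧ R i 2 ≠ 0))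
    (h1 : ∀ i, 3 ∣ R i 0 - R i 1 ∧ 3 ∣ R i 0 - R i 2 ∧ 2 ∣ R i 0 - R i 3 ∧ 2 ∣ R i 1 - R i 4) :
    ∃ (e : Fin 9 → I) (ε : Fin 9 → ℤ), Function.Injective e ∧ (∀ j, ε j = 1 ∨ ε j = -1) ∧ (∀ j a, R (e j) a = ε j * τ5 j a) ∧
      (∀ i j, R i = τ5 j ∨ R i = -τ5 j → i = e j) ∧ ∀ i ∉ Set.range e, R i = 0 := by
  have k : ∀ i, 0 ≤ 4 * (R i 2 * R i 2) - R i 0 * R i 0 - 3 * (R i 3 * R i 3) ∧
      (4 * (R i 2 * R i 2) - R i 0 * R i 0 - 3 * (R i 3 * R i 3) = 0 → R i = 0 ∨ ∃ j, R i = τ5 j ∨ R i = -τ5 j) := fun i => by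
    rcases h0 i with h | h
    · simp [h]
    have hb := bessel (w := ![1, 1, 2, 3, 3]) (L := 18) (by decide) hG (by decide) i
    have e : R i = ![R i 0, R i 1, R i 2, R i 3, R i 4] := by ext a; fin_cases a <;> rfl
    simp only [Fin.sum_univ_five, Matrix.cons_val, one_mul] at hb
    have h1 := h1 i
    rw [e]
    generalize R i 0 = x, R i 1 = y, R i 2 = z, R i 3 = u, R i 4 = v at *
    exact (row5 x (Nin.mem_L (by push_cast; nlinarith)) h.1 y (Nin.mem_L (by push_cast; nlinarith)) h.2.1 (by omega) z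
      (Nin.mem_L (by push_cast; nlinarith)) h.2.2 (by omega) u (Nin.mem_L (by push_cast; nlinarith)) (by omega) v
      (Nin.mem_L (by push_cast; nlinarith)) (by omega) hb).imp_right fun h e => .inr (h e)
  refine exists_rows τ5 hG (fun i => (k i).2 ((Finset.sum_eq_zero_iff_of_nonneg fun i _ => (k i).1).1 ?_ i (Finset.mem_univ i))) M5
    (K := 36) (by decide) (by decide +kernel) (by decide +kernel)
  simp [Finset.sum_sub_distrib, ← Finset.mul_sum, hG, N5]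

theorem num5 {p q r a b c d s : ℤ} (l0 : 1 + p + q + r - a - b + 2 * c + 2 * d - 2 * s = 0)
    (l1 : 1 + p + q + r + 2 * a + 2 * b - c - d - 2 * s = 0) (l2 : 1 + p + q + r - a - b - c - d + s = 0)
    (l3 : 1 + p - q - r - a + b = 0) (l4 : 1 - p + q - r - c + d = 0) (p0 : p ≠ 0) (a0 : a ≠ 0) (b0 : b ≠ 0) (c0 : c ≠ 0)
    (d0 : d ≠ 0) (s0 : s ≠ 0)
    (e1 : (1 + 1 / p + 1 / q + 1 / r + 2 / a + 2 / b - 4 / c - 4 / d - 8 / s : ℚ) = 0)
    (e2 : (1 + 1 / p + 1 / q + 1 / r - 1 / a - 1 / b - 4 / c - 4 / d + 4 / s : ℚ) = 0)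
    (e3 : (1 + 1 / p + 1 / q + 1 / r - 4 / a - 4 / b + 2 / c + 2 / d - 8 / s : ℚ) = 0) : p = 1 ∧ q = 1 := by
  have k : ∀ a b : ℤ, a ≠ 0 → b ≠ 0 → s = a + b → (1 / a + 1 / b : ℚ) = 4 / s → a = b := fun a b a0 b0 e h => by
    have : (a : ℚ) ≠ 0 := by exact_mod_cast a0
    have : (b : ℚ) ≠ 0 := by exact_mod_cast b0
    have : (s : ℚ) ≠ 0 := by exact_mod_cast s0
    field_simp at h
    have h2 : ((a - b : ℤ) : ℚ) ^ 2 = 0 := by rw [e] at h; push_cast at h ⊢; linear_combination h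
    have : a - b = 0 := by exact_mod_cast pow_eq_zero_iff (two_ne_zero) |>.1 h2
    omega
  have h1 := k a b a0 b0 (by omega) (by linear_combination (e1 - e2) / 3)
  have h2 := k c d c0 d0 (by omega) (by linear_combination (e1 - e2) / 3 - (e1 - e3) / 6)
  obtain rfl : q = p := by omega
  obtain rfl : r = 1 := by omega
  obtain rfl : b = 1 + q := by omega
  obtain rfl : d = 1 + q := by omega
  obtain rfl : s = 2 * (1 + q) := by omega
  subst h1 h2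
  have : (q : ℚ) ≠ 0 := by exact_mod_cast p0
  have : ((1 + q : ℤ) : ℚ) ≠ 0 := by exact_mod_cast a0
  push_cast at e1 this
  field_simp at e1
  have h2 : ((q - 1 : ℤ) : ℚ) ^ 2 = 0 := by push_cast; linear_combination e1 / 4
  have : q - 1 = 0 := by exact_mod_cast pow_eq_zero_iff (two_ne_zero) |>.1 h2
  omega

def act4 (d : K4) (a : A2) : A2 := (sg3 d.1 a.1, sg3 d.2 a.2)

def φ4 : K4 →* MulAut A2 :=
  MonoidHom.mk' (fun d => ⟨⟨act4 d, act4 d, by revert d; decide, by revert d; decide⟩, by revert d; decide +kernel⟩)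
    fun a b => MulEquiv.ext (show ∀ x, act4 (a * b) x = act4 a (act4 b x) by revert a b; decide +kernel)

abbrev W4 := A2 ⋊[φ4] K4

instance : Fintype W4 := Fintype.ofEquiv _ SemidirectProduct.equivProd.symm

def V4 : Subgroup W4 := rightHom.ker

instance : DecidablePred (· ∈ V4) := fun a => decidable_of_iff (a.right = 1) Iff.rfl

def g5 : Fin 5 → W4 := ![inl e1, inl e2, inl (e1 * e2), inl e1 * inr (1, ν), inl e2 * inr (ν, 1)]

abbrev C0 : Subgroup W4 := sg (fun c => c.right.1 = 1) (by decide +kernel)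

variable {G : Type*} [Group G] [Finite G] {κ : W4 →* G} {g x y z : G} {a b v : W4}

theorem mem_B0 {M : Ideal AlgInt} [M.IsMaximal] (hM : IsPModular 3 M) {T : Subgroup G} (hT : IsPGroup 3 T) (hz : IsPPart 3 g z)
    (le : T ≤ 𝐂[z]) (hn : 𝐂[z] ≤ 𝐍(T)) (hC : 𝐂(T) ≤ T) (χ : IrrCharacter G) (h0 : χ.1 g ≠ 0) : χ ∈ principalBlock M G := by
  classical
  have := Fintype.ofFinite 𝐂[z]
  refine by_contra fun hχ => h0 ?_
  have h1 := (allInd_centralizer_singleton hM hz.orderOf_eq).blockPart_principal hM (h := ⟨g, mem_cent.2 hz.commute.symm⟩) hz le_rfl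
    χ.2.isClassFunction
  haveI := normal_subgroupOf_of_le_normalizer hn
  have h2 : ∀ ξ : IrrCharacter 𝐂[z], ξ ∈ principalBlock M 𝐂[z] := fun ξ =>
    sameBlock_of_cent_le hM (P := T.subgroupOf 𝐂[z]) hT.comap_subtype
      (fun x hx => hC fun a ha => congrArg Subtype.val (hx ⟨a, le ha⟩ ha)) (principalIrr _) ξ
  rw [blockPart_irr_of_notMem hχ, blockPart_eq, Finset.filter_true_of_mem fun ξ _ => h2 ξ,
    ← (χ.2.isClassFunction.restrict _).eq_sum] at h1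
  exact h1.symm

theorem pair_zero [Fintype G] (h : ∀ a b, IsConj x a → IsConj y b → a * b ≠ z) : pairFun x y z = (0 : ℕ) := by
  classical
  simp only [pairFun, Nat.cast_zero]
  exact Finset.sum_eq_zero fun a ha => Finset.sum_eq_zero fun b hb =>
    if_neg (h a b (Finset.mem_filter.1 ha).2 (Finset.mem_filter.1 hb).2)

theorem card_cent {W : Type*} [Group W] [Fintype W] [DecidableEq W] {κ : W →* G} {a : W} (hi : Function.Injective κ)
    (h : 𝐂[κ a] ≤ κ.range) : Nat.card 𝐂[κ a] = (Finset.univ.filter fun c => c * a = a * c).card := by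
  rw [← Fintype.card_subtype, ← Nat.card_eq_fintype_card]
  refine (Nat.card_eq_of_bijective (fun c : {c // c * a = a * c} => (⟨κ c.1, mem_cent.2 (Commute.map c.2 κ)⟩ : 𝐂[κ a]))
    ⟨fun c d e => Subtype.ext (hi (Subtype.ext_iff.1 e)), fun ⟨g, hg⟩ => ?_⟩).symm
  obtain ⟨c, rfl⟩ := h hg
  exact ⟨⟨c, hi (by simpa using (mem_cent.1 hg).eq)⟩, rfl⟩

/-- `κ` embeds the normalizer of a Sylow `3`-subgroup -/
structure G2 (κ : W4 →* G) : Prop where
  inj : Function.Injective κ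
  syl : SylowIn 3 (V4.map κ) ⊤
  nrm : 𝐍(V4.map κ) ≤ κ.range
  cen : ∀ v ∈ V4, v.left.2 ≠ 1 → 𝐂[κ v] ≤ κ.range
  o57 : ∀ g, Commute g (κ (g5 0)) → orderOf g ≠ 5 ∧ orderOf g ≠ 7

theorem V4_comm : V4.map κ ≤ 𝐂(V4.map κ) := by
  rintro _ ⟨a, ha, rfl⟩ _ ⟨b, hb, rfl⟩
  exact Commute.map ((by decide +kernel : ∀ a ∈ V4, ∀ b ∈ V4, a * b = b * a) b hb a ha) κ

theorem range_le4 : κ.range ≤ 𝐍(V4.map κ) := by
  rintro _ ⟨c, rfl⟩
  refine mem_normalizer_of_cj_le (cj_le_iff.2 ?_)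
  rintro _ ⟨v, hv, rfl⟩
  exact ⟨_, (MonoidHom.normal_ker _).conj_mem v hv c, by simp⟩

theorem cube4 (hv : v ∈ V4) : κ v ^ 3 = 1 := by rw [← map_pow, (by decide +kernel : ∀ v ∈ V4, v ^ 3 = 1) v hv, map_one]

namespace G2
variable (h : G2 κ)
include h

theorem fus (ha : a ∈ V4) (hb : b ∈ V4) (e : g * κ a * g⁻¹ = κ b) : ∃ c, κ c * κ a * (κ c)⁻¹ = κ b := by
  obtain ⟨n, hn, e1⟩ := h.syl.exists_normalizer_conj_eq (mem_top g) (V4_comm ⟨a, ha, rfl⟩) (e ▸ V4_comm ⟨b, hb, rfl⟩)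
  obtain ⟨c, rfl⟩ := h.nrm hn.2
  exact ⟨c, e1.trans e⟩

theorem isConj_V (ha : a ∈ V4) (hb : b ∈ V4) (e : IsConj (κ a) (κ b)) : ∃ c, c * a = b * c := by
  obtain ⟨g, e⟩ := isConj_iff.1 e
  obtain ⟨c, e⟩ := h.fus ha hb e
  exact ⟨c, h.inj (by rw [map_mul, map_mul, ← e, inv_mul_cancel_right])⟩

theorem mem (h1 : (a ^ 4).left.2 ≠ 1) (e : g * κ a * g⁻¹ = κ b) : g ∈ κ.range := by
  have p : ∀ a : W4, a ^ 4 ∈ V4 := by decide +kernel
  have e1 : g * κ (a ^ 4) * g⁻¹ = κ (b ^ 4) := by rw [map_pow, map_pow, ← conj_pow, e]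
  obtain ⟨c, e2⟩ := h.fus (p a) (p b) e1
  refine (mul_mem_cancel_left (κ.range.inv_mem ⟨c, rfl⟩)).1 (h.cen _ (p a) h1 (mem_cent.2 (mul_inv_eq_iff_eq_mul.1 ?_)))
  calc _ = (κ c)⁻¹ * (g * κ (a ^ 4) * g⁻¹) * κ c := by group
    _ = _ := by rw [e1, ← e2]; group

theorem cent_le : 𝐂(V4.map κ) ≤ V4.map κ := fun g hg => by
  obtain ⟨c, rfl⟩ := h.nrm (centralizer_le_normalizer _ hg)
  exact ⟨c, (by decide +kernel : ∀ c, (∀ v ∈ V4, v * c = c * v) → c ∈ V4) c fun v hv => h.inj (by simpa using hg _ ⟨v, hv, rfl⟩), rfl⟩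

theorem memV (hv : v ∈ V4) (h1 : v.left.2 ≠ 1) (hc : Commute x (κ v)) (x3 : x ^ 3 = 1) : x ∈ V4.map κ := by
  obtain ⟨c, rfl⟩ := h.cen v hv h1 (mem_cent.2 hc)
  exact ⟨c, (by decide +kernel : ∀ c : W4, c ^ 3 = 1 → c ∈ V4) c (h.inj (by simpa using x3)), rfl⟩

theorem eq_a (hx : IsConj (κ (g5 0)) x) (hv : v ∈ V4) (v1 : v ≠ 1) (hc : Commute x (κ v)) : x = κ (g5 0) ∨ x = κ (g5 0)⁻¹ := by
  have x3 : x ^ 3 = 1 := by obtain ⟨g, rfl⟩ := isConj_iff.1 hx; rw [conj_pow, cube4 rfl]; simp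
  have k : ∀ y ∈ V4.map κ, IsConj (κ (g5 0)) y → y = κ (g5 0) ∨ y = κ (g5 0)⁻¹ := by
    rintro _ ⟨b, hb, rfl⟩ e
    exact ((by decide +kernel : ∀ b, (∃ c, c * g5 0 = b * c) → b = g5 0 ∨ b = (g5 0)⁻¹) b (h.isConj_V rfl hb e)).imp
      (congrArg κ) (congrArg κ)
  by_cases h1 : v.left.2 = 1
  · have c : Commute x (κ (g5 0)) := by
      rcases (by decide +kernel : ∀ v ∈ V4, v ≠ 1 → v.left.2 = 1 → g5 0 = v ∨ g5 0 = v⁻¹) v hv v1 h1 with e | e <;> rw [e]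
      exacts [hc, map_inv κ v ▸ hc.inv_right]
    obtain ⟨g, hg, e⟩ := (h.syl.mono (K := 𝐂[κ (g5 0)]) (fun t ht => mem_cent.2 (V4_comm ht _ ⟨_, rfl, rfl⟩).symm) le_top).exists_cj_le
      (isP x3) (zpowers_le.2 (mem_cent.2 c))
    have c1 := (mem_cent.1 hg).inv_left
    refine (k _ (cj_zpowers_le.1 e) (hx.trans (isConj_iff.2 ⟨g, rfl⟩))).imp (fun e => ?_) fun e => ?_
    · rw [← c1.mul_inv_cancel, ← e]; group
    · rw [map_inv, ← c1.inv_right.mul_inv_cancel, ← map_inv κ, ← e]; group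
  · exact k x (h.memV hv h1 hc x3) hx

theorem pair [Fintype G] (ha : a ∈ V4) (hv : v ∈ V4) (h1 : v.left.2 ≠ 1)
    (hn : ∀ c, c * a ≠ (g5 0)⁻¹ * v * c ∧ c * a ≠ g5 0 * v * c) (hn' : (∀ c, c * g5 0 ≠ a * c) ∨ ∀ c, c * g5 0 ≠ v⁻¹ * c) :
    pairFun (κ (g5 0)) (κ a) (κ v) = (0 : ℕ) := pair_zero fun x y hx hy e => by
  have p3 : ∀ {a x}, a ∈ V4 → IsConj (κ a) x → x ^ 3 = 1 := fun h1 h2 => by
    obtain ⟨g, rfl⟩ := isConj_iff.1 h2; rw [conj_pow, cube4 h1]; simp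
  rcases Nin.tri (p3 rfl hx) (p3 ha hy) (e ▸ cube4 hv) with ⟨f, f3, c1, c2⟩ | ⟨c1, c2⟩
  · obtain ⟨t, ht, rfl⟩ := h.memV hv h1 (e ▸ c1.mul_right c2) (f3 ▸ pow_orderOf_eq_one f)
    rw [← eq_inv_mul_iff_mul_eq] at e
    rcases h.eq_a hx ht (by rintro rfl; simp at f3) c1.symm with rfl | rfl <;> rw [e, ← map_inv, ← map_mul] at hy
    · obtain ⟨c, hc⟩ := h.isConj_V ha (V4.mul_mem (V4.inv_mem rfl) hv) hy
      exact (hn c).1 hc
    · rw [inv_inv] at hy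
      obtain ⟨c, hc⟩ := h.isConj_V ha (V4.mul_mem rfl hv) hy
      exact (hn c).2 hc
  · rcases hn' with hn' | hn'
    · obtain ⟨c, hc⟩ := h.isConj_V rfl ha (hx.trans (c1.trans hy.symm))
      exact hn' c hc
    · rw [e, ← map_inv] at c2
      obtain ⟨c, hc⟩ := h.isConj_V rfl (V4.inv_mem hv) (hx.trans c2)
      exact hn' c hc

theorem mem0 (c : C0) : κ c ∈ 𝐂[κ (g5 0)] :=
  mem_cent.2 (Commute.map ((by decide +kernel : ∀ c ∈ C0, c * g5 0 = g5 0 * c) c.1 c.2) κ)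

theorem exists_f : ∃ f : 𝐂[κ (g5 0)] →* C0, Function.Surjective f ∧ ¬ 3 ∣ Nat.card f.ker ∧ ∀ c : C0, f ⟨κ c, h.mem0 c⟩ = c := by
  let κ0 : C0 →* 𝐂[κ (g5 0)] := (κ.comp C0.subtype).codRestrict _ h.mem0
  let η := QuotientGroup.mk' (pPrimeCore 3 𝐂[κ (g5 0)])
  have co := Core.coprime_card_pPrimeCore 3 𝐂[κ (g5 0)]
  have i0 : Function.Injective κ0 := fun a b e => Subtype.ext (h.inj (congrArg Subtype.val e))
  have o : ∀ c, c ^ 3 = 1 → η (κ0 c) = 1 → c = 1 := fun c c3 e => i0 (by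
    rw [map_one]
    exact orderOf_eq_one_iff.1 (Nat.eq_one_of_dvd_coprimes co (orderOf_dvd_natCard _ ((QuotientGroup.eq_one_iff _).1 e))
      (orderOf_dvd_of_pow_eq_one (by rw [← map_pow, c3, map_one]))))
  let A : C0 := ⟨g5 0, rfl⟩
  let B : C0 := ⟨g5 1, rfl⟩
  have i1 : Function.Injective (η.comp κ0) := (injective_iff_map_eq_one _).2 fun c e => by
    rcases (by decide +kernel : ∀ c : C0, c ^ 3 = 1 ∨ (B * c * B⁻¹ * c⁻¹) ^ 3 = 1 ∧ B * c * B⁻¹ * c⁻¹ ≠ 1) c with e1 | e1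
    exacts [o c e1 e, absurd (o _ e1.1 (by simp [show η (κ0 c) = 1 from e])) e1.2]
  have zc : ∀ g, g * κ0 A = κ0 A * g := fun g => Subtype.ext (mem_cent.1 g.2)
  have A3 : κ0 A ^ 3 = 1 := Subtype.ext (cube4 rfl)
  have zc' : zpowers (η (κ0 A)) ≤ center _ := zpowers_le.2 (mem_center_iff.2 fun g => by
    obtain ⟨g, rfl⟩ := QuotientGroup.mk'_surjective _ g
    rw [← map_mul, zc, map_mul])
  haveI : (zpowers (κ0 A)).Normal := ⟨fun a ⟨k, hk⟩ g => by rw [← hk, ← conj_zpow, zc]; simp⟩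
  haveI : (zpowers (η (κ0 A))).Normal := ⟨fun a ha g => by rwa [mem_center_iff.1 (zc' ha) g, mul_inv_cancel_right]⟩
  have nB : ∀ k : Fin 3, B ≠ A ^ k.1 := by decide +kernel
  have c3 : Exc.C3 (QuotientGroup.mk' (zpowers (κ0 A)) (κ0 B)) := by
    refine ⟨orderOf_eq_prime (by rw [← map_pow, ← map_one (QuotientGroup.mk' _)]; exact congrArg _ (Subtype.ext (cube4 rfl))) fun e => ?_,
      fun g hg => ?_⟩
    · obtain ⟨k, e⟩ := (Nin.mem_zp3 A3).1 ((QuotientGroup.eq_one_iff _).1 e)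
      exact nB k (i0 (by rw [e, map_pow]))
    obtain ⟨g, rfl⟩ := QuotientGroup.mk'_surjective _ g
    obtain ⟨k, e⟩ := (Nin.mem_zp3 A3).1 ((QuotientGroup.eq (a := κ0 B) (b := g * κ0 B * g⁻¹)).1 hg.mul_inv_cancel.symm)
    rw [inv_mul_eq_iff_eq_mul, ← map_pow, ← map_mul] at e
    obtain ⟨c, hc⟩ := h.mem (a := g5 1) (b := (B * A ^ k.1).1) (by decide) (congrArg Subtype.val e)
    obtain ⟨i, j, rfl⟩ := (by decide +kernel : ∀ c, ∀ k : Fin 3, c * g5 0 = g5 0 * c → c * g5 1 * c⁻¹ = g5 1 * g5 0 ^ k.1 →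
      ∃ i j : Fin 3, c = (B ^ i.1 * A ^ j.1).1) c k (h.inj (by simpa [hc] using (mem_cent.1 g.2).eq))
      (h.inj (by rw [map_mul, map_mul, map_inv, hc]; exact congrArg Subtype.val e))
    rw [show g = κ0 (B ^ i.1 * A ^ j.1) from Subtype.ext hc.symm, map_mul, map_mul, map_pow, map_pow, map_pow, map_pow,
      show QuotientGroup.mk' (zpowers (κ0 A)) (κ0 A) = 1 from (QuotientGroup.eq_one_iff _).2 (mem_zpowers _)]
    simp [pow_mem]
  let ρ := (QuotientGroup.mk' (zpowers (η (κ0 A)))).comp η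
  have ρs : Function.Surjective ρ := (QuotientGroup.mk'_surjective _).comp (QuotientGroup.mk'_surjective _)
  have c4 := c3.map (f := QuotientGroup.lift _ ρ (zpowers_le.2 ((QuotientGroup.eq_one_iff _).2 (mem_zpowers _))))
    (fun y => (ρs y).elim fun x e => ⟨x, e⟩) fun e => by
      obtain ⟨k, e⟩ := (Nin.mem_zp3 (by rw [← map_pow, A3, map_one])).1 ((QuotientGroup.eq_one_iff (η (κ0 B))).1 e)
      exact nB k (i1 (by simpa using e))
  have no : ∀ (p : ℕ) {X : Type} [Group X] (π : _ →* X), Function.Surjective π → p = 5 ∨ p = 7 → ¬ p ∣ Nat.card X :=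
    fun p X _ π hπ hp e => by
    haveI : Fact p.Prime := ⟨by rcases hp with rfl | rfl <;> norm_num⟩
    obtain ⟨g, hg⟩ := exists_prime_orderOf_dvd_card' p (e.trans (card_dvd_of_surjective (π.comp ρ) (hπ.comp ρs)))
    have := h.o57 g (mem_cent.1 g.2)
    rw [orderOf_coe] at this; omega
  have le : Nat.card (𝐂[κ (g5 0)] ⧸ pPrimeCore 3 _) ≤ 18 := by
    have e1 := card_eq_card_quotient_mul_card_subgroup (zpowers (η (κ0 A)))
    have e2 := Nat.le_of_dvd (by norm_num) (orderOf_dvd_of_pow_eq_one (x := η (κ0 A)) (n := 3) (by rw [← map_pow, A3, map_one]))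
    rw [Nat.card_zpowers] at e1
    rcases c4.main with ⟨N, hN, -, h3, e⟩ | ⟨N, hN, -, -, ⟨e⟩⟩ | ⟨⟨e⟩⟩
    · have := card_eq_card_quotient_mul_card_subgroup N
      rw [card_eq_one.2 (eq_bot_iff.2 ((Core.le_pPrimeCore h3).trans (Nin.core_quot Core.pPrimeCore_quotient_pPrimeCore
        (isP (by rw [← map_pow, A3, map_one])) zc').le)), mul_one] at this
      rcases e with e | ⟨⟨e⟩⟩
      · rw [e1, this, e]; omega
      · rw [e1, this, Nat.card_congr e.toEquiv, Nat.card_perm, Nat.card_fin, show Nat.factorial 3 = 6 from rfl]; omega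
    · exact absurd (by rw [nat_card_alternatingGroup, Nat.card_fin]; decide) (no 5 (e.toMonoidHom.comp (QuotientGroup.mk' N))
        (e.surjective.comp (QuotientGroup.mk'_surjective N)) (.inl rfl))
    · exact absurd (by rw [Nin.card_psl7]; norm_num) (no 7 e.toMonoidHom e.surjective (.inr rfl))
  have c18 : Nat.card C0 = 18 := by rw [card_sg]; decide +kernel
  let e := MulEquiv.ofBijective (η.comp κ0) ((Nat.bijective_iff_injective_and_card _).2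
    ⟨i1, le_antisymm (Nat.card_le_card_of_injective _ i1) (c18 ▸ le)⟩)
  refine ⟨e.symm.toMonoidHom.comp η, e.symm.surjective.comp (QuotientGroup.mk'_surjective _), ?_, fun c => e.symm_apply_apply c⟩
  rw [← MonoidHom.comap_ker, (MonoidHom.ker_eq_bot_iff _).2 e.symm.injective, MonoidHom.comap_bot, QuotientGroup.ker_mk']
  exact Nat.prime_three.coprime_iff_not_dvd.1 co.symm

theorem normal : (zpowers (κ (g5 0))).Normal := by
  classical
  haveI := Fintype.ofFinite G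
  obtain ⟨M, hM⟩ := exists_isPModular Nat.prime_three
  have := hM.2.1
  have p6 : ∀ a, κ (g5 a) ^ 6 = 1 := fun a => by rw [← map_pow, (by decide +kernel : ∀ a, g5 a ^ 6 = 1) a, map_one]
  have real : ∀ a, IsConj (κ (g5 a)) (κ (g5 a))⁻¹ := fun a => map_inv κ _ ▸ κ.map_isConj (isConj_iff.2
    ((by decide +kernel : ∀ a, ∃ c, c * g5 a * c⁻¹ = (g5 a)⁻¹) a))
  have s2 : ∀ d, κ (inr d) * κ (inr d) = 1 := fun d => by rw [← map_mul, ← map_mul, (by decide : ∀ d : K4, d * d = 1), map_one, map_one]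
  obtain ⟨n, hn, n0, -⟩ := exists_deg (G := G)
  choose r hr using fun (χ : IrrCharacter G) a => exists_int χ.2.isCharacter (p6 a) (real a)
  choose u hu using fun (χ : IrrCharacter G) d => Cfsg.IsCharacter.exists_int_of_two χ.2.isCharacter (s2 d)
  let R : IrrCharacter G → Fin 5 → ℤ := fun χ a => if χ ∈ principalBlock M G then r χ a else 0
  have p4 : ∀ a, a ≠ 0 → a ≠ 3 → g5 a ^ 4 ∈ V4 ∧ (g5 a ^ 4).left.2 ≠ 1 := by decide +kernel
  have van : ∀ a, a ≠ 0 → a ≠ 3 → ∀ χ, χ.1 (κ (g5 a)) = R χ a := fun a a0 a3 χ => by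
    simp only [R]
    split_ifs with e
    · exact hr χ a
    exact by_contra fun e1 => e (mem_B0 hM h.syl.2 (isPPart_six (p6 a)) (fun t ht => mem_cent.2 (V4_comm ht _
      ⟨_, (p4 a a0 a3).1, map_pow _ _ _⟩).symm) (map_pow κ _ _ ▸ (h.cen _ (p4 a a0 a3).1 (p4 a a0 a3).2).trans range_le4) h.cent_le χ
      (by simpa using e1))
  have fs : ∀ (F : IrrCharacter G → ℂ) (f : IrrCharacter G → ℤ), (∀ χ ∈ principalBlock M G, F χ = f χ) →
      (∀ χ ∉ principalBlock M G, f χ = 0) → ((∑ χ, f χ : ℤ) : ℂ) = ∑ᶠ χ ∈ principalBlock M G, F χ := fun F f h1 h2 => by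
    rw [finsum_mem_def, finsum_eq_sum_of_fintype, Int.cast_sum]
    exact Finset.sum_congr rfl fun χ _ => by by_cases e : χ ∈ principalBlock M G <;> simp [e, h1, h2]
  have RB : ∀ a, ∀ χ ∈ principalBlock M G, R χ a = r χ a := fun a χ e => if_pos e
  have RN : ∀ χ ∉ principalBlock M G, R χ = 0 := fun χ e => funext fun a => if_neg e
  have G1 : ∀ a b, b ≠ 0 → b ≠ 3 → ∑ i, R i a * R i b = if a = b then N5 a else 0 := fun a b b0 b3 => by
    split_ifs with e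
    · subst e
      rw [col_self (van a b0 b3), card_cent h.inj fun g hg => h.mem (p4 a b0 b3).2 (mem_cent.1 hg).mul_inv_cancel]
      revert a; decide +kernel
    · rw [← col_ne (hr · a) (van b b0 b3) fun c => by
        obtain ⟨g, c⟩ := isConj_iff.1 c.symm
        obtain ⟨g, rfl⟩ := h.mem (p4 b b0 b3).2 c
        exact (by decide +kernel : ∀ a b c, a ≠ b → c * g5 b * c⁻¹ ≠ g5 a) a b g e (h.inj (by simpa using c))]
      exact Finset.sum_congr rfl fun χ _ => by by_cases e : χ ∈ principalBlock M G <;> simp [e, RB, RN]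
  have G2 : ∀ a b (ha : g5 a ∈ C0) (hb : g5 b ∈ C0), g5 a ^ 4 = g5 0 → g5 b ^ 4 = g5 0 →
      ∑ i, R i a * R i b = if a = b then N5 a else 0 := fun a b ha hb e1 e2 => by
    obtain ⟨f, f1, f2, f3⟩ := h.exists_f
    have pp : ∀ a, g5 a ^ 4 = g5 0 → IsPPart 3 (κ (g5 a)) (κ (g5 0)) := fun a e => by
      rw [← e, map_pow]; exact isPPart_six (p6 a)
    haveI : ((V4.subgroupOf C0)).Normal := (MonoidHom.normal_ker _).subgroupOf _
    have u : infl f f1 ⁻¹' principalBlock M _ = Set.univ := Set.eq_univ_of_forall fun ξ => principalBlock_subset_preimage_infl f1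
      (sameBlock_of_cent_le hM (P := V4.subgroupOf C0) (fun v => ⟨1, Subtype.ext (Subtype.ext ((by decide +kernel : ∀ v ∈ V4, v ^ 3 = 1) _ v.2))⟩)
        (fun x hx => (by decide +kernel : ∀ c : C0, (∀ v : C0, v.1 ∈ V4 → v * c = c * v) → c.1 ∈ V4) x hx) (principalIrr _) ξ)
    refine Int.cast_injective (α := ℂ) ?_
    rw [fs (fun χ => χ.1 (κ (g5 a)) * conj (χ.1 (κ (g5 b)))) _ (fun χ e => by simp [hr, RB, e]) fun χ e => by simp [RN, e]]
    refine (finsum_mul_conj_principal hM (g := ⟨_, h.mem0 ⟨_, ha⟩⟩) (h := ⟨_, h.mem0 ⟨_, hb⟩⟩) (pp a e1) (pp b e2)).trans ?_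
    rw [finsum_preimage_infl f1 fun χ e => le_charKer_of_mem_principalBlock hM e f2, u, finsum_mem_univ, finsum_eq_sum_of_fintype]
    simp only [infl_apply, f3 ⟨_, ha⟩, f3 ⟨_, hb⟩]
    split_ifs with e
    · subst e
      rw [column_orthogonality_of_isConj (IsConj.refl _), show Nat.card 𝐂[(⟨_, ha⟩ : C0)] = _ from card_cent (κ := MonoidHom.id C0)
        Function.injective_id fun x _ => ⟨x, rfl⟩, ← Int.cast_natCast, Int.cast_inj]
      revert a; decide +kernel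
    · rw [column_orthogonality_of_not_isConj fun c => by
        obtain ⟨g, c⟩ := isConj_iff.1 c
        exact (by decide +kernel : ∀ a b c, a ≠ b → c * g5 b * c⁻¹ ≠ g5 a) b a g.1 (Ne.symm e) (congrArg Subtype.val c), Int.cast_zero]
  have c1 : Commute (κ (g5 0)) (κ (inr (1, ν))) := Commute.map (show _ = _ by decide) κ
  have c2 : Commute (κ (g5 1)) (κ (inr (ν, 1))) := Commute.map (show _ = _ by decide) κ
  have m3 : κ (g5 3) = κ (g5 0) * κ (inr (1, ν)) := map_mul κ _ _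
  have m4 : κ (g5 4) = κ (g5 1) * κ (inr (ν, 1)) := map_mul κ _ _
  obtain ⟨e, ε, he, hε, hR, un, h0⟩ := rows5 (R := R) (fun a b => by
      by_cases hb : b ≠ 0 ∧ b ≠ 3
      · exact G1 a b hb.1 hb.2
      by_cases ha : a ≠ 0 ∧ a ≠ 3
      · simp only [mul_comm (R _ a), G1 b a ha.1 ha.2, eq_comm (a := a)]
        split_ifs with e <;> simp [e]
      have q : ∀ a, ¬ (a ≠ 0 ∧ a ≠ 3) → g5 a ∈ C0 ∧ g5 a ^ 4 = g5 0 := by decide +kernel
      exact G2 a b (q a ha).1 (q b hb).1 (q a ha).2 (q b hb).2)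
    (fun χ => (em' (χ ∈ principalBlock M G)).imp (RN χ) fun e => by
      have := fun a (ha : g5 a ∈ V4) (e1 : R χ a = 0) => apply_ne_zero_of_sylow hM ⟨χ, e⟩ h.syl (z := κ (g5 a))
        (fun t ht => mem_cent.2 (V4_comm ht _ ⟨_, ha, rfl⟩).symm) (by simp [hr, ← RB a χ e, e1])
      exact ⟨this 0 rfl, this 1 rfl, this 2 rfl⟩)
    fun χ => by
      by_cases e : χ ∈ principalBlock M G
      · have := dvd_three χ.2.isCharacter (cube4 rfl) (real 0) (hn χ) (hr χ 0)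
        have := dvd_three χ.2.isCharacter (cube4 rfl) (real 1) (hn χ) (hr χ 1)
        have := dvd_three χ.2.isCharacter (cube4 rfl) (real 2) (hn χ) (hr χ 2)
        have := (dvd_six χ.2.isCharacter (cube4 rfl) (s2 _) c1 (m3 ▸ real 3) (real 0) (hn χ) (hr χ 0) (m3 ▸ hr χ 3) (hu χ _)).1
        have := (dvd_six χ.2.isCharacter (cube4 rfl) (s2 _) c2 (m4 ▸ real 4) (real 1) (hn χ) (hr χ 1) (m4 ▸ hr χ 4) (hu χ _)).1
        simp only [RB _ χ e]; omega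
      · simp [RN χ e]
  set m : Fin 9 → ℤ := fun j => ε j * n (e j) with hm
  have sm : ∀ {M : Type} [AddCommMonoid M] (F : IrrCharacter G → M) (f : Fin 9 → M), (∀ i, R i = 0 → F i = 0) →
      (∀ j, f j = F (e j)) → ∑ i, F i = ∑ j, f j := fun F f h1 h2 =>
    (Fintype.sum_of_injective e he f F (fun i hi => h1 i (h0 i hi)) h2).symm
  have ln : ∀ a, ∑ j, τ5 j a * m j = 0 := fun a => by
    rw [← sm (fun χ => R χ a * n χ) _ (fun i e => by simp [e]) fun j => by simp only [hR, hm]; ring]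
    refine Int.cast_injective (α := ℂ) ?_
    rw [fs (fun χ => χ.1 (κ (g5 a)) * χ.1 1⁻¹) _ (fun χ e => by simp [hr, hn, RB, e]) fun χ e => by simp [RN, e], Int.cast_zero]
    exact block_orthogonality hM (IsPBlock.isBlockUnion isPBlock_principalBlock) (isPPart_six (p6 a)) (isPPart_six (one_pow 6)) (by
      rw [one_pow, isConj_one_left, ← map_pow]; exact (map_ne_one_iff κ h.inj).2 (by revert a; decide +kernel))
  have pr : ∀ a b : Fin 5, b ≠ 0 → b ≠ 3 → pairFun (κ (g5 0)) (κ (g5 a)) (κ (g5 b)) = (0 : ℕ) →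
      ∑ j, (τ5 j 0 * τ5 j a * τ5 j b / m j : ℚ) = 0 := fun a b b0 b3 hp => by
    have := pair_int (hr · 0) (hr · a) (van b b0 b3) hn hp
    rw [Nat.cast_zero, mul_zero, mul_eq_zero, or_iff_right (by simp [Nat.card_pos.ne'])] at this
    rw [← sm (fun χ => (R χ 0 * R χ a / n χ * R χ b : ℚ)) _ (fun i e => by simp [e]) fun j => by
      rcases hε j with h | h <;> simp [hR, hm, h] <;> ring, ← this]
    exact Finset.sum_congr rfl fun χ _ => by by_cases e : χ ∈ principalBlock M G <;> simp [e, RB, RN]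
  have hA := pr 0 1 (by decide) (by decide) (h.pair rfl rfl (by decide) (by decide +kernel) (by decide +kernel))
  have hB := pr 0 2 (by decide) (by decide) (h.pair rfl rfl (by decide) (by decide +kernel) (by decide +kernel))
  have hC := pr 1 1 (by decide) (by decide) (h.pair rfl rfl (by decide) (by decide +kernel) (by decide +kernel))
  have m0 : m 0 = 1 := by
    have o2 : ∀ a, R (principalIrr G) a = 1 := fun a => by
      rw [RB a _ principalIrr_mem]; exact_mod_cast (show ((_ : ℤ) : ℂ) = 1 from (hr (principalIrr G) a).symm)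
    have o : principalIrr G = e 0 := un _ _ (Or.inl (funext fun a => by rw [o2]; fin_cases a <;> rfl))
    have o1 : n (e 0) = 1 := by rw [← o]; exact_mod_cast (show ((_ : ℤ) : ℂ) = 1 from (hn (principalIrr G)).symm)
    have := o2 0
    rw [o, hR] at this; simpa [hm, o1, τ5] using this
  have mz : ∀ j, m j ≠ 0 := fun j => by have := n0 (e j); rcases hε j with h | h <;> simp only [hm, h] <;> omega
  have one : ∀ j, m j = 1 → τ5 j 0 = 1 → ∃ lam : G →* ℂˣ, ∀ a, (lam (κ (g5 a)) : ℂ) = τ5 j a := fun j hj h1 => by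
    have : ε j = 1 ∧ n (e j) = 1 := by have := n0 (e j); rcases hε j with h | h <;> simp only [hm, h] at hj <;> omega
    obtain ⟨lam, hl⟩ := (e j).2.isCharacter.exists_linear_of_degree_one (by rw [hn, this.2]; simp)
    have B : e j ∈ principalBlock M G := by_contra fun e1 => by simpa [RN _ e1, h1, this.1] using hR j 0
    exact ⟨lam, fun a => by simpa [hl, ← RB a _ B, hR, this.1] using hr (e j) a⟩
  have l0 := ln 0
  have l1 := ln 1
  have l2 := ln 2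
  have l3 := ln 3
  have l4 := ln 4
  simp only [Fin.sum_univ_succ, Fin.sum_univ_zero, τ5, Matrix.cons_val, Matrix.cons_val_zero, Matrix.cons_val_succ, Fin.reduceSucc,
    m0] at l0 l1 l2 l3 l4 hA hB hC
  obtain ⟨e1, e2⟩ := num5 (p := m 1) (q := m 2) (r := m 3) (a := m 4) (b := m 5) (c := m 6) (d := m 7) (s := m 8) (by linarith)
    (by linarith) (by linarith) (by linarith) (by linarith) (mz 1) (mz 4) (mz 5) (mz 6) (mz 7) (mz 8)
    (by push_cast at hA ⊢; linear_combination hA) (by push_cast at hB ⊢; linear_combination hB) (by push_cast at hC ⊢; linear_combination hC)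
  obtain ⟨l, hl⟩ := one 1 e1 rfl
  obtain ⟨l', hl'⟩ := one 2 e2 rfl
  have mH : ∀ c, κ c ∈ l.ker ⊓ l'.ker ↔ c ∈ V4 := fun c => by
    obtain ⟨i, j, k, t, e, e'⟩ := (by decide +kernel : ∀ c, ∃ i j : Fin 3, ∃ k t : Fin 2, c = g5 0 ^ i.1 * g5 1 ^ j.1 * g5 4 ^ k.1 *
      g5 3 ^ t.1 ∧ (c ∈ V4 ↔ k = 0 ∧ t = 0)) c
    simp only [e', mem_inf, MonoidHom.mem_ker, Units.ext_iff]
    simp only [e, map_mul, map_pow, Units.val_mul, Units.val_pow_eq_pow_val, hl, hl']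
    fin_cases k <;> fin_cases t <;> simp [τ5] <;> norm_num
  set H := l.ker ⊓ l'.ker
  have TH : V4.map κ ≤ H := by rintro _ ⟨c, hc, rfl⟩; exact (mH c).2 hc
  have nH : H ⊓ κ.range ≤ V4.map κ := by rintro _ ⟨hc, c, rfl⟩; exact ⟨c, (mH c).1 hc, rfl⟩
  have sH := h.syl.mono TH le_top
  have pn := sH.pnil_of_normalizer_le_centralizer ((inf_le_inf_left _ h.nrm).trans (nH.trans V4_comm))
  have Ta : V4.map κ ≤ 𝐂[κ (g5 0)] := fun t ht => mem_cent.2 (V4_comm ht _ ⟨_, rfl, rfl⟩).symm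
  have c9 : Nat.card (V4.map κ) = 3 ^ 2 := by rw [card_map_of_injective h.inj, Nat.card_eq_fintype_card]; decide +kernel
  haveI : IsMulCommutative (V4.map κ) := ⟨⟨fun a b => Subtype.ext (V4_comm b.2 _ a.2)⟩⟩
  have Oa : resOf 3 H ≤ 𝐂[κ (g5 0)] := by
    refine Coprime.le_of_forall_centralizer_le (A := V4.map κ) (not_isCyclic (by omega) ?_)
      (TH.trans (le_normalizer.trans (normalizer_le_normalizer_resOf H))) (c9 ▸ (pn.coprime.pow_right 2).symm) ?_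
    · rintro _ ⟨v, hv, rfl⟩; exact cube4 hv
    rintro _ ⟨v, hv, rfl⟩ v1 g ⟨h1, h2⟩
    rcases (by decide +kernel : ∀ v ∈ V4, v = 1 ∨ v.left.2 ≠ 1 ∨ g5 0 = v ∨ g5 0 = v⁻¹) v hv with rfl | e | e | e
    · simp at v1
    · exact Ta (nH ⟨resOf_le H h1, h.cen v hv e h2⟩)
    · exact e ▸ h2
    · exact mem_cent.2 (by rw [e, map_inv]; exact (mem_cent.1 h2).inv_right)
  have Ca : 𝐂[κ (g5 0)] ≤ 𝐍(zpowers (κ (g5 0))) := fun g hg =>
    mem_normalizer_of_cj_le (cj_zpowers_le.2 (by rw [(mem_cent.1 hg).mul_inv_cancel]; simp))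
  refine normalizer_eq_top_iff.1 (top_le_iff.1 ((sH.frattini_sup le_top (normalizer_eq_top H).ge).ge.trans (sup_le
    (sH.resOf_sup.ge.trans ((sup_le Oa Ta).trans Ca)) (inf_le_right.trans (h.nrm.trans ?_)))))
  rintro _ ⟨c, rfl⟩
  obtain ⟨k, hk⟩ := (by decide +kernel : ∀ c, ∃ k : Fin 3, c * g5 0 * c⁻¹ = g5 0 ^ k.1) c
  refine mem_normalizer_of_cj_le (cj_zpowers_le.2 ?_)
  rw [← map_inv, ← map_mul, ← map_mul, hk, map_pow]; exact pow_mem (mem_zpowers _) _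

end G2

end Cfsg.Lib.Block.Ten
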