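import Cfsg.Agent.Lib.Block.Ten1

/-! # Sylow `3`-subgroups of order nine with diagonal automizer -/

set_option autoImplicit false
set_option linter.unusedSectionVars false
set_option synthInstance.maxSize 100000
set_option maxRecDepth 100000

namespace Cfsg.Lib.Block.Ten

open Cfsg Cfsg.Lib.Invol Cfsg.Lib.Transfer Cfsg.Lib.Block.Tri Subgroup SemidirectProduct

local notation "𝐍(" X ")" => normalizer (SetLike.coe X)
local notation "𝐂(" X ")" => centralizer (SetLike.coe X)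
local notation "𝐂[" x "]" => centralizer ({x} : Set _)

variable {G : Type*} [Group G] [Finite G] {T : Subgroup G} {ι : A2 →* G} {g k b : G} {d d' : K4}

theorem card_ord {X : Type*} [Group X] [Finite X] (p : ℕ) [hp : Fact p.Prime] (m : ℕ) (e : Nat.card X = p * m) (hm : ¬ p ∣ m) :
    ∃ n, n ∣ m ∧ n % p = 1 % p ∧ Nat.card {x : X // orderOf x = p} = n * (p - 1) := by
  obtain ⟨x, hx⟩ := exists_prime_orderOf_dvd_card' p (e ▸ dvd_mul_right p m)
  have c := (Nat.card_zpowers x).trans hx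
  have e2 := card_mul_index (zpowers x)
  rw [c, e, Nat.mul_right_inj hp.out.ne_zero] at e2
  let P := (IsPGroup.of_card (c.trans (pow_one p).symm)).toSylow (e2 ▸ hm)
  exact ⟨_, e2 ▸ P.card_dvd_index, card_sylow_modEq_one p X, Small.card_orderOf_eq_prime P c⟩

theorem normal_of_fix (h : SE T) (hC : 𝐂(T) ≤ T) (h9 : Nat.card T = 9) (h3 : ∀ t ∈ T, t ^ 3 = 1) (hb : b ∈ T) (b1 : b ≠ 1)
    (hN : ∀ g ∈ 𝐍(T), (∀ t ∈ T, g * t * g⁻¹ * t⁻¹ ∈ zpowers b) ∧ (Commute g b → g ∈ 𝐂(T)) ∧ g ^ 6 = 1) : T.Normal := by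
  have cy := not_isCyclic (by omega) h3
  have hK : T ⊓ resOf 3 ⊤ ≤ zpowers b := by
    rw [h.syl.inf_resOf_of_comm ⟨⟨fun a b => Subtype.ext (h.comm _ a.2 _ b.2)⟩⟩, commutator_comm, commutator_le]
    exact fun g hg t ht => (hN g hg.2).1 t ht
  have sup := h.syl.resOf_sup
  haveI := resOf_normal (p := 3) (⊤ : Subgroup G)
  generalize resOf 3 (⊤ : Subgroup G) = K at *
  refine normalizer_eq_top_iff.1 (top_le_iff.1 (sup.ge.trans (sup_le ?_ le_normalizer)))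
  by_cases bK : b ∈ K
  swap
  · refine (h.eq_bot hC cy (eq_bot_iff.2 fun t ht => ?_)).le.trans bot_le
    obtain ⟨k, rfl⟩ := (Nin.mem_zp3 (h3 b hb)).1 (hK ht)
    fin_cases k
    · simp
    · simpa [bK] using ht.2
    · simpa [bK, sq, mul_self_of_cube (h3 b hb)] using ht.2
  have o3 : orderOf (⟨b, bK⟩ : K) = 3 := by rw [orderOf_mk]; exact orderOf_eq_prime (h3 b hb) b1
  have c3 : Exc.C3 (⟨b, bK⟩ : K) := ⟨o3, fun g hg => by
    have c : Commute g.1 b := congrArg Subtype.val hg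
    obtain ⟨k, e⟩ := hK ⟨hC ((hN g (h.cent b hb b1 (mem_cent.2 c))).2.1 c), g.2⟩
    exact ⟨k, Subtype.ext e⟩⟩
  have O : (pPrimeCore 3 K).map K.subtype = ⊥ := h.eq_bot' hC cy le_top le_top
    (((normalizer_eq_top K).ge).trans (Core.normalizer_le_normalizer_pPrimeCoreOf _))
    (Core.inf_eq_bot_of_isPGroup_of_coprime Nat.prime_three h.syl.2 (Core.coprime_card_pPrimeCoreOf _))
  have k : ∀ (N : Subgroup K) [N.Normal], (Nat.card N).Coprime 3 → Nat.card K = Nat.card (K ⧸ N) := fun N _ hN => by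
    rw [card_eq_card_quotient_mul_card_subgroup N, card_eq_one.2 (eq_bot_iff.2 fun x hx => Subtype.ext
      (O.le (mem_map_of_mem _ (Core.le_pPrimeCore hN hx)))), mul_one]
  have fr : ∀ p, p = 5 ∨ p = 7 → 9 ∣ Nat.card {x : K // orderOf x = p} := fun p hp => by
    rw [← h9, Nat.card_congr ((Equiv.subtypeSubtypeEquivSubtypeInter _ fun x => orderOf x = p).symm.trans
      (Equiv.subtypeEquivRight fun x => by rw [orderOf_coe])).symm]
    refine BS.card_dvd_of_free (fun c _ a ha => ⟨‹K.Normal›.conj_mem _ ha.1 c, by rw [orderOf_conj, ha.2]⟩) fun t ht g hg c => ?_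
    by_contra t1
    have := hg.2 ▸ orderOf_dvd_of_pow_eq_one (hN g (h.cent t ht t1 (mem_cent.2 c.symm))).2.2
    rcases hp with rfl | rfl <;> omega
  have f5 := fr 5 (.inl rfl)
  have f7 := fr 7 (.inr rfl)
  have c := card_mul_index (zpowers (⟨b, bK⟩ : K))
  rw [Nat.card_zpowers, o3] at c
  have fin : (zpowers (⟨b, bK⟩ : K)).Normal → K ≤ 𝐍(T) := fun n g hg => h.key hb b1 (h3 b hb) (le_normalizer (by
    obtain ⟨k, e⟩ := n.conj_mem _ (mem_zpowers _) ⟨g, hg⟩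
    exact (show b ^ k = g * b * g⁻¹ from congrArg Subtype.val e) ▸ zpow_mem hb k))
  rcases c3.main with ⟨N, hN, -, h3, e | ⟨⟨e⟩⟩⟩ | ⟨N, hN, -, h2, ⟨e⟩⟩ | ⟨⟨e⟩⟩
  · rw [k N h3, e] at c; exact fin (normal_of_index_eq_one (by omega))
  · rw [k N h3, Nat.card_congr e.toEquiv, Nat.card_perm, Nat.card_fin, show Nat.factorial 3 = 6 from rfl] at c
    exact fin (normal_of_index_eq_two (by omega))
  · have := k N ((IsPGroup.iff_card.1 (show IsPGroup 2 N from fun x => ⟨1, Subtype.ext (h2 x x.2)⟩)).elim fun n e => by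
      rw [e]; exact Nat.Coprime.pow_left _ (by norm_num))
    rw [Nat.card_congr e.toEquiv, nat_card_alternatingGroup, Nat.card_fin] at this
    obtain ⟨n, h1, -, h2⟩ := @card_ord _ _ _ 5 ⟨by norm_num⟩ 12 this (by norm_num)
    have := Nat.le_of_dvd (by norm_num) h1
    rw [h2] at f5; interval_cases n <;> omega
  · obtain ⟨n, h1, h3, h2⟩ := @card_ord _ _ _ 7 ⟨by norm_num⟩ 24 ((Nat.card_congr e.toEquiv).trans Nin.card_psl7) (by norm_num)
    have := Nat.le_of_dvd (by norm_num) h1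
    rw [h2] at f7; interval_cases n <;> omega

/-- `g` acts diagonally -/
def Ac (ι : A2 →* G) (g : G) (d : K4) : Prop := ∀ x, g * ι x * g⁻¹ = ι (act4 d x)

theorem Ac.mul (h : Ac ι g d) (h' : Ac ι k d') : Ac ι (g * k) (d * d') := fun x => by
  rw [(by decide +kernel : ∀ d d' x, act4 (d * d') x = act4 d (act4 d' x)), ← h, ← h']; group

theorem Ac.cent (h : Ac ι g 1) : g ∈ 𝐂(ι.range) := by
  rintro _ ⟨x, rfl⟩
  have := h x
  rw [(by decide : ∀ x, act4 1 x = x), mul_inv_eq_iff_eq_mul] at this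
  exact this.symm

theorem ac_one (h : g ∈ ι.range) : Ac ι g 1 := fun x => by
  obtain ⟨y, rfl⟩ := h
  rw [(by decide : ∀ x, act4 1 x = x), ← map_inv, ← map_mul, ← map_mul, mul_inv_cancel_comm]

theorem cube9 (h : g ∈ ι.range) : g ^ 3 = 1 := by
  obtain ⟨y, rfl⟩ := h
  rw [← map_pow, (by decide : ∀ y : A2, y ^ 3 = 1), map_one]

theorem Ac.sq (hC : 𝐂(ι.range) ≤ ι.range) (h : Ac ι g d) : g * g ∈ ι.range :=
  hC (((by decide : ∀ d : K4, d * d = 1) d ▸ h.mul h : Ac ι _ 1).cent)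

theorem Ac.six (hC : 𝐂(ι.range) ≤ ι.range) (h : Ac ι g d) : g ^ 6 = 1 := by
  rw [show 6 = 2 * 3 from rfl, pow_mul, pow_two, cube9 (h.sq hC)]

theorem Ac.norm (h : Ac ι g d) : g ∈ 𝐍(ι.range) :=
  mem_normalizer_of_cj_le (cj_le_iff.2 (by rintro _ ⟨x, rfl⟩; exact ⟨_, (h x).symm⟩))

theorem normal_of_full (hi : Function.Injective ι) (hs : SylowIn 3 ι.range ⊤) (hC : 𝐂(ι.range) ≤ ι.range)
    (hN : ∀ g ∈ 𝐍(ι.range), ∃ d, Ac ι g d) (hc : ∀ x : A2, x.2 ≠ 1 → 𝐂[ι x] ≤ 𝐍(ι.range))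
    (ho : ∀ g, Commute g (ι e1) → orderOf g ≠ 5 ∧ orderOf g ≠ 7) (h1 : Ac ι g (ν, 1)) (h2 : Ac ι k (1, ν)) :
    (zpowers (ι e1)).Normal := by
  have p : ∀ {g d}, Ac ι g d → Ac ι (g ^ 3) d ∧ (g ^ 3) ^ 2 = 1 := fun {g d} h =>
    ⟨by simpa [pow_three, (by decide : ∀ d : K4, d * (d * d) = d)] using h.mul (h.mul h), by rw [← pow_mul, h.six hC]⟩
  obtain ⟨a1, a2⟩ := p h1
  obtain ⟨b1, b2⟩ := p h2
  generalize g ^ 3 = α, k ^ 3 = β at *
  have c : Commute α β := by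
    obtain ⟨x, hx⟩ := (a1.mul b1).sq hC
    have := a1.mul b1 x
    rw [show α * β * ι x * (α * β)⁻¹ = ι x by rw [hx]; group] at this
    rw [(by decide : ∀ x, x = act4 ((ν, 1) * (1, ν)) x → x = 1) x (hi this), map_one, eq_comm, ← eq_inv_iff_mul_eq_one, mul_inv_rev,
      inv_eq_of_mul_eq_one_right ((sq α).symm.trans a2), inv_eq_of_mul_eq_one_right ((sq β).symm.trans b2)] at hx
    exact hx
  let δ : K4 →* G := MonoidHom.mk' (fun d => α ^ d.1.toAdd.val * β ^ d.2.toAdd.val) fun a b => by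
    simp only [Prod.fst_mul, Prod.snd_mul, toAdd_mul, ZMod.val_add, ← pow_eq_pow_mod _ a2, ← pow_eq_pow_mod _ b2, pow_add]
    exact (c.pow_pow _ _).mul_mul_mul_comm _ _
  have ac : ∀ d, Ac ι (δ d) d := fun d => by
    rcases (by decide : ∀ d : K4, d = 1 ∨ d = (ν, 1) ∨ d = (1, ν) ∨ d = (ν, 1) * (1, ν)) d with rfl | rfl | rfl | rfl
    · exact ac_one (map_one δ ▸ one_mem _)
    · simpa [δ, ν, ZMod.val_one] using a1
    · simpa [δ, ν, ZMod.val_one] using b1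
    · simpa [δ, ν, ZMod.val_one] using a1.mul b1
  let κ : W4 →* G := SemidirectProduct.lift ι δ fun d => MonoidHom.ext fun x => (ac d x).symm
  have V : V4.map κ = ι.range := by rw [V4, ← range_inl_eq_ker_rightHom, MonoidHom.map_range, lift_comp_inl]
  have r : 𝐍(ι.range) ≤ κ.range := fun g hg => by
    obtain ⟨d, hd⟩ := hN g hg
    obtain ⟨x, hx⟩ := hC (((by decide : ∀ d : K4, d * d⁻¹ = 1) d ▸ hd.mul (ac d⁻¹) : Ac ι _ 1).cent)
    exact ⟨⟨x, d⟩, show ι x * δ d = g by simp [hx]⟩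
  have : G2 κ := by
    refine ⟨(injective_iff_map_eq_one _).2 fun ⟨x, d⟩ e => ?_, V ▸ hs, V ▸ r, fun ⟨x, d⟩ hv h1 => ?_,
      fun g hg => ho g (by simpa [κ, g5] using hg)⟩
    · have e1 : δ d = ι x⁻¹ := by rw [map_inv]; exact eq_inv_of_mul_eq_one_right e
      obtain rfl := (by decide : ∀ d, (∀ y, act4 d y = act4 1 y) → d = 1) d fun y => hi (by rw [← ac, ← ac_one ⟨_, e1.symm⟩])
      rw [map_one, eq_comm, map_eq_one_iff ι hi, inv_eq_one] at e1
      rw [e1]; rfl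
    · obtain rfl : d = 1 := hv
      exact (show 𝐂[ι x * δ 1] ≤ _ by simpa using hc x h1).trans r
  simpa [κ, g5] using this.normal

theorem se9 (hi : Function.Injective ι) (h : SE ι.range) (hC : 𝐂(ι.range) ≤ ι.range) (hN : ∀ g ∈ 𝐍(ι.range), ∃ d, Ac ι g d) :
    ι.range.Normal := by
  have h9 : Nat.card ι.range = 9 := by rw [← Nat.card_congr (ι.ofInjective hi).toEquiv]; simp
  have h3 : ∀ t ∈ ι.range, t ^ 3 = 1 := fun _ => cube9
  have fx : ∀ (y : A2) (d₀ : K4), y ≠ 1 → (∀ x, ∃ k : Fin 3, act4 d₀ x * x⁻¹ = y ^ k.1) → act4 d₀ y ≠ y →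
      (∀ g d, Ac ι g d → d = 1 ∨ d = d₀) → ι.range.Normal := fun y d₀ y1 p1 p2 p3 =>
    normal_of_fix h hC h9 h3 ⟨y, rfl⟩ ((map_ne_one_iff ι hi).2 y1) fun g hg => by
      obtain ⟨d, hd⟩ := hN g hg
      refine ⟨?_, fun c => ?_, hd.six hC⟩
      · rintro _ ⟨x, rfl⟩
        rcases p3 g d hd with rfl | rfl
        · rw [(show Commute g (ι x) from (hd.cent _ ⟨x, rfl⟩).symm).mul_inv_cancel]; simp
        · obtain ⟨k, e⟩ := p1 x
          rw [hd, ← map_inv, ← map_mul, e, map_pow]; exact pow_mem (mem_zpowers _) _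
      · rcases p3 g d hd with rfl | rfl
        exacts [hd.cent, absurd (hi (by rw [← hd, c.mul_inv_cancel])) p2]
  have K : ∀ d : K4, d = 1 ∨ d = (ν, 1) ∨ d = (1, ν) ∨ d = (ν, ν) := by decide
  by_cases h1 : ∃ g, Ac ι g (ν, 1) <;> by_cases h2 : ∃ g, Ac ι g (1, ν)
  · obtain ⟨g, h1⟩ := h1
    obtain ⟨k, h2⟩ := h2
    have a1 := (map_ne_one_iff ι hi).2 (by decide : e1 ≠ 1)
    have n := normal_of_full hi h.syl hC hN (fun x hx => h.cent _ ⟨x, rfl⟩ ((map_ne_one_iff ι hi).2 fun e => hx (by rw [e]; rfl)))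
      (fun g hg => by
        obtain ⟨d, hd⟩ := hN g (h.cent _ ⟨_, rfl⟩ a1 (mem_cent.2 hg))
        have := orderOf_dvd_of_pow_eq_one (hd.six hC)
        constructor <;> intro e <;> rw [e] at this <;> omega) h1 h2
    exact normalizer_eq_top_iff.1 (eq_top_iff.2 fun g _ => h.key ⟨_, rfl⟩ a1 (h3 _ ⟨_, rfl⟩)
      (le_normalizer ((zpowers_le (H := ι.range)).2 ⟨_, rfl⟩ (n.conj_mem _ (mem_zpowers _) g))))
  · obtain ⟨g, h1⟩ := h1
    refine fx e1 (ν, 1) (by decide) (by decide) (by decide) fun k d hd => ?_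
    rcases K d with rfl | rfl | rfl | rfl
    exacts [.inl rfl, .inr rfl, (h2 ⟨_, hd⟩).elim, (h2 ⟨_, h1.mul hd⟩).elim]
  · obtain ⟨g, h2⟩ := h2
    refine fx e2 (1, ν) (by decide) (by decide) (by decide) fun k d hd => ?_
    rcases K d with rfl | rfl | rfl | rfl
    exacts [.inl rfl, (h1 ⟨_, hd⟩).elim, .inr rfl, (h1 ⟨_, h2.mul hd⟩).elim]
  by_cases h4 : ∃ g, Ac ι g (ν, ν)
  swap
  · refine fx e1 (ν, 1) (by decide) (by decide) (by decide) fun k d hd => ?_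
    rcases K d with rfl | rfl | rfl | rfl
    exacts [.inl rfl, .inr rfl, (h2 ⟨_, hd⟩).elim, (h4 ⟨_, hd⟩).elim]
  obtain ⟨τ, h4⟩ := h4
  obtain ⟨P, hP⟩ := h.syl.exists_sylow_top
  have iv : ∀ {g}, Ac ι g (ν, ν) → ∀ x ∈ ι.range, g * x * g⁻¹ = x⁻¹ := by
    rintro g hg _ ⟨x, rfl⟩; rw [hg, ← map_inv, (by decide : ∀ x, act4 (ν, ν) x = x⁻¹)]
  have cy := not_isCyclic (by omega) h3
  have := SmT.normal_of_inv (by decide) (h.eq_bot hC cy (Core.inf_eq_bot_of_isPGroup_of_coprime Nat.prime_three h.syl.2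
    (Core.coprime_card_pPrimeCore 3 G))) P (τ := τ)
  rw [hP] at this
  refine this ⟨⟨fun a b => Subtype.ext (h.comm _ a.2 _ b.2)⟩⟩ cy (fun g hg => ?_) h4.norm (iv h4)
  obtain ⟨d, hd⟩ := hN g hg
  rcases K d with rfl | rfl | rfl | rfl
  exacts [.inl fun x hx => (show Commute g x from (hd.cent x hx).symm).mul_inv_cancel, (h1 ⟨_, hd⟩).elim, (h2 ⟨_, hd⟩).elim,
    .inr (iv hd)]

end Cfsg.Lib.Block.Ten
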