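import Cfsg.Agent.Lib.Block.Ten1
import Cfsg.Agent.Lib.Block.Ten3
import Cfsg.Agent.Lib.BG1.Sec1

/-! # Modelling the normalizer of `3³` inside `S₃ ≀ S₃` -/

set_option autoImplicit false
set_option linter.unusedSectionVars false
set_option synthInstance.maxSize 100000
set_option maxRecDepth 100000

namespace Cfsg.Lib.Block.Ten

open Cfsg Cfsg.Lib.Invol Cfsg.Lib.Transfer Cfsg.Lib.Block.Tri Cfsg.Lib.Block.Nin Subgroup SemidirectProduct Equiv

local notation "𝐍(" X ")" => normalizer (SetLike.coe X)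
local notation "𝐂(" X ")" => centralizer (SetLike.coe X)
local notation "𝐂[" x "]" => centralizer ({x} : Set _)

def f48 (d : M48) (p : Fin 9) : Fin 9 := if d.1 = 1 then f24 d.2 p else ![0, 2, 1, 3, 5, 4, 6, 8, 7] (f24 d.2 p)

def ψ2 : W2 →* Perm (Fin 9) :=
  SemidirectProduct.lift (toP f27 (by decide +kernel)) (toP f48 (by decide +kernel)) fun d => MonoidHom.ext fun a => Equiv.ext
    ((by decide +kernel : ∀ d a p, f27 (act2 d a) p = f48 d (f27 a (f48 d⁻¹ p))) d a)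

theorem ψ2_inj : Function.Injective ψ2 := (injective_iff_map_eq_one _).2 fun x h =>
  (by decide +kernel : ∀ x : W2, (∀ p, f27 x.left (f48 x.right p) = p) → x = 1) x fun p => congrArg (fun g : Perm (Fin 9) => g p) h

theorem card_R1 : Nat.card R1 = 162 := by rw [Nat.card_eq_fintype_card]; decide +kernel

theorem comm_z : ∀ c ∈ R1, c * inl z = inl z * c := by decide +kernel

theorem ψ2_R1 : R1.map ψ2 = 𝐂[ψ (w 13 0)] := by
  have e : ψ (w 13 0) = ψ2 (inl z) :=
    Equiv.ext (by decide +kernel : ∀ p, f27 (w 13 0).left (f24 (w 13 0).right p) = f27 z (f48 1 p))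
  refine eq_of_le_of_card_ge ?_ (by rw [card_cz, card_map_of_injective ψ2_inj, card_R1])
  rintro _ ⟨c, hc, rfl⟩
  exact mem_cent.2 (e ▸ Commute.map (comm_z c hc) ψ2)

def i1 : T27 →* R1 := inl.codRestrict _ (by decide +kernel)

variable {G : Type*} [Group G] [Finite G] {ι : T27 →* G} {g k x : G} {f f' : T27 → T27}

theorem exists_k0 (hx : orderOf x = 3) (e : 𝐂[x] ≃* 𝐂[ψ (w 13 0)]) :
    ∃ κ : R1 →* G, Function.Injective κ ∧ κ.range = 𝐂[x] ∧ κ.range = 𝐂[κ (i1 z)] := by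
  let κ : R1 →* G := (Subgroup.subtype _).comp
    ((R1.equivMapOfInjective _ ψ2_inj).trans ((MulEquiv.subgroupCongr ψ2_R1).trans e.symm)).toMonoidHom
  have hi : Function.Injective κ := Subtype.val_injective.comp (MulEquiv.injective _)
  have hr : κ.range = 𝐂[x] := by
    rw [MonoidHom.range_comp, MonoidHom.range_eq_top.2 (MulEquiv.surjective _), ← MonoidHom.range_eq_map, range_subtype]
  refine ⟨κ, hi, hr, ?_⟩
  clear_value κ
  clear e
  obtain ⟨c, rfl⟩ := hr.ge (mem_cent.2 (Commute.refl x))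
  have k : ∀ d (hd : d ∈ R1), c.1 * d = d * c.1 := fun d hd => congrArg Subtype.val (hi (by
    rw [map_mul, map_mul]; exact (mem_cent.1 (hr.le ⟨⟨d, hd⟩, rfl⟩)).symm.eq) : c * ⟨d, hd⟩ = ⟨d, hd⟩ * c)
  rcases (by decide +kernel : ∀ c ∈ R1, c * v 1 0 = v 1 0 * c → c * v 0 4 = v 0 4 * c → c = 1 ∨ inl z = c ∨ inl z = c⁻¹) c.1 c.2
    (k _ (by decide +kernel)) (k _ (by decide +kernel))
    with e | e | e
  · simp [show c = 1 from Subtype.ext e] at hx
  · rwa [show i1 z = c from Subtype.ext e]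
  · rw [show i1 z = c⁻¹ from Subtype.ext e, map_inv, hr]; ext; simp only [mem_cent, Commute.inv_right_iff]

theorem eq_J {κ : R1 →* G} (hi : Function.Injective κ) {J : Subgroup G} (h1 : J ≤ κ.range) (h3 : ∀ a ∈ J, ∀ b ∈ J, a * b = b * a)
    (h4 : ∀ a ∈ J, a ^ 3 = 1) (h5 : Nat.card J = 27) : J = (κ.comp i1).range := by
  refine eq_of_le_of_card_ge (fun g hg => ?_) (by
    rw [h5, ← Nat.card_congr (MonoidHom.ofInjective (f := κ.comp i1) (hi.comp fun _ _ e => inl_injective (congrArg Subtype.val e))).toEquiv,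
      Nat.card_eq_fintype_card]; decide +kernel)
  obtain ⟨a, rfl⟩ := h1 hg
  by_contra h2
  have := card_le_of_le (show J.comap κ ≤ 𝐂[MonoidHom.id _ a] from fun b hb => mem_cent.2 (hi (by simpa using h3 _ hb _ hg)))
  rw [card_cent Function.injective_id (fun x _ => ⟨x, rfl⟩), ← card_map_of_injective hi, map_comap_eq_self h1, h5] at this
  exact absurd this ((by decide +kernel : ∀ a : R1, a ^ 3 = 1 → a.1.right ≠ 1 →
    ¬ 27 ≤ (Finset.univ.filter fun c => c * a = a * c).card) a (hi (by simpa using h4 _ hg))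
    fun e => h2 ⟨a.1.left, congrArg κ (Subtype.ext (SemidirectProduct.ext rfl e.symm))⟩)

/-- `g` acts as `f` -/
def An (ι : T27 →* G) (g : G) (f : T27 → T27) : Prop := ∀ a, g * ι a * g⁻¹ = ι (f a)

theorem An.mul (h : An ι g f) (h' : An ι k f') : An ι (g * k) fun a => f (f' a) := fun a => by rw [← h, ← h']; group

theorem An.norm (h : An ι g f) : g ∈ 𝐍(ι.range) :=
  mem_normalizer_of_cj_le (cj_le_iff.2 (by rintro _ ⟨x, rfl⟩; exact ⟨_, (h x).symm⟩))

theorem exists_mat (hg : g ∈ 𝐍(ι.range)) : ∃ p q r, An ι g (mat p q r) := by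
  choose f hf using fun a => Core.conj_mem_of_mem_normalizer hg ⟨a, rfl⟩
  have s : ∀ a k, g * ι (sm a k) * g⁻¹ = ι (sm (f a) k) := fun a k => by
    unfold sm; cases Nat.beq k 0 <;> cases Nat.beq k 1 <;> simp [hf, mul_assoc]
  refine ⟨f (.el 1), f (.el 3), f (.el 9), fun a => ?_⟩
  conv_lhs => rw [(by decide +kernel : ∀ a, a = mat (.el 1) (.el 3) (.el 9) a) a]
  simp only [mat, map_mul, ← s]; group

theorem exists_fr (hi : Function.Injective ι) (h3 : ∀ d, act2 d z = z → ∃ g, An ι g (act2 d))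
    (hz : ∀ g, Commute g (ι z) → ∃ d, act2 d z = z ∧ An ι g (act2 d)) :
    ∃ k : Fin 3, ∀ g ∈ 𝐍(ι.range), ∃ d, An ι g (fr k d) := by
  have all : ∀ g ∈ 𝐍(ι.range), ∃ k : Fin 3, ∃ d, An ι g (fr k d) := fun g hg => by
    obtain ⟨p, q, r, h⟩ := exists_mat hg
    have wg : ∀ n c, ∃ g, An ι g (wd p q r n c) := fun n => by
      induction n with
      | zero => exact fun _ => ⟨g, h⟩
      | succ n ih =>
        intro c
        obtain ⟨k, hk⟩ := ih (Nat.div c 8)
        obtain ⟨d, d1, d2⟩ := (by decide +kernel : ∀ s < 7, ∃ d, act2 d z = z ∧ ∀ a, pa s a = act2 d a) _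
          (Nat.mod_lt (Nat.mod c 8) (by norm_num))
        obtain ⟨s, hs⟩ := h3 d d1
        unfold An wd
        cases Nat.beq (Nat.mod c 8) 0
        · exact ⟨_, fun a => (h.mul (hs.mul hk) a).trans (congrArg (fun a => ι (mat p q r a)) (d2 _).symm)⟩
        · exact ⟨g, h⟩
    rcases cert p q r with ⟨h1, h2, h4⟩ | ⟨h1, h2⟩ | h1
    · obtain ⟨k, hk⟩ := wg 4 (ct p q r / 4)
      obtain ⟨d, d1, d2⟩ := hz k (mul_inv_eq_iff_eq_mul.1 (by rw [hk, h2]))
      exact absurd (hi ((hk _).symm.trans (d2 _)) ▸ (by decide +kernel : ∀ d, act2 d z = z → ∀ a, inE a → inE (act2 d a)) d d1 _ h1) h4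
    · have := h (.el (ct p q r / 4))
      rw [h2, map_one, conj_eq_one_iff, map_eq_one_iff ι hi] at this
      exact absurd this h1
    · refine ⟨⟨ct p q r / 192 % 3, Nat.mod_lt _ (by norm_num)⟩, m48 (ct p q r / 4), fun a => ?_⟩
      have u : ∀ k k', k % 3 = k' % 3 → uk k = uk k' := fun k k' e => funext fun a => by
        unfold uk; rw [show Nat.mod k 3 = Nat.mod k' 3 from e]
      rw [h, h1, fr, fr, u _ (ct p q r / 192 % 3) (by omega), u (2 * _) (2 * (ct p q r / 192 % 3)) (by omega)]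
  have r2 : ∀ k : Fin 3, ∀ d, inr d ∈ R2 → ∀ a, fr k d a = act2 d a := by decide +kernel
  by_cases h : ∃ g, ∃ k : Fin 3, ∃ d, An ι g (fr k d) ∧ inr d ∉ R2
  · obtain ⟨g, k, d, h1, h2⟩ := h
    refine ⟨k, fun g' hg => ?_⟩
    obtain ⟨k', d', h3⟩ := all g' hg
    by_cases h4 : inr d' ∈ R2
    · exact ⟨d', fun a => by rw [h3, r2 _ _ h4, r2 _ _ h4]⟩
    by_cases e : k = k'
    · exact ⟨d', e ▸ h3⟩
    obtain ⟨j, d'', h5⟩ := all _ (h1.mul h3).norm
    obtain ⟨i, h6⟩ := frames k k' e d h2 d' h4 j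
    rw [show fr k d (fr k' d' _) = _ from hi ((h1.mul h3 _).symm.trans (h5 _))] at h6
    exact absurd ((by decide +kernel : ∀ j i : Fin 3, ∀ d, Nin.cls (uk (2 * j) (fr j d (uk j (.el (3 ^ i.1))))) = 1) j i d'') h6
  · refine ⟨0, fun g hg => ?_⟩
    obtain ⟨k, d, h1⟩ := all g hg
    have h2 : inr d ∈ R2 := by_contra fun e => h ⟨g, k, d, h1, e⟩
    exact ⟨d, fun a => by rw [h1, r2 _ _ h2, r2 _ _ h2]⟩

/-- `K` restricted to `R` is an isomorphism onto the normalizer of `J = ι.range` -/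
structure St (R : Subgroup W2) (K : W2 → G) (ι : T27 →* G) : Prop where
  mul : ∀ a ∈ R, ∀ b ∈ R, K (a * b) = K a * K b
  inj : ∀ a ∈ R, K a = 1 → a = 1
  kι : ∀ a, K (inl a) = ι a
  le : R1 ≤ R
  nrm : ∀ g ∈ 𝐍(ι.range), ∃ c ∈ R, K c = g
  cx : 𝐂[ι z] ≤ 𝐍(ι.range)
  sig : ∀ L : Subgroup G, (Nat.card L).Coprime 3 → ι.range ≤ 𝐍(L) → L = ⊥

theorem exists_st {κ : R1 →* G} (hi : Function.Injective κ) (hr : κ.range = 𝐂[κ (i1 z)])
    (sig : ∀ L : Subgroup G, (Nat.card L).Coprime 3 → (κ.comp i1).range ≤ 𝐍(L) → L = ⊥) :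
    ∃ R K, ∃ ι : T27 →* G, St R K ι ∧ ι.range = (κ.comp i1).range := by
  have i0 : Function.Injective (κ.comp i1) := hi.comp fun _ _ e => inl_injective (congrArg Subtype.val e)
  have an : ∀ c : R1, An (κ.comp i1) (κ c) (act2 c.1.right) := fun c a => by
    simp only [MonoidHom.comp_apply, ← map_inv, ← map_mul]
    exact congrArg κ (Subtype.ext ((by decide +kernel : ∀ c : W2, ∀ a, c * inl a * c⁻¹ = inl (act2 c.right a)) c.1 a))
  obtain ⟨k, hk⟩ := exists_fr i0 (fun d hd => ⟨_, an ⟨inr d, hd⟩⟩) fun g hg => by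
    obtain ⟨c, rfl⟩ := hr.ge (mem_cent.2 hg)
    exact ⟨_, c.2, an c⟩
  let U : T27 →* T27 := MonoidHom.mk' (uk k) ((by decide +kernel : ∀ k : Fin 3, ∀ a b, uk k (a * b) = uk k a * uk k b) k)
  obtain ⟨u1, u2, u3, u4⟩ := (by decide +kernel : ∀ k : Fin 3, (∀ a, uk k (uk (2 * k) a) = a) ∧ (∀ a, uk (2 * k) (uk k a) = a) ∧
    uk k z = z ∧ ∀ d, act2 d z = z → ∀ a, act2 d (uk k a) = uk k (act2 d a)) k
  let ι := (κ.comp i1).comp U
  have e : ι.range = (κ.comp i1).range := by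
    rw [MonoidHom.range_comp _ U, MonoidHom.range_eq_top.2 fun a => ⟨_, u1 a⟩, ← MonoidHom.range_eq_map]
  have i2 : Function.Injective ι := i0.comp (Function.LeftInverse.injective u2)
  have ez : ι z = κ (i1 z) := congrArg (κ.comp i1) u3
  have an' : ∀ c : R1, An ι (κ c) (act2 c.1.right) := fun c a => (an c _).trans (congrArg (κ.comp i1) (u4 _ c.2 a))
  choose r hr' using fun g : 𝐍(ι.range) => hk g.1 (e ▸ g.2)
  have ar : ∀ g, An ι g.1 (act2 (r g)) := fun g a => (hr' g _).trans (congrArg (fun a => κ.comp i1 (uk k (act2 _ a))) (u2 a))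
  have uq : ∀ {g d d'}, An ι g (act2 d) → An ι g (act2 d') → d = d' := fun h1 h2 =>
    (by decide +kernel : ∀ d d', (∀ a, act2 d a = act2 d' a) → d = d') _ _ fun a => i2 ((h1 a).symm.trans (h2 a))
  let ρ : 𝐍(ι.range) →* M48 := MonoidHom.mk' r fun a b => uq (ar _) fun x => ((ar a).mul (ar b) x).trans (by rw [act2_mul])
  have kN : κ.range ≤ 𝐍(ι.range) := by rintro _ ⟨c, rfl⟩; exact (an' c).norm
  have Jk : ι.range ≤ κ.range := by rintro _ ⟨a, rfl⟩; exact ⟨_, rfl⟩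
  have ker : ∀ g, ρ g = 1 ↔ g.1 ∈ ι.range := fun g => by
    constructor
    · intro h
      obtain ⟨c, hc⟩ := hr.ge (mem_cent.2 (mul_inv_eq_iff_eq_mul.1 (by rw [← ez, ar, show r g = 1 from h]; rfl) : g.1 * _ = _))
      exact e.ge ⟨c.1.left, (congrArg κ (show i1 c.1.left = c from
        Subtype.ext (SemidirectProduct.ext rfl (h.symm.trans (uq (ar g) (hc ▸ an' c)))))).trans hc⟩
    · rintro ⟨a, h⟩
      refine uq (ar g) fun b => ?_
      rw [← h, ← map_inv, ← map_mul, ← map_mul, (by decide +kernel : ∀ a b : T27, a * b * a⁻¹ = act2 1 b)]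
  have c27 : Nat.card ι.range = 27 := by
    rw [← Nat.card_congr (MonoidHom.ofInjective i2).toEquiv, Nat.card_eq_fintype_card]; decide +kernel
  obtain ⟨X, h1, h2⟩ := BG1.gaschutz_split (U := ι.range) (V := κ.range) (H := 𝐍(ι.range)) (X := (inr.range.subgroupOf R1).map κ)
    ⟨⟨by rintro ⟨_, a, rfl⟩ ⟨_, b, rfl⟩; exact Subtype.ext (Commute.map ((by decide +kernel : ∀ a b : T27, a * b = b * a) a b) ι)⟩⟩
    Jk kN le_rfl (by
      have a1 := Transfer.card_mul_relIndex kN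
      have a2 := card_subgroup_dvd_card ρ.range
      rw [← ρ.ker.card_mul_index, index_ker, show ρ.ker = ι.range.subgroupOf _ from Subgroup.ext ker, Core.card_subgroupOf_of_le le_normalizer,
        c27, ← Nat.card_congr (MonoidHom.ofInjective hi).toEquiv, card_R1] at a1
      rw [show Nat.card M48 = 48 by rw [Nat.card_eq_fintype_card]; decide +kernel] at a2
      rw [← show 6 * κ.range.relIndex 𝐍(ι.range) = Nat.card ρ.range by omega] at a2
      rw [c27]
      exact (by norm_num : Nat.Coprime 27 8).coprime_dvd_right (Nat.dvd_of_mul_dvd_mul_left (by norm_num : 0 < 6) a2))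
    (le_antisymm (sup_le Jk (map_le_range _ _)) (by
      rintro _ ⟨c, rfl⟩
      rw [show c = i1 c.1.left * ⟨inr c.1.right, c.2⟩ from Subtype.ext (inl_left_mul_inr_right c.1).symm, map_mul]
      exact mul_mem_sup (e.ge ⟨_, rfl⟩) ⟨_, ⟨_, rfl⟩, rfl⟩))
    (eq_bot_iff.2 (by
      rintro _ ⟨ha, c, ⟨d, hd⟩, rfl⟩
      obtain ⟨a, ha⟩ := e.le ha
      have := congrArg (fun c : R1 => c.1.left) (hi ha)
      rw [← ha, show a = 1 from this.trans (congrArg (·.left) hd.symm), map_one]; rfl))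
  have XN : X ≤ 𝐍(ι.range) := h1 ▸ le_sup_right
  let τ := ρ.comp (inclusion XN)
  have τi : Function.Injective τ := (injective_iff_map_eq_one _).2 fun g hg => Subtype.ext (h2.le ⟨(ker _).1 hg, g.2⟩)
  let s := Function.invFun τ
  have hs : ∀ d ∈ τ.range, τ (s d) = d := fun d hd => Function.invFun_eq hd
  have dec : ∀ g : 𝐍(ι.range), ∃ a, ∃ y : X, g.1 = ι a * y ∧ τ y = ρ g := fun g => by
    obtain ⟨_, ⟨a, rfl⟩, y, hy, e⟩ := (Core.mem_sup_of_le_normalizer_left XN).1 (h1.ge g.2)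
    refine ⟨a, ⟨y, hy⟩, e.symm, ?_⟩
    rw [show g = ⟨ι a, le_normalizer ⟨a, rfl⟩⟩ * inclusion XN ⟨y, hy⟩ from Subtype.ext e.symm, map_mul, (ker _).2 ⟨a, rfl⟩, one_mul]; rfl
  refine ⟨τ.range.comap rightHom, fun c => ι c.left * s c.right, ι, ⟨fun a ha b hb => ?_, fun a ha h => ?_, fun a => ?_, fun c hc => ?_,
    fun g hg => ?_, ez ▸ hr ▸ kN, e ▸ sig⟩, e⟩
  · have := ar (inclusion XN (s a.right)) b.left
    rw [show r _ = a.right from hs _ ha] at this
    rw [mul_left, mul_right, map_mul, show s (a.right * b.right) = s a.right * s b.right from τi (by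
      rw [map_mul, hs a.right ha, hs b.right hb, hs (a.right * b.right) (τ.range.mul_mem ha hb)]), show φ2 a.right b.left = act2 a.right b.left from rfl, ← this]
    simp only [coe_mul, show (inclusion XN (s a.right)).1 = s a.right from rfl]; group
  · have e1 : s a.right = 1 := Subtype.ext (h2.le ⟨⟨a.left⁻¹, by rw [map_inv]; exact inv_eq_of_mul_eq_one_right h⟩, (s _).2⟩)
    rw [e1, coe_one, mul_one, map_eq_one_iff ι i2] at h
    exact SemidirectProduct.ext h (by rw [← hs a.right ha, e1, map_one]; rfl)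
  · rw [left_inl, right_inl, show s 1 = 1 from τi (by rw [hs _ (one_mem _), map_one]), coe_one, mul_one]
  · obtain ⟨_, y, -, e⟩ := dec ⟨κ ⟨c, hc⟩, kN ⟨_, rfl⟩⟩
    exact ⟨y, e.trans (uq (ar _) (an' ⟨c, hc⟩))⟩
  · obtain ⟨a, y, e, -⟩ := dec ⟨g, hg⟩
    exact ⟨⟨a, τ y⟩, ⟨y, rfl⟩, by rw [show s (τ y) = y from τi (hs _ ⟨y, rfl⟩)]; exact e.symm⟩

end Cfsg.Lib.Block.Ten
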