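import Cfsg.Agent.Lib.Block.Ten2
import Cfsg.Agent.Lib.Block.Ten4
import Cfsg.Agent.Lib.Invol.Closed

/-! # Centralizers of subgroups of `J` -/

set_option autoImplicit false
set_option linter.unusedSectionVars false
set_option synthInstance.maxSize 100000
set_option maxRecDepth 100000

namespace Cfsg.Lib.Block.Ten

open Cfsg Cfsg.Lib.Invol Cfsg.Lib.Transfer Cfsg.Lib.Block.Tri Cfsg.Lib.Block.Nin Subgroup SemidirectProduct

local notation "𝐍(" X ")" => normalizer (SetLike.coe X)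
local notation "𝐂(" X ")" => centralizer (SetLike.coe X)
local notation "𝐂[" x "]" => centralizer ({x} : Set _)

variable {G : Type*} [Group G] [Finite G] {R H : Subgroup W2} {K : W2 → G} {ι : T27 →* G} {g x y : G} {c d Y : W2} {a b p q : T27}

theorem normal_of_inv3 (h : Exc.C3 x) (h0 : ∀ F, Exc.Inv3 x F → F = ⊥) : (zpowers x).Normal := by
  rcases h.loc (mem_top x) with ⟨F, hF⟩ | ⟨τ, -, hτ, -, g, -, h1⟩
  · have := hF.sup
    rw [h0 F ⟨hF.norm (mem_top x), hF.notMem⟩, bot_sup_eq, top_inf_eq] at this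
    exact normalizer_eq_top_iff.1 this
  · have h4 : orderOf (g * τ * g⁻¹) = 2 := by rw [orderOf_conj, hτ]
    rw [mem_bot.1 ((h0 _ (h.inv_D (h.not_mem_X h4))).le (h.mem_D_of_two h4 h1)), orderOf_one] at h4
    omega

theorem conj_inl : ∀ (c : W2) a, c * inl a * c⁻¹ = inl (act2 c.right a) := by decide +kernel

theorem J_comm : ι.range ≤ 𝐂(ι.range) := by
  rintro _ ⟨a, rfl⟩ _ ⟨b, rfl⟩
  exact Commute.map ((by decide +kernel : ∀ a b : T27, a * b = b * a) b a) ι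

theorem J_le (a : T27) : ι.range ≤ 𝐂[ι a] := fun _ ht => mem_cent.2 (J_comm ht _ ⟨a, rfl⟩).symm

theorem J_cube (h : g ∈ ι.range) : g ^ 3 = 1 := by
  obtain ⟨a, rfl⟩ := h
  rw [← map_pow, (by decide +kernel : ∀ a : T27, a ^ 3 = 1), map_one]

/-- independent vectors -/
def Ind (a b : T27) : Prop := a ≠ 1 ∧ b ≠ 1 ∧ b ≠ a ∧ b ≠ a⁻¹

instance (a b : T27) : Decidable (Ind a b) := by unfold Ind; infer_instance

theorem plane : ∀ a b, Ind a b → ∃ c : T27, (∀ i j : Fin 3, c ≠ a ^ i.1 * b ^ j.1) ∧ (∀ d, act2 d a = a → act2 d b = b → ∀ y, ∃ k : Fin 3,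
    act2 d y * y⁻¹ = c ^ k.1) ∧ ∀ y, ∃ x, y = mat a b c x := by decide +kernel

theorem mat_mem {L : Subgroup G} {c : T27} (ha : ι a ∈ L) (hb : ι b ∈ L) (hc : ι c ∈ L) (x : T27) : ι (mat a b c x) ∈ L := by
  have s : ∀ a k, ι a ∈ L → ι (sm a k) ∈ L := fun a k h => by
    unfold sm; cases Nat.beq k 0 <;> cases Nat.beq k 1 <;> simp [h]
  simp only [mat, map_mul]
  exact mul_mem (mul_mem (s _ _ ha) (s _ _ hb)) (s _ _ hc)

namespace St
variable (h : St R K ι)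
include h

def hom : R →* G := MonoidHom.mk' (fun c => K c) fun a b => h.mul _ a.2 _ b.2

theorem one : K 1 = 1 := h.hom.map_one

theorem inv (hc : c ∈ R) : K c⁻¹ = (K c)⁻¹ := h.hom.map_inv ⟨c, hc⟩

theorem pow (hc : c ∈ R) (n : ℕ) : K (c ^ n) = K c ^ n := h.hom.map_pow ⟨c, hc⟩ n

theorem hinj : Function.Injective h.hom := (injective_iff_map_eq_one _).2 fun a e => Subtype.ext (h.inj _ a.2 e)

theorem eq (hc : c ∈ R) (hd : d ∈ R) (e : K c = K d) : c = d := congrArg Subtype.val (h.hinj (a₁ := ⟨c, hc⟩) (a₂ := ⟨d, hd⟩) e)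

theorem conj (hc : c ∈ R) (hd : d ∈ R) : K c * K d * (K c)⁻¹ = K (c * d * c⁻¹) := by
  rw [h.mul _ (R.mul_mem hc hd) _ (R.inv_mem hc), h.mul _ hc _ hd, h.inv hc]

theorem comm (hc : c ∈ R) (hd : d ∈ R) : Commute (K c) (K d) ↔ c * d = d * c := by
  rw [Commute, SemiconjBy, ← h.mul _ hc _ hd, ← h.mul _ hd _ hc]
  exact ⟨h.eq (R.mul_mem hc hd) (R.mul_mem hd hc), congrArg K⟩

theorem iR (a : T27) : inl a ∈ R := h.le ((by decide +kernel : ∀ a, inl a ∈ R1) a)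

theorem an (hc : c ∈ R) : An ι (K c) (act2 c.right) := fun a => by rw [← h.kι, h.conj hc (h.iR a), conj_inl, h.kι]

theorem ιinj : Function.Injective ι := fun a b e => inl_injective (h.eq (h.iR a) (h.iR b) (by rwa [h.kι, h.kι]))

theorem memN (hc : c ∈ R) : K c ∈ 𝐍(ι.range) := (h.an hc).norm

theorem memJ (hc : c ∈ R) : K c ∈ ι.range ↔ c.right = 1 :=
  ⟨fun ⟨a, e⟩ => h.eq (h.iR a) hc ((h.kι a).trans e) ▸ rfl, fun e => ⟨c.left, (h.kι _).symm.trans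
    (congrArg K (SemidirectProduct.ext rfl e.symm))⟩⟩

theorem cent_le : 𝐂(ι.range) ≤ ι.range := fun g hg => by
  obtain ⟨c, hc, rfl⟩ := h.nrm g (centralizer_le_normalizer _ hg)
  exact (h.memJ hc).2 ((by decide +kernel : ∀ d, (∀ a, act2 d a = a) → d = 1) _ fun a => h.ιinj (by
    rw [← h.an hc, ← hg _ ⟨a, rfl⟩, mul_inv_cancel_right]))

theorem card_J : Nat.card ι.range = 27 := by
  rw [← Nat.card_congr (MonoidHom.ofInjective h.ιinj).toEquiv, Nat.card_eq_fintype_card]; decide +kernel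

def im (H : Subgroup W2) : Subgroup G := (H.subgroupOf R).map h.hom

theorem mem_im : g ∈ h.im H ↔ ∃ c ∈ R, c ∈ H ∧ K c = g :=
  ⟨fun ⟨c, h1, h2⟩ => ⟨c, c.2, h1, h2⟩, fun ⟨c, h1, h2, h3⟩ => ⟨⟨c, h1⟩, h2, h3⟩⟩

theorem card_im (hH : H ≤ R) : Nat.card (h.im H) = Nat.card H := by
  rw [im, card_map_of_injective h.hinj, Core.card_subgroupOf_of_le hH]

theorem im_le : h.im H ≤ 𝐍(ι.range) := fun _ hg => (h.mem_im.1 hg).elim fun _ e => e.2.2 ▸ h.memN e.1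

theorem S_le : S2 ≤ R := fun _ hc => h.le hc.2

theorem card_S : Nat.card (h.im S2) = 81 := by rw [h.card_im h.S_le, Nat.card_eq_fintype_card]; decide +kernel

theorem J_S : ι.range ≤ h.im S2 := by
  rintro _ ⟨a, rfl⟩; exact h.mem_im.2 ⟨_, h.iR a, (by decide +kernel : ∀ a, inl a ∈ S2) a, h.kι a⟩

theorem weak : IsWeaklyClosed ι.range (h.im S2) := ⟨h.J_S, fun g hg => by
  have := eq_J (κ := h.hom.comp (inclusion h.le)) (h.hinj.comp (inclusion_injective _)) (J := cj g ι.range)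
    (fun x hx => by obtain ⟨c, -, h1, e⟩ := h.mem_im.1 (hg hx); exact ⟨⟨c, h1.2⟩, e⟩)
    (by rintro _ ⟨a, ha, rfl⟩ _ ⟨b, hb, rfl⟩; exact Commute.map (J_comm hb a ha) (MulAut.conj g))
    (by rintro _ ⟨a, ha, rfl⟩; rw [← map_pow, J_cube ha, map_one]) (by rw [card_cj, h.card_J])
  exact this.trans (congrArg MonoidHom.range (MonoidHom.ext h.kι))⟩

theorem syl : SylowIn 3 (h.im S2) ⊤ := by
  refine sylowIn_of_maximal le_top (IsPGroup.of_card (n := 4) h.card_S) fun Q hQ h1 _ => by_contra fun h2 => ?_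
  obtain ⟨g, hg, h4⟩ := SetLike.exists_of_lt (lt_inf_normalizer hQ (lt_of_le_not_ge h1 h2))
  obtain ⟨c, hc, rfl⟩ := h.nrm g (weak_normalizer h.weak hg.2)
  have tR := h.S_le (by decide +kernel : v 0 4 ∈ S2)
  obtain ⟨d, hd, h5, e⟩ := h.mem_im.1 (Core.conj_mem_of_mem_normalizer hg.2 (h.mem_im.2 ⟨_, tR, by decide +kernel, rfl⟩))
  rw [h.conj hc tR] at e
  obtain ⟨k, hk⟩ := IsPGroup.iff_orderOf.1 hQ ⟨_, hg.1⟩
  refine h4 (mem_of_pow_mem_of_coprime (n := 2) ?_ (h.mem_im.2 ⟨_, R.pow_mem hc 2, (by decide +kernel : ∀ c, c * v 0 4 * c⁻¹ ∈ S2 →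
    c ^ 2 ∈ S2) c (h.eq hd (R.mul_mem (R.mul_mem hc tR) (R.inv_mem hc)) e ▸ h5), h.pow hc 2⟩))
  rw [← orderOf_coe] at hk
  exact hk ▸ Nat.Coprime.pow_left _ (by norm_num)

theorem pJ : IsPGroup 3 ι.range := IsPGroup.of_card (n := 3) h.card_J

theorem wk (hg : cj g ι.range ≤ 𝐍(ι.range)) : g ∈ 𝐍(ι.range) := by
  obtain ⟨P, hP⟩ := h.syl.exists_sylow_top
  exact cj_eq_iff.1 (weak_eq_of_pgroup P (hP ▸ h.weak) ((isPGroup_cj g h.pJ).to_sup_of_normal_right' h.pJ hg) le_sup_right le_sup_left)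

theorem cj_le (e : g * ι a * g⁻¹ = x) : cj g ι.range ≤ 𝐂[x] :=
  cj_le_iff.2 fun _ ht => mem_cent.2 (e ▸ (mem_cent.1 (J_le a ht)).conj g)

theorem fus (e : IsConj (ι a) (ι b)) : ∃ c ∈ R, act2 c.right a = b := by
  obtain ⟨g, e⟩ := isConj_iff.1 e
  obtain ⟨P, hP⟩ := h.syl.exists_sylow_top
  obtain ⟨k, hk, e1⟩ := weak_fixed P (hP ▸ h.weak) (J_le b) (h.cj_le e)
  obtain ⟨c, hc, e2⟩ := h.nrm _ e1
  refine ⟨c, hc, h.ιinj ?_⟩
  rw [← h.an hc, e2, ← (mem_cent.1 hk).mul_inv_cancel, ← e]; group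

theorem cent2 (hi : Ind a b) : 𝐂[ι a] ⊓ 𝐂[ι b] ≤ 𝐍(ι.range) := by
  obtain ⟨c, c1, c2, c3⟩ := plane a b hi
  have gen : ∀ L : Subgroup G, ι a ∈ L → ι b ∈ L → ι c ∈ L → ι.range ≤ L := by
    rintro L ha hb hc _ ⟨y, rfl⟩
    obtain ⟨x, rfl⟩ := c3 y
    exact mat_mem ha hb hc x
  set H := 𝐂[ι a] ⊓ 𝐂[ι b]
  have JH : ι.range ≤ H := le_inf (J_le a) (J_le b)
  have nH : ∀ g ∈ H, g ∈ 𝐍(ι.range) → ∀ y, ∃ k : Fin 3, g * ι y * g⁻¹ * (ι y)⁻¹ = ι c ^ k.1 := fun g hg hn y => by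
    obtain ⟨d, hd, rfl⟩ := h.nrm g hn
    obtain ⟨k, e⟩ := c2 d.right (h.ιinj (by rw [← h.an hd, (mem_cent.1 hg.1).mul_inv_cancel]))
      (h.ιinj (by rw [← h.an hd, (mem_cent.1 hg.2).mul_inv_cancel])) y
    exact ⟨k, by rw [h.an hd, ← map_inv, ← map_mul, e, map_pow]⟩
  have s : SylowIn 3 ι.range H := sylowIn_of_maximal JH h.pJ fun Q hQ h1 h2 => by_contra fun h3 => by
    obtain ⟨g, hg, h4⟩ := SetLike.exists_of_lt (lt_inf_normalizer hQ (lt_of_le_not_ge h1 h3))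
    obtain ⟨d, hd, rfl⟩ := h.nrm g hg.2
    obtain ⟨k, hk⟩ := IsPGroup.iff_orderOf.1 hQ ⟨_, hg.1⟩
    refine h4 (mem_of_pow_mem_of_coprime (n := 2) ?_ (h.pow hd 2 ▸ (h.memJ (R.pow_mem hd 2)).2 ?_))
    · rw [← orderOf_coe] at hk
      exact hk ▸ Nat.Coprime.pow_left _ (by norm_num)
    exact (by decide +kernel : ∀ d : M48, (∃ a, act2 d a = a ∧ ∃ b, act2 d b = b ∧ Ind a b) → d ^ 2 = 1) d.right ⟨a,
      h.ιinj (by rw [← h.an hd, (mem_cent.1 (h2 hg.1).1).mul_inv_cancel]), b,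
      h.ιinj (by rw [← h.an hd, (mem_cent.1 (h2 hg.1).2).mul_inv_cancel]), hi⟩
  have hK : ι.range ⊓ resOf 3 H ≤ zpowers (ι c) := by
    rw [s.inf_resOf_of_comm ⟨⟨fun a b => Subtype.ext (J_comm b.2 _ a.2)⟩⟩, commutator_comm, commutator_le]
    rintro g hg _ ⟨y, rfl⟩
    obtain ⟨k, e⟩ := nH g hg.1 hg.2 y
    exact commutatorElement_def g _ ▸ e ▸ pow_mem (mem_zpowers _) _
  have sup := s.resOf_sup
  have KH := resOf_le (p := 3) H
  have nK : H ≤ 𝐍(resOf 3 H) := le_normalizer.trans (normalizer_le_normalizer_resOf H)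
  generalize resOf 3 H = L at *
  refine sup.ge.trans (sup_le ?_ le_normalizer)
  have c3 : ι c ^ 3 = 1 := J_cube ⟨c, rfl⟩
  by_cases bK : ι c ∈ L
  swap
  · refine (h.sig L (Nat.prime_three.coprime_iff_not_dvd.2 ((s.inf_of_le nK KH).eq_bot_iff.1 (eq_bot_iff.2 fun t ht => ?_))).symm
      (JH.trans nK)).le.trans bot_le
    obtain ⟨k, rfl⟩ := (mem_zp3 c3).1 (hK ht)
    fin_cases k
    · simp
    · simpa [bK] using ht.2
    · simpa [bK, sq, mul_self_of_cube c3] using ht.2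
  have e3 : Exc.C3 (⟨ι c, bK⟩ : L) := ⟨by
    rw [orderOf_mk]; exact orderOf_eq_prime c3 ((map_ne_one_iff ι h.ιinj).2 (by simpa using c1 0 0)), fun g hg => by
    obtain ⟨k, e⟩ := hK ⟨h.cent_le fun t ht => (mem_cent.1 (gen 𝐂[g.1] (mem_cent.2 (mem_cent.1 (KH g.2).1).symm)
      (mem_cent.2 (mem_cent.1 (KH g.2).2).symm) (mem_cent.2 (congrArg Subtype.val hg.symm.eq)) ht)).eq, g.2⟩
    exact ⟨k, Subtype.ext e⟩⟩
  have n := normal_of_inv3 e3 fun F hF => by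
    have cN : ∀ x, L ≤ 𝐂[x] → x ∈ 𝐍(F.map L.subtype) := fun x hx => centralizer_le_normalizer _ fun y hy =>
      (mem_cent.1 (hx (map_subtype_le F hy))).eq
    refine (map_eq_bot_iff_of_injective F L.subtype_injective).1 (h.sig _ ?_ (gen _ (cN _ (KH.trans inf_le_left))
      (cN _ (KH.trans inf_le_right)) (le_normalizer_map _ (mem_map_of_mem _ hF.norm))))
    rw [card_map_of_injective L.subtype_injective]
    exact (Nat.prime_three.coprime_iff_not_dvd.2 (by have := e3.mod_three hF; omega)).symm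
  refine fun g hg => mem_normalizer_of_cj_le (cj_le_iff_le_cj_inv.2 (gen _ (mem_cj.2 ?_) (mem_cj.2 ?_) (mem_cj.2 ?_))) <;> rw [inv_inv]
  · exact ⟨a, (mem_cent.1 (KH hg).1).mul_inv_cancel.symm⟩
  · exact ⟨b, (mem_cent.1 (KH hg).2).mul_inv_cancel.symm⟩
  · obtain ⟨k, e⟩ := n.conj_mem _ (mem_zpowers _) ⟨g, hg⟩
    exact ⟨c ^ k, (map_zpow ι c k).trans (congrArg Subtype.val e)⟩

theorem memN2 (hi : Ind a b) (ha : g * ι a * g⁻¹ ∈ ι.range) (hb : g * ι b * g⁻¹ ∈ ι.range) : g ∈ 𝐍(ι.range) := by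
  obtain ⟨a', ha⟩ := ha
  obtain ⟨b', hb⟩ := hb
  refine h.wk ((le_inf (h.cj_le ha.symm) (h.cj_le hb.symm)).trans (h.cent2 ⟨fun e => hi.1 (h.ιinj ?_), fun e => hi.2.1 (h.ιinj ?_),
    fun e => hi.2.2.1 (h.ιinj ?_), fun e => hi.2.2.2 (h.ιinj ?_)⟩))
  · simpa [e, eq_comm (a := (1 : G))] using ha
  · simpa [e, eq_comm (a := (1 : G))] using hb
  · simpa [e, ha] using hb.symm
  · rw [e, map_inv, ha, conj_inv, ← map_inv] at hb; simpa using hb.symm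

end St

end Cfsg.Lib.Block.Ten
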