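import Cfsg.Agent.Lib.Block.Ten5

/-! # Centralizers of elements of `J` and of an involution -/

set_option autoImplicit false
set_option linter.unusedSectionVars false
set_option synthInstance.maxSize 100000
set_option maxRecDepth 100000

namespace Cfsg.Lib.Block.Ten

open Cfsg Cfsg.Lib.Invol Cfsg.Lib.Transfer Cfsg.Lib.Block.Tri Cfsg.Lib.Block.Nin Subgroup SemidirectProduct

local notation "𝐍(" X ")" => normalizer (SetLike.coe X)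
local notation "𝐂(" X ")" => centralizer (SetLike.coe X)
local notation "𝐂[" x "]" => centralizer ({x} : Set _)

variable {G : Type*} [Group G] [Finite G] {R : Subgroup W2} {K : W2 → G} {ι : T27 →* G} {y : G} {c Y : W2} {a b p q : T27}

theorem syl9 {ι : A2 →* G} (hC : 𝐂(ι.range) ≤ ι.range) (hN : ∀ g ∈ 𝐍(ι.range), g ^ 4 ∈ 𝐂(ι.range)) : SylowIn 3 ι.range ⊤ := by
  refine sylowIn_of_maximal le_top (isPGroup_of_elem fun _ => cube9) fun Q hQ h1 _ => by_contra fun h2 => ?_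
  obtain ⟨g, hg, h4⟩ := SetLike.exists_of_lt (lt_inf_normalizer hQ (lt_of_le_not_ge h1 h2))
  obtain ⟨k, hk⟩ := IsPGroup.iff_orderOf.1 hQ ⟨_, hg.1⟩
  refine h4 (mem_of_pow_mem_of_coprime (n := 4) ?_ (hC (hN g hg.2)))
  rw [← orderOf_coe] at hk
  exact hk ▸ Nat.Coprime.pow_left _ (by norm_num)

theorem syl9' {ι : A2 →* G} (hC : 𝐂(ι.range) ≤ ι.range) (hN : ∀ g ∈ 𝐍(ι.range), ∃ d, Ac ι g d) : SylowIn 3 ι.range ⊤ :=
  syl9 hC fun g hg => (hN g hg).elim fun _ hd => by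
    rw [show 4 = 2 * 2 from rfl, pow_mul, sq g]; exact pow_mem (ac_one (hd.sq hC)).cent 2

instance (y : G) : ((zpowers y).subgroupOf 𝐂[y]).Normal :=
  normal_subgroupOf_of_le_normalizer fun g hg => mem_normalizer_of_cj_le (cj_zpowers_le.2 (by rw [(mem_cent.1 hg).mul_inv_cancel]; simp))

abbrev Qc (y : G) := 𝐂[y] ⧸ (zpowers y).subgroupOf 𝐂[y]

def qc (y : G) : 𝐂[y] →* Qc y := QuotientGroup.mk' _

theorem qc_surj : Function.Surjective (qc y) := QuotientGroup.mk'_surjective _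

theorem qc_eq (hy : y ^ 3 = 1 ∨ y ^ 2 = 1) {g k : 𝐂[y]} : qc y g = qc y k ↔ ∃ i : Fin 3, k.1 = g.1 * y ^ i.1 := by
  refine QuotientGroup.eq.trans (show g.1⁻¹ * k.1 ∈ zpowers y ↔ _ from ?_)
  simp only [← inv_mul_eq_iff_eq_mul]
  refine hy.elim mem_zp3 fun h => ⟨fun ⟨k, hk⟩ => ⟨⟨(k % 2).toNat, by omega⟩, ?_⟩, fun ⟨k, hk⟩ => hk ▸ pow_mem (mem_zpowers y) _⟩
  rw [← zpow_natCast, Int.toNat_of_nonneg (by omega), ← hk]
  exact zpow_eq_zpow_emod k (by exact_mod_cast h)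

def ι2 (p q : T27) : A2 →* W2 :=
  inl.comp (em ((by decide +kernel : ∀ a : T27, a ^ 3 = 1) p) ((by decide +kernel : ∀ a : T27, a ^ 3 = 1) q)
    ((by decide +kernel : ∀ a b : T27, a * b = b * a) p q))

/-- `p, q` span a complement to `⟨Y⟩` in `C_J(Y)⟨Y⟩` -/
def Pq (Y : W2) (p q : T27) : Prop :=
  (Y ^ 3 = 1 ∨ Y ^ 2 = 1) ∧ Ind p q ∧ (∀ x, inl (ph p q x) * Y = Y * inl (ph p q x)) ∧
  (∀ x, ∀ k : Fin 3, 1 = inl (ph p q x) * Y ^ k.1 → x = 1) ∧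
  (∀ x, ∀ k : Fin 3, (inl (ph p q x) * Y ^ k.1) ^ 3 = 1 → (inl (ph p q x) * Y ^ k.1).right = 1) ∧
  ∀ c, c * Y = Y * c → (∀ x, ∃ x', ∃ k : Fin 3, inl (act2 c.right (ph p q x)) = inl (ph p q x') * Y ^ k.1) ∧
    ((∀ x, ∃ k : Fin 3, inl (act2 c.right (ph p q x)) = inl (ph p q x) * Y ^ k.1) → ∃ x, ∃ k : Fin 3, c = inl (ph p q x) * Y ^ k.1)

instance (Y : W2) (p q : T27) : Decidable (Pq Y p q) := by unfold Pq; infer_instance

/-- `c` acts diagonally modulo `Y` -/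
def Dg (Y : W2) (p q : T27) (c : W2) (d : K4) : Prop :=
  ∀ x, ∃ k : Fin 3, inl (act2 c.right (ph p q x)) = inl (ph p q (act4 d x)) * Y ^ k.1

instance (Y : W2) (p q : T27) (c : W2) (d : K4) : Decidable (Dg Y p q c d) := by unfold Dg; infer_instance

namespace St
variable (h : St R K ι)
include h

def mu (hY : Y ∈ R) : ↥(R ⊓ 𝐂[Y]) →* Qc (K Y) :=
  (qc _).comp ((h.hom.comp (inclusion inf_le_left)).codRestrict _ fun c => mem_cent.2 ((h.comm c.2.1 hY).2 (mem_cent.1 c.2.2)))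

def iq (hY : Y ∈ R) (P : Pq Y p q) : A2 →* Qc (K Y) :=
  (h.mu hY).comp ((ι2 p q).codRestrict _ fun x => ⟨h.iR _, mem_cent.2 (P.2.2.1 x)⟩)

variable (hY : Y ∈ R) (P : Pq Y p q) {g : 𝐂[K Y]}
include hY P

theorem Y3 : K Y ^ 3 = 1 ∨ K Y ^ 2 = 1 := P.1.imp (fun e => by rw [← h.pow hY, e, h.one]) fun e => by rw [← h.pow hY, e, h.one]

theorem iq_eq {x : A2} : h.iq hY P x = qc _ g ↔ ∃ k : Fin 3, g.1 = K (inl (ph p q x) * Y ^ k.1) :=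
  (qc_eq (h.Y3 hY P)).trans (exists_congr fun k => by rw [h.mul _ (h.iR _) _ (R.pow_mem hY _), h.pow hY]; rfl)

theorem conj_iq {x x' : A2} : qc _ g * h.iq hY P x * (qc _ g)⁻¹ = h.iq hY P x' ↔
    ∃ k : Fin 3, g.1 * ι (ph p q x) * g.1⁻¹ = K (inl (ph p q x') * Y ^ k.1) := by
  have := h.iq_eq hY P (x := x') (g := g * ⟨K (inl (ph p q x)), mem_cent.2 ((h.comm (h.iR _) hY).2 (P.2.2.1 x))⟩ * g⁻¹)
  rw [map_mul, map_mul, map_inv, eq_comm] at this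
  rw [← h.kι]; exact this

theorem conj_iq' (hc : c ∈ R) (e : K c = g.1) {x x' : A2} : qc _ g * h.iq hY P x * (qc _ g)⁻¹ = h.iq hY P x' ↔
    ∃ k : Fin 3, inl (act2 c.right (ph p q x)) = inl (ph p q x') * Y ^ k.1 := by
  rw [h.conj_iq hY P, ← e, h.an hc, ← h.kι]
  exact exists_congr fun k => ⟨h.eq (h.iR _) (R.mul_mem (h.iR _) (R.pow_mem hY _)), congrArg K⟩

theorem iq_inj : Function.Injective (h.iq hY P) := (injective_iff_map_eq_one _).2 fun x e => by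
  obtain ⟨k, e⟩ := (h.iq_eq hY P (g := 1)).1 e
  exact P.2.2.2.1 x k (h.inj _ (R.mul_mem (h.iR _) (R.pow_mem hY _)) e.symm).symm

theorem conj_J {x x' : A2} (e : qc _ g * h.iq hY P x * (qc _ g)⁻¹ = h.iq hY P x') :
    ∃ b, g.1 * ι (ph p q x) * g.1⁻¹ = ι b ∧ ∃ k : Fin 3, inl b = inl (ph p q x') * Y ^ k.1 := by
  obtain ⟨k, e⟩ := (h.conj_iq hY P).1 e
  have m := R.mul_mem (h.iR (ph p q x')) (R.pow_mem hY k)
  obtain ⟨b, hb⟩ := (h.memJ m).2 (P.2.2.2.2.1 x' k (h.inj _ (R.pow_mem m 3) (by rw [h.pow m, ← e, conj_pow, J_cube ⟨_, rfl⟩]; simp)))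
  exact ⟨b, e.trans hb.symm, k, h.eq (h.iR b) m ((h.kι b).trans hb)⟩

theorem lift (hg : g.1 ∈ 𝐍(ι.range)) : ∃ c ∈ R, K c = g.1 ∧ c * Y = Y * c := by
  obtain ⟨c, hc, e⟩ := h.nrm _ hg
  exact ⟨c, hc, e, (h.comm hc hY).1 (e ▸ mem_cent.1 g.2)⟩

theorem iq_norm : qc _ g ∈ 𝐍((h.iq hY P).range) ↔ g.1 ∈ 𝐍(ι.range) := by
  refine ⟨fun hg => ?_, fun hg => mem_normalizer_of_cj_le (cj_le_iff.2 ?_)⟩
  · have k : ∀ x, g.1 * ι (ph p q x) * g.1⁻¹ ∈ ι.range := fun x => by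
      obtain ⟨x', e⟩ := Core.conj_mem_of_mem_normalizer hg ⟨x, rfl⟩
      obtain ⟨b, e, -⟩ := h.conj_J hY P e.symm
      exact ⟨b, e.symm⟩
    exact h.memN2 P.2.1 (ph_e1 (x := p) (y := q) ▸ k e1) (ph_e2 (x := p) (y := q) ▸ k e2)
  · rintro _ ⟨x, rfl⟩
    obtain ⟨c, hc, e, e1⟩ := h.lift hY P hg
    obtain ⟨x', e2⟩ := (P.2.2.2.2.2 c e1).1 x
    exact ⟨x', ((h.conj_iq' hY P hc e).2 e2).symm⟩

theorem iq_cent : 𝐂((h.iq hY P).range) ≤ (h.iq hY P).range := fun g hg => by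
  obtain ⟨g, rfl⟩ := qc_surj g
  obtain ⟨c, hc, e, e1⟩ := h.lift hY P ((h.iq_norm hY P).1 (centralizer_le_normalizer _ hg))
  obtain ⟨x, k, e2⟩ := (P.2.2.2.2.2 c e1).2 fun x => (h.conj_iq' hY P hc e).1 (by rw [← hg _ ⟨x, rfl⟩, mul_inv_cancel_right])
  exact ⟨x, (h.iq_eq hY P).2 ⟨k, by rw [← e, e2]⟩⟩

theorem iq_syl (hS : ∀ c ∈ R, c * Y = Y * c → Dg Y p q (c ^ 4) 1) : SylowIn 3 (h.iq hY P).range ⊤ := syl9 (h.iq_cent hY P) fun g hg => by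
  obtain ⟨g, rfl⟩ := qc_surj g
  obtain ⟨c, hc, e, e1⟩ := h.lift hY P ((h.iq_norm hY P).1 hg)
  exact map_pow (qc _) g 4 ▸ Ac.cent fun x => (h.conj_iq' hY P (R.pow_mem hc 4) (by rw [h.pow hc, e]; rfl)).2 (hS c hc e1 x)

theorem iq_ac (hD : ∀ c ∈ R, c * Y = Y * c → ∃ d, Dg Y p q c d) : ∀ g ∈ 𝐍((h.iq hY P).range), ∃ d, Ac (h.iq hY P) g d := fun g hg => by
  obtain ⟨g, rfl⟩ := qc_surj g
  obtain ⟨c, hc, e, e1⟩ := h.lift hY P ((h.iq_norm hY P).1 hg)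
  exact (hD c hc e1).imp fun d hd x => (h.conj_iq' hY P hc e).2 (hd x)

theorem iq_c {x : A2} (hc : ∀ g b, Commute g (K Y) → g * ι (ph p q x) * g⁻¹ = ι b → (∃ k : Fin 3, inl b = inl (ph p q x) * Y ^ k.1) →
    g ∈ 𝐍(ι.range)) : 𝐂[h.iq hY P x] ≤ 𝐍((h.iq hY P).range) := fun g hg => by
  obtain ⟨g, rfl⟩ := qc_surj g
  obtain ⟨b, e1, e2⟩ := h.conj_J hY P (mem_cent.1 hg).mul_inv_cancel
  exact (h.iq_norm hY P).2 (hc g b (mem_cent.1 g.2) e1 e2)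

theorem iq_se (hs : SylowIn 3 (h.iq hY P).range ⊤) (hc : ∀ x, x ≠ 1 → 𝐂[h.iq hY P x] ≤ 𝐍((h.iq hY P).range)) : SE (h.iq hY P).range :=
  ⟨hs, by rintro _ ⟨a, rfl⟩ _ ⟨b, rfl⟩; exact (Commute.all a b).map _,
    by rintro _ ⟨x, rfl⟩ e; exact hc x fun e1 => e (by rw [e1, map_one])⟩

theorem le_of_normal (n : (h.iq hY P).range.Normal) : 𝐂[K Y] ≤ 𝐍(ι.range) := fun g hg =>
  (h.iq_norm hY P (g := ⟨g, hg⟩)).1 ((normalizer_eq_top _).ge (mem_top _))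

theorem le_of_dg (hD : ∀ c ∈ R, c * Y = Y * c → ∃ d, Dg Y p q c d) (hc : ∀ x, x ≠ 1 → 𝐂[h.iq hY P x] ≤ 𝐍((h.iq hY P).range)) :
    𝐂[K Y] ≤ 𝐍(ι.range) :=
  h.le_of_normal hY P (se9 (h.iq_inj hY P) (h.iq_se hY P (syl9' (h.iq_cent hY P) (h.iq_ac hY P hD)) hc) (h.iq_cent hY P) (h.iq_ac hY P hD))

end St

theorem pqe : Pq (inl (.el 1)) (.el 12) (.el 21) := by decide +kernel
theorem pqb : Pq (inl (.el 12)) (.el 1) (.el 21) := by decide +kernel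
theorem pqc : Pq (inl (.el 21)) (.el 1) (.el 12) := by decide +kernel
theorem pqd : Pq (inl (.el 25)) (.el 1) (.el 21) := by decide +kernel
theorem pqt : Pq (v 0 43) (.el 1) (.el 12) := by decide +kernel

namespace St
variable (h : St R K ι)
include h

theorem iq_cJ (P : Pq (inl a) p q) (hi : ∀ x, x ≠ 1 → Ind a (ph p q x)) (x : A2) (x1 : x ≠ 1) :
    𝐂[h.iq (h.iR a) P x] ≤ 𝐍((h.iq (h.iR a) P).range) :=
  h.iq_c _ P fun g b h1 h2 _ => h.memN2 (hi x x1) ⟨a, by rw [← h.kι, h1.mul_inv_cancel]⟩ ⟨b, h2.symm⟩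

theorem cJ (P : Pq (inl a) p q) (hi : ∀ x, x ≠ 1 → Ind a (ph p q x)) (hD : ∀ c ∈ R, c * inl a = inl a * c → ∃ d, Dg (inl a) p q c d) :
    𝐂[ι a] ≤ 𝐍(ι.range) := h.kι a ▸ h.le_of_dg _ P hD (h.iq_cJ P hi)

theorem c_conj (hc : c ∈ R) (ha : 𝐂[ι a] ≤ 𝐍(ι.range)) (e : b = act2 c.right a ∨ b = (act2 c.right a)⁻¹) : 𝐂[ι b] ≤ 𝐍(ι.range) := fun g hg => by
  have : Commute g (K c * ι a * (K c)⁻¹) := by
    rw [h.an hc]; rcases e with rfl | rfl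
    exacts [mem_cent.1 hg, by simpa using (mem_cent.1 hg).inv_right]
  have := ha (mem_cent.2 (show Commute ((K c)⁻¹ * g * (K c)⁻¹⁻¹) _ by simpa [mul_assoc] using this.conj (K c)⁻¹))
  rwa [mul_mem_cancel_right (inv_mem (inv_mem (h.memN hc))), mul_mem_cancel_left (inv_mem (h.memN hc))] at this

theorem cen (ha : 2 ≤ (Nin.cls a).1) : 𝐂[ι a] ≤ 𝐍(ι.range) := by
  obtain ⟨d, hd, e⟩ := (by decide +kernel : ∀ a, 2 ≤ (Nin.cls a).1 → ∃ d, inr d ∈ R1 ∧ ∃ b ∈ [z, .el 12, .el 21, .el 25],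
    a = act2 d b ∨ a = (act2 d b)⁻¹) a ha
  simp only [List.mem_cons, List.not_mem_nil, or_false, exists_eq_or_imp, exists_eq_left] at e
  rcases e with e | e | e | e <;> refine h.c_conj (h.le hd) ?_ e
  · exact h.cx
  · exact h.cJ pqb (by decide +kernel) fun c _ => (by decide +kernel : ∀ c, c * inl (.el 12) = inl (.el 12) * c →
      ∃ d, Dg (inl (.el 12)) (.el 1) (.el 21) c d) c
  · exact h.cJ pqc (by decide +kernel) fun c _ => (by decide +kernel : ∀ c, c * inl (.el 21) = inl (.el 21) * c →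
      ∃ d, Dg (inl (.el 21)) (.el 1) (.el 12) c d) c
  have k : v 0 1 ∈ R → 𝐂[ι (.el 25)] ≤ 𝐍(ι.range) := fun e => h.c_conj e h.cx (by decide +kernel)
  have k2 : R ≤ R2 → 𝐂[ι (.el 25)] ≤ 𝐍(ι.range) := fun e => h.cJ pqd (by decide +kernel) fun c hc =>
    (by decide +kernel : ∀ c ∈ R2, c * inl (.el 25) = inl (.el 25) * c → ∃ d, Dg (inl (.el 25)) (.el 1) (.el 21) c d) c (e hc)
  rcases cases_R h.le with rfl | rfl | rfl | rfl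
  exacts [k2 fun _ => .inl, k2 le_rfl, k (by decide +kernel), k (mem_top _)]

theorem cen1 (hR : R ≠ ⊤) : 𝐂[ι (.el 1)] ≤ 𝐍(ι.range) := h.cJ pqe (by decide +kernel) fun c hc =>
  (by decide +kernel : ∀ c, c ∈ R2 ∨ c ∈ R4 → c * inl (.el 1) = inl (.el 1) * c → ∃ d, Dg (inl (.el 1)) (.el 12) (.el 21) c d) c (by
    rcases cases_R h.le with rfl | rfl | rfl | rfl
    exacts [.inl (.inl hc), .inl hc, .inr hc, absurd rfl hR])

theorem τR : v 0 43 ∈ R := h.le (by decide +kernel)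

theorem iq_cτ (x : A2) (hx : 𝐂[ι (ph (.el 1) (.el 12) x)] ≤ 𝐍(ι.range)) : 𝐂[h.iq h.τR pqt x] ≤ 𝐍((h.iq h.τR pqt).range) :=
  h.iq_c _ pqt fun g b _ h2 h3 => hx (mem_cent.2 (mul_inv_eq_iff_eq_mul.1 (h2.trans (congrArg ι ((by decide +kernel : ∀ b x,
    (∃ k : Fin 3, inl b = inl (ph (.el 1) (.el 12) x) * v 0 43 ^ k.1) → b = ph (.el 1) (.el 12) x) b x h3)))))

theorem dgτ : ∀ c, c * v 0 43 = v 0 43 * c → ∃ d, Dg (v 0 43) (.el 1) (.el 12) c d := by decide +kernel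

theorem cenτ (h1 : 𝐂[ι (.el 1)] ≤ 𝐍(ι.range)) : 𝐂[K (v 0 43)] ≤ 𝐍(ι.range) :=
  h.le_of_dg h.τR pqt (fun c _ => h.dgτ c) fun x x1 => h.iq_cτ x (((by decide +kernel : ∀ x, x ≠ 1 →
    2 ≤ (Nin.cls (ph (.el 1) (.el 12) x)).1 ∨ ph (.el 1) (.el 12) x = act2 (1 : W2).right (.el 1) ∨
      ph (.el 1) (.el 12) x = (act2 (1 : W2).right (.el 1))⁻¹) x x1).elim h.cen (h.c_conj R.one_mem h1))

end St

end Cfsg.Lib.Block.Ten
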