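import Cfsg.Agent.Lib.Block.Ten6
import Cfsg.Agent.S0113

/-! # Sign characters -/

set_option autoImplicit false
set_option linter.unusedSectionVars false
set_option synthInstance.maxSize 100000
set_option maxRecDepth 100000

namespace Cfsg.Lib.Block.Ten

open Cfsg Cfsg.Lib.Invol Cfsg.Lib.Transfer Cfsg.Lib.Block.Tri Cfsg.Lib.Block.Nin Subgroup SemidirectProduct

local notation "𝐍(" X ")" => normalizer (SetLike.coe X)
local notation "𝐂(" X ")" => centralizer (SetLike.coe X)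
local notation "𝐂[" x "]" => centralizer ({x} : Set _)

variable {G : Type*} [Group G] [Finite G] {R : Subgroup W2} {K : W2 → G} {ι : T27 →* G} {g s t u w x y : G} {c Y : W2} {a b p q : T27}

theorem exists_sign (ht : t ^ 2 = 1) (hs : s ^ 2 = 1) (hx : IsConj y x) (hw : IsConj y w) (xw : x ≠ w)
    (h1 : ∀ g, IsConj y g → (Commute t g ↔ g = x ∨ g = w)) (h2 : ∀ g, IsConj y g → ¬ Commute s g) : ∃ ε : G →* ℤˣ, ε t ≠ ε s := by
  classical
  haveI := Fintype.ofFinite G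
  letI : MulAction G {g // IsConj y g} :=
    { smul := fun k g => ⟨k * g.1 * k⁻¹, g.2.trans (isConj_iff.2 ⟨k, rfl⟩)⟩
      one_smul := fun g => Subtype.ext (show 1 * g.1 * 1⁻¹ = g.1 by simp)
      mul_smul := fun k l g => Subtype.ext (show k * l * g.1 * (k * l)⁻¹ = k * (l * g.1 * l⁻¹) * k⁻¹ by group) }
  let π := MulAction.toPermHom G {g // IsConj y g}
  have fx : ∀ k g, g ∈ Function.fixedPoints (π k) ↔ Commute k g.1 := fun k g => Subtype.ext_iff.trans mul_inv_eq_iff_eq_mul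
  have c1 : Fintype.card (Function.fixedPoints (π t)) = 2 := by
    rw [← Set.toFinset_card, Finset.card_eq_two]
    exact ⟨⟨x, hx⟩, ⟨w, hw⟩, by simpa using xw, Finset.ext fun g => by simp only [Set.mem_toFinset, fx, h1 g g.2]; simp [Subtype.ext_iff]⟩
  have c2 : Fintype.card (Function.fixedPoints (π s)) = 0 := Fintype.card_eq_zero_iff.2 ⟨fun g => h2 _ g.1.2 ((fx _ _).1 g.2)⟩
  have c3 := c1 ▸ Fintype.card_subtype_le (· ∈ Function.fixedPoints (π t))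
  refine ⟨Equiv.Perm.sign.comp π, fun e => ?_⟩
  rw [MonoidHom.comp_apply, MonoidHom.comp_apply, Equiv.Perm.sign_of_pow_two_eq_one (by rw [← map_pow, ht, map_one]),
    Equiv.Perm.sign_of_pow_two_eq_one (by rw [← map_pow, hs, map_one]), c1, c2,
    show (Fintype.card {g // IsConj y g} - 0) / 2 = (Fintype.card {g // IsConj y g} - 2) / 2 + 1 by omega, pow_succ] at e
  exact absurd (left_eq_mul.1 e) (by decide)

theorem no_eight {Q : Subgroup G} (hQ : IsPGroup 2 Q) (ht : t ∈ Q) (h4 : Nat.card ↥(Q ⊓ 𝐂[t]) = 4) (hs : s ∈ Q) (hu : u ∈ Q) (hw : w ∈ Q)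
    (o : orderOf s = 2 ∧ orderOf u = 2 ∧ orderOf w = 2 ∧ orderOf (u * s) = 2 ∧ orderOf (w * s) = 2 ∧ orderOf (u * w) = 2)
    (n : u ≠ s ∧ w ≠ s ∧ u * w ≠ s ∧ u ≠ w ∧ u ≠ w * s ∧ u * s ≠ w) : False := by
  obtain ⟨k, hk⟩ := IsPGroup.iff_card.1 hQ
  have h1 : Nat.card 𝐂[(⟨t, ht⟩ : Q)] = 2 ^ 2 := by
    rw [← card_map_of_injective Q.subtype_injective, show 2 ^ 2 = 4 from rfl, ← h4]
    congr 2
    ext x
    exact ⟨by rintro ⟨y, hy, rfl⟩; exact ⟨y.2, mem_cent.2 ((mem_cent.1 hy).map Q.subtype)⟩,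
      fun hx => ⟨⟨x, hx.1⟩, mem_cent.2 (Subtype.ext (mem_cent.1 hx.2)), rfl⟩⟩
  have h2 : 3 ≤ k := by
    classical
    have ne : ∀ {a : G}, orderOf a = 2 → a ≠ 1 := ne_one_of_two
    have := Nat.card_le_card_of_injective (fun x : ({1, s, u, w, u * w} : Finset G) => (⟨x.1, by
      have := x.2; simp only [Finset.mem_insert, Finset.mem_singleton] at this
      rcases this with e | e | e | e | e <;> rw [e] <;> simp [*, mul_mem]⟩ : Q)) fun _ _ e => Subtype.ext (congrArg (fun x : Q => x.1) e)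
    rw [hk, Nat.card_eq_fintype_card, Fintype.card_coe, Finset.card_insert_of_notMem, Finset.card_insert_of_notMem,
      Finset.card_insert_of_notMem, Finset.card_pair] at this
    · by_contra h; interval_cases k <;> omega
    all_goals simp [ne o.1, ne o.2.1, ne o.2.2.1, ne o.2.2.2.2.2, n, n.1.symm, n.2.1.symm, n.2.2.1.symm, eq_comm (a := (1 : G))]
  obtain ⟨C, hC, h3⟩ := Agent.S0113.result k h2 hk (PGrp.maxClass_of_centralizer hk h1)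
  have e : ∀ {a b : Q}, a ∈ C → b ∈ C → orderOf a.1 = 2 → orderOf b.1 = 2 → a.1 = b.1 := fun ha hb h1 h2 =>
    congrArg Subtype.val (eq_of_isCyclic hC ha hb (by rwa [orderOf_coe] at h1) (by rwa [orderOf_coe] at h2))
  have m := fun (a b : Q) (ha : a ∉ C) (hb : b ∉ C) => (mul_mem_iff_of_index_two h3).2 (iff_of_false ha hb)
  by_cases a1 : (⟨s, hs⟩ : Q) ∈ C <;> by_cases a2 : (⟨u, hu⟩ : Q) ∈ C <;> by_cases a3 : (⟨w, hw⟩ : Q) ∈ C
  exacts [n.1 (e a2 a1 o.2.1 o.1), n.1 (e a2 a1 o.2.1 o.1), n.2.1 (e a3 a1 o.2.2.1 o.1), n.2.2.1 (e (m _ _ a2 a3) a1 o.2.2.2.2.2 o.1),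
    n.2.2.2.1 (e a2 a3 o.2.1 o.2.2.1), n.2.2.2.2.1 (e a2 (m _ _ a3 a1) o.2.1 o.2.2.2.2.1),
    n.2.2.2.2.2 (e (m _ _ a2 a1) a3 o.2.2.2.1 o.2.2.1), n.2.2.2.1 (mul_right_cancel (e (m _ _ a2 a1) (m _ _ a3 a1) o.2.2.2.1 o.2.2.2.2.1))]

theorem pqe' : Pq (inl (.el 1)) (.el 3) (.el 9) := by decide +kernel

def j8 : W8 →* W2 :=
  SemidirectProduct.lift (ι2 (.el 3) (.el 9))
    (MonoidHom.mk' (fun d => match d with
      | .r k => v 0 (lk 0x10011100 8 256 k.val)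
      | .sr k => v 0 (lk 0x2a1a2b1b 8 256 k.val)) (by decide +kernel))
    fun d => MonoidHom.ext (by revert d; decide +kernel)

namespace St
variable (h : St R K ι)
include h

theorem mu_eq (hY : Y ∈ R) (P : Pq Y p q) {d : ↥(R ⊓ 𝐂[Y])} {g : 𝐂[K Y]} : h.mu hY d = qc _ g ↔ ∃ k : Fin 3, g.1 = K (d.1 * Y ^ k.1) :=
  (qc_eq (h.Y3 hY P)).trans (exists_congr fun k => by rw [h.mul _ d.2.1 _ (R.pow_mem hY _), h.pow hY]; rfl)

theorem sym (hR : R = ⊤) : 𝐂[ι (.el 1)] ≤ 𝐍(ι.range) ∨ Nonempty (Qc (K (inl (.el 1))) ≃* Equiv.Perm (Fin 6)) := by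
  subst hR
  have P := pqe'
  let κ := (h.mu (h.iR (.el 1))).comp (j8.codRestrict _ fun x => ⟨mem_top _, mem_cent.2
    ((by decide +kernel : ∀ x, j8 x * inl (.el 1) = inl (.el 1) * j8 x) x)⟩)
  have V : V8.map κ = (h.iq (h.iR _) P).range := by
    rw [V8, ← range_inl_eq_ker_rightHom, MonoidHom.map_range]
    exact congrArg MonoidHom.range (MonoidHom.ext fun x => congrArg (h.mu (h.iR _)) (Subtype.ext (lift_inl _ _ _ x)))
  have md : Md V8 κ := by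
    refine ⟨(injective_iff_map_eq_one _).2 fun x e => ?_, V ▸ h.iq_se (h.iR _) P (h.iq_syl (h.iR _) P fun c _ => (by decide +kernel : ∀ c,
      c * inl (.el 1) = inl (.el 1) * c → Dg (inl (.el 1)) (.el 3) (.el 9) (c ^ 4) 1) c) (h.iq_cJ P (by decide +kernel)),
      V ▸ le_antisymm (fun g hg => ?_) ?_, by decide +kernel⟩
    · obtain ⟨k, e⟩ := (h.mu_eq (h.iR _) P (g := 1)).1 e
      exact (by decide +kernel : ∀ x, ∀ k : Fin 3, j8 x * inl (.el 1) ^ k.1 = 1 → x = 1) x k (h.inj _ (mem_top _) e.symm)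
    · obtain ⟨g, rfl⟩ := qc_surj g
      obtain ⟨c, -, e, e1⟩ := h.lift (h.iR _) P ((h.iq_norm (h.iR _) P).1 hg)
      obtain ⟨x, k, rfl⟩ := (by decide +kernel : ∀ c, c * inl (.el 1) = inl (.el 1) * c → ∃ x, ∃ k : Fin 3,
        c = j8 x * inl (.el 1) ^ k.1) c e1
      exact ⟨x, (h.mu_eq (h.iR _) P).2 ⟨k, e.symm⟩⟩
    · rintro _ ⟨x, rfl⟩; exact (h.iq_norm (h.iR _) P).2 (h.memN (mem_top _))
  exact md.normal_or_sym.imp_left fun n => h.kι _ ▸ h.le_of_normal (h.iR _) P (V ▸ n)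

theorem τ2 : K (v 0 43) ^ 2 = 1 := by rw [← h.pow h.τR, show v 0 43 ^ 2 = 1 by decide +kernel, h.one]

theorem cenτe : 𝐂[K (v 0 43)] ≤ 𝐍(zpowers (ι (.el 1))) := by
  have k : 𝐂[ι (.el 1)] ≤ 𝐍(ι.range) → 𝐂[K (v 0 43)] ≤ 𝐍(zpowers (ι (.el 1))) := fun e g hg => by
    obtain ⟨c, hc, e, e1⟩ := h.lift h.τR pqt (g := ⟨g, hg⟩) (h.cenτ e hg)
    obtain ⟨k, e2⟩ := (by decide +kernel : ∀ c, c * v 0 43 = v 0 43 * c → ∃ k : Fin 3, act2 c.right (.el 1) = .el 1 ^ k.1) c e1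
    exact mem_normalizer_of_cj_le (cj_zpowers_le.2 (by rw [← show K c = g from e, h.an hc, e2, map_pow]; exact pow_mem (mem_zpowers _) _))
  by_cases hR : R = ⊤
  swap
  · exact k (h.cen1 hR)
  refine (h.sym hR).elim k fun ⟨π⟩ => ?_
  subst hR
  have ac := h.iq_ac h.τR pqt fun c _ => h.dgτ c
  have A : ∀ c d, c * v 0 43 = v 0 43 * c → Dg (v 0 43) (.el 1) (.el 12) c d → ∃ g, Ac (h.iq h.τR pqt) g d := fun c d e hd =>
    ⟨qc _ ⟨K c, mem_cent.2 ((h.comm (mem_top _) h.τR).2 e)⟩, fun x => (h.conj_iq' h.τR pqt (mem_top c) rfl).2 (hd x)⟩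
  obtain ⟨α, hα⟩ := A (v 0 25) (ν, 1) (by decide +kernel) (by decide +kernel)
  obtain ⟨β, hβ⟩ := A (v 0 1) (1, ν) (by decide +kernel) (by decide +kernel)
  have cj : ∀ (g : 𝐂[K (v 0 43)]) (k : ℕ), qc _ g * h.iq h.τR pqt e1 * (qc _ g)⁻¹ = h.iq h.τR pqt (e1 ^ k) →
      g.1 * ι (.el 1) * g.1⁻¹ = ι (.el 1) ^ k := fun g k e => by
    obtain ⟨b, e1, e2⟩ := h.conj_J h.τR pqt e
    rw [ph_e1] at e1
    rw [e1, (by decide +kernel : ∀ b x, (∃ k : Fin 3, inl b = inl (ph (.el 1) (.el 12) x) * v 0 43 ^ k.1) → b = ph (.el 1) (.el 12) x) b _ e2,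
      ← map_pow]
    refine congrArg ι (inl_injective (φ := φ2) (((ι2 (.el 1) (.el 12)).map_pow Tri.e1 k).trans ?_))
    rw [map_pow]; exact congrArg (fun x => (inl x : W2) ^ k) ph_e1
  have n := normal_of_full (h.iq_inj h.τR pqt) (syl9' (h.iq_cent h.τR pqt) ac) (h.iq_cent h.τR pqt) ac (fun x hx => h.iq_cτ x (h.cen
    ((by decide +kernel : ∀ x : A2, x.2 ≠ 1 → 2 ≤ (Nin.cls (ph (.el 1) (.el 12) x)).1) x hx))) (fun g hg => ?_) hα hβ
  · intro g hg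
    obtain ⟨k, e⟩ := (mem_zp3 (cube9 ⟨_, rfl⟩)).1 (n.conj_mem _ (mem_zpowers _) (qc _ ⟨g, hg⟩))
    exact mem_normalizer_of_cj_le (cj_zpowers_le.2 (by rw [cj ⟨g, hg⟩ k (by rw [e, map_pow])]; exact pow_mem (mem_zpowers _) _))
  obtain ⟨g, rfl⟩ := qc_surj g
  have c1 : g.1 ∈ 𝐂[K (inl (.el 1))] := mem_cent.2 (mul_inv_eq_iff_eq_mul.1 (by
    rw [h.kι, cj g 1 (by rw [hg.mul_inv_cancel, pow_one]), pow_one]))
  have c2 : K (v 0 43) ∈ 𝐂[K (inl (.el 1))] := mem_cent.2 ((h.comm (mem_top _) (mem_top _)).2 (by decide +kernel))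
  let ρ := π.toMonoidHom.comp (qc _)
  have kr : ∀ x, ρ x = 1 → x.1 ^ 3 = 1 := fun x e => by
    obtain ⟨k, e⟩ := (qc_eq (h.Y3 (h.iR _) pqe') (g := 1)).1 ((map_eq_one_iff π π.injective).1 e).symm
    rw [e, coe_one, one_mul, ← pow_mul, mul_comm, pow_mul, h.kι, J_cube ⟨_, rfl⟩, one_pow]
  have key : ∀ p, p = 5 ∨ p = 7 → orderOf (qc _ g) ≠ p := fun p hp e => by
    have e1 : g.1 ^ (p * 2) = 1 := by
      obtain ⟨k, e⟩ := (qc_eq (.inr h.τ2) (g := 1) (k := g ^ p)).1 (by rw [map_pow, ← e, pow_orderOf_eq_one, map_one])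
      rw [pow_mul, show g.1 ^ p = _ from e, coe_one, one_mul, ← pow_mul, mul_comm, pow_mul, h.τ2, one_pow]
    have cm : Commute (⟨g.1, c1⟩ ^ 2 : 𝐂[K (inl (.el 1))]) ⟨_, c2⟩ := Subtype.ext ((mem_cent.1 g.2).pow_left 2)
    have t2 : (⟨_, c2⟩ : 𝐂[K (inl (.el 1))]) ^ 2 = 1 := Subtype.ext h.τ2
    have g2 : (⟨g.1, c1⟩ ^ 2 : 𝐂[K (inl (.el 1))]) ^ p = 1 := Subtype.ext (by rw [coe_pow, coe_pow, ← pow_mul, mul_comm]; exact e1)
    have := (show ∀ x : Equiv.Perm (Fin 6), x ^ (p * 2) = 1 → x ^ p = 1 ∨ x ^ 2 = 1 by rcases hp with rfl | rfl <;> decide +kernel)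
      (ρ (⟨g.1, c1⟩ ^ 2 * ⟨_, c2⟩)) (by rw [← map_pow, cm.mul_pow, pow_mul, g2, mul_comm p, pow_mul, t2]; simp)
    simp only [← map_pow, cm.mul_pow, g2, t2, one_mul, mul_one] at this
    rcases this with e2 | e2
    · have := kr _ e2
      rw [coe_pow, ← pow_mul, pow_eq_pow_mod _ h.τ2, show p * 3 % 2 = 1 by omega, pow_one] at this
      exact absurd (h.inj _ (mem_top _) this) (by decide +kernel)
    · have := kr _ e2
      rw [coe_pow, coe_pow, ← pow_mul, ← pow_mul] at this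
      have := e ▸ orderOf_dvd_of_pow_eq_one (x := qc _ g) (n := 12) (by rw [← map_pow, show g ^ 12 = 1 from Subtype.ext this, map_one])
      rcases hp with rfl | rfl <;> omega
  exact ⟨key 5 (.inl rfl), key 7 (.inr rfl)⟩

theorem cube (e : IsConj (ι a) g) : g ^ 3 = 1 := by obtain ⟨k, rfl⟩ := isConj_iff.1 e; rw [conj_pow, J_cube ⟨_, rfl⟩]; simp

theorem fixτ (h1 : IsConj (ι a) g) (h2 : Commute (K (v 0 43)) g) : ∃ k ∈ 𝐂[K (v 0 43)], ∃ x, (∃ c ∈ R, act2 c.right a = ph (.el 1) (.el 12) x) ∧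
    k * g * k⁻¹ = ι (ph (.el 1) (.el 12) x) := by
  obtain ⟨k, -, e⟩ := (syl9' (h.iq_cent h.τR pqt) (h.iq_ac h.τR pqt fun c _ => h.dgτ c)).exists_cj_le (isP (b := qc _ ⟨g, mem_cent.2 h2.symm⟩)
    (by rw [← map_pow, ← map_one (qc _)]; exact congrArg _ (Subtype.ext (h.cube h1)))) le_top
  obtain ⟨k, rfl⟩ := qc_surj k
  obtain ⟨x, e⟩ := cj_zpowers_le.1 e
  rw [← map_inv, ← map_mul, ← map_mul, h.iq_eq] at e
  obtain ⟨j, e⟩ := e
  have m := R.mul_mem (h.iR (ph (.el 1) (.el 12) x)) (R.pow_mem h.τR j)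
  have e1 : k.1 * g * k.1⁻¹ = ι (ph (.el 1) (.el 12) x) := by
    rw [← h.kι, ← (by decide +kernel : ∀ x, ∀ j : Fin 3, (inl (ph (.el 1) (.el 12) x) * v 0 43 ^ j.1) ^ 3 = 1 →
      inl (ph (.el 1) (.el 12) x) * v 0 43 ^ j.1 = inl (ph (.el 1) (.el 12) x)) x j (h.inj _ (R.pow_mem m 3) (by
        rw [h.pow m, ← show k.1 * g * k.1⁻¹ = _ from e, conj_pow, h.cube h1]; simp))]
    exact e
  exact ⟨k, k.2, x, h.fus (h1.trans (isConj_iff.2 ⟨_, e1⟩)), e1⟩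

theorem nofix (hc : c ∈ R) (ha : 𝐂[ι a] ≤ 𝐍(ι.range)) (h1 : inl a * c = c * inl a) (h2 : ∀ d, d * c = c * d → ∃ k : Fin 3, d ^ 4 = inl (a ^ k.1))
    (h3 : ∀ d, ∀ k : Fin 3, act2 d b ≠ a ^ k.1) (e : IsConj (ι b) g) : ¬ Commute (K c) g := fun e1 => by
  have a3 : ι a ^ 3 = 1 := J_cube ⟨_, rfl⟩
  have s : SylowIn 3 (zpowers (ι a)) 𝐂[K c] := by
    refine sylowIn_of_maximal (zpowers_le.2 (mem_cent.2 (h.kι a ▸ (h.comm (h.iR a) hc).2 h1))) (isP a3) fun Q hQ h1 h4 => by_contra fun h5 => ?_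
    obtain ⟨g, hg, h6⟩ := SetLike.exists_of_lt (lt_inf_normalizer hQ (lt_of_le_not_ge h1 h5))
    have h7 : cj g ι.range ≤ 𝐂[ι a] := cj_le_iff.2 fun t ht => by
      obtain ⟨k, e⟩ := Core.conj_mem_of_mem_normalizer (inv_mem hg.2) (mem_zpowers _)
      simpa [show ι a ^ k = _ from e, mul_assoc] using mem_cent.2 (((mem_cent.1 (J_le a ht)).zpow_right k).conj g)
    obtain ⟨d, hd, rfl⟩ := h.nrm g (h.wk (h7.trans ha))
    obtain ⟨k, e⟩ := h2 d ((h.comm hd hc).1 (mem_cent.1 (h4 hg.1)))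
    obtain ⟨k, hk⟩ := IsPGroup.iff_orderOf.1 hQ ⟨_, hg.1⟩
    refine h6 (mem_of_pow_mem_of_coprime (n := 4) ?_ (by rw [← h.pow hd, e, h.kι, map_pow]; exact pow_mem (mem_zpowers _) _))
    rw [← orderOf_coe] at hk
    exact hk ▸ Nat.Coprime.pow_left _ (by norm_num)
  obtain ⟨k, -, e2⟩ := s.exists_cj_le (isP (h.cube e)) (zpowers_le.2 (mem_cent.2 e1.symm))
  obtain ⟨j, e2⟩ := (mem_zp3 a3).1 (cj_zpowers_le.1 e2)
  obtain ⟨d, -, e3⟩ := h.fus (b := a ^ j.1) (e.trans (isConj_iff.2 ⟨k, by rw [e2, map_pow]⟩))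
  exact h3 _ _ e3

theorem sign1 (hR : v 0 24 ∈ R) : ∃ ε : G →* ℤˣ, ε (K (v 0 43)) ≠ ε (K (v 0 19)) := by
  have s : v 0 19 ∈ R := (show v 0 24 * v 0 43 = v 0 19 by decide +kernel) ▸ R.mul_mem hR h.τR
  have e3 : ι (.el 1) ^ 3 = 1 := J_cube ⟨_, rfl⟩
  have c : Commute (K (v 0 43)) (ι (.el 1)) := h.kι _ ▸ (h.comm h.τR (h.iR _)).2 (by decide +kernel)
  refine exists_sign (y := ι (.el 1)) (w := (ι (.el 1))⁻¹) h.τ2 (by rw [← h.pow s, show v 0 19 ^ 2 = 1 by decide +kernel, h.one])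
    (.refl _) (isConj_iff.2 ⟨_, by rw [h.an hR, ← map_inv]; exact congrArg ι (by decide +kernel)⟩)
    (by rw [← map_inv]; exact h.ιinj.ne (by decide +kernel)) (fun g hg => ⟨fun e => ?_, by rintro (rfl | rfl); exacts [c, c.inv_right]⟩)
    fun g => h.nofix (a := .el 21) s (h.cen (by decide +kernel)) (by decide +kernel) (by decide +kernel) (by decide +kernel)
  obtain ⟨k, hk, x, ⟨d, -, e1⟩, e2⟩ := h.fixτ hg e
  obtain ⟨i, e4⟩ := (by decide +kernel : ∀ d x, act2 d (.el 1) = ph (.el 1) (.el 12) x → ∃ i : Fin 3, ph (.el 1) (.el 12) x = T27.el 1 ^ i.1) _ x e1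
  obtain ⟨j, rfl⟩ := (mem_zp3 e3).1 (show g ∈ _ by simpa [← e2, mul_assoc] using (Core.conj_mem_of_mem_normalizer (inv_mem (h.cenτe hk))
    (show ι (ph (.el 1) (.el 12) x) ∈ _ by rw [e4, map_pow]; exact pow_mem (mem_zpowers _) _)))
  fin_cases j
  · exact absurd (h.ιinj ((isConj_one_left.1 (by simpa using hg)).trans ι.map_one.symm)) (by decide +kernel)
  · simp
  · simp [sq, mul_self_of_cube e3]

theorem sign4 (hR : R = R4) : ∃ ε : G →* ℤˣ, ε (K (v 0 43)) ≠ ε (K (v 0 1)) := by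
  subst hR
  have s : v 0 1 ∈ R4 := by decide +kernel
  have h1 := h.cen1 fun e => absurd (e.ge (mem_top (v 0 24))) (by decide +kernel)
  have c : ∀ a, v 0 43 * inl a = inl a * v 0 43 → Commute (K (v 0 43)) (ι a) := fun a e => h.kι _ ▸ (h.comm h.τR (h.iR _)).2 e
  refine exists_sign (y := ι z) (w := ι (.el 25)) h.τ2 (by rw [← h.pow s, show v 0 1 ^ 2 = 1 by decide +kernel, h.one])
    (.refl _) (isConj_iff.2 ⟨_, by rw [h.an s]; exact congrArg ι (by decide +kernel)⟩) (h.ιinj.ne (by decide +kernel))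
    (fun g hg => ⟨fun e => ?_, by rintro (rfl | rfl) <;> exact c _ (by decide +kernel)⟩)
    fun g => h.nofix (a := .el 1) s h1 (by decide +kernel) (by decide +kernel) (by decide +kernel)
  obtain ⟨k, hk, x, ⟨d, hd, e1⟩, e2⟩ := h.fixτ hg e
  obtain ⟨c, hc, e3, e4⟩ := h.lift h.τR pqt (g := ⟨k⁻¹, inv_mem hk⟩) (h.cenτ h1 (inv_mem hk))
  have : g = ι (act2 c.right (act2 d.right z)) := by rw [← h.an hc, e3, e1, ← e2]; group
  exact this ▸ ((by decide +kernel : ∀ c ∈ R4, c * v 0 43 = v 0 43 * c → ∀ d, inr d ∈ R4 → ∀ x, act2 d z = ph (.el 1) (.el 12) x →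
    act2 c.right (act2 d z) = z ∨ act2 c.right (act2 d z) = .el 25) c hc e4 _ hd x e1).imp (congrArg ι) (congrArg ι)

end St

end Cfsg.Lib.Block.Ten
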