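import Cfsg.Agent.Lib.Block.Ten7
import Cfsg.Agent.Lib.Transfer.ThompsonNPC

/-! # The cases `N(J)/J ≤ 2 × S₃` -/

set_option autoImplicit false
set_option linter.unusedSectionVars false
set_option synthInstance.maxSize 100000
set_option maxRecDepth 100000

namespace Cfsg.Lib.Block.Ten

open Cfsg Cfsg.Lib.Invol Cfsg.Lib.Transfer Cfsg.Lib.X32 Cfsg.Lib.Block.Tri Cfsg.Lib.Block.Nin Subgroup SemidirectProduct

local notation "𝐍(" X ")" => normalizer (SetLike.coe X)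
local notation "𝐂(" X ")" => centralizer (SetLike.coe X)
local notation "𝐂[" x "]" => centralizer ({x} : Set _)

variable {G : Type*} [Group G] [Finite G] {R : Subgroup W2} {K : W2 → G} {ι : T27 →* G} {g s u x y : G} {c d : W2} {ε : G →* ℤˣ}
  {H L P : Subgroup G}

theorem syl_of_pow {p n : ℕ} [Fact p.Prime] (hP : IsPGroup p P) (le : P ≤ H) (hn : p.Coprime n) (h : ∀ g ∈ H, g ∈ 𝐍(P) → g ^ n ∈ P) :
    SylowIn p P H := sylowIn_of_maximal le hP fun Q hQ h1 h2 => by_contra fun h3 => by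
  obtain ⟨g, hg, h4⟩ := SetLike.exists_of_lt (lt_inf_normalizer hQ (lt_of_le_not_ge h1 h3))
  obtain ⟨k, hk⟩ := IsPGroup.iff_orderOf.1 hQ ⟨_, hg.1⟩
  rw [← orderOf_coe] at hk
  exact h4 (mem_of_pow_mem_of_coprime (hk ▸ hn.pow_left k) (h g (h2 hg.1) hg.2))

theorem zc (h : Commute x y) : zpowers x ≤ 𝐂(zpowers y) := zpowers_le.2 (by rintro _ ⟨k, rfl⟩; exact (h.symm.zpow_left k).eq)

theorem eps_conj (g x : G) : ε (g * x * g⁻¹) = ε x := by rw [map_mul, map_mul, map_inv, mul_inv_cancel_comm]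

theorem eight (hs : orderOf s = 2) (hu : orderOf u = 2) (us : Commute u s) (n : u ≠ s) (xs : Commute x s) (x3 : x ^ 3 = 1)
    (e : (u * x) ^ 3 = 1 ∨ (u * x) ^ 3 = s) (hP : P ≤ 𝐂[s]) (p2 : IsPGroup 2 P) (h4 : Nat.card P = 4) (hy : y ∈ P) (py : P ≤ 𝐂[y])
    (hc : 𝐂[s] ⊓ 𝐂[y] ≤ P) : False := by
  have c : ∀ g, Commute g s → orderOf (g * u * g⁻¹) = 2 ∧ Commute (g * u * g⁻¹) s ∧ g * u * g⁻¹ ≠ s := fun g hg =>
    ⟨by rwa [orderOf_conj], (hg.mul_left us).mul_left hg.inv_left, fun e => n (by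
      rw [← mul_left_inj g⁻¹, ← mul_right_inj g, ← mul_assoc, e, ← mul_assoc, hg.mul_inv_cancel])⟩
  have m : ∀ {a}, orderOf a = 2 → Commute a s → a ≠ s → orderOf (a * s) = 2 := fun h1 h2 h3 =>
    two_of_sq (by rw [h2.mul_pow, sq_of_two h1, sq_of_two hs, one_mul]) fun e => h3 (by rw [eq_inv_of_mul_eq_one_left e, inv_of_two hs])
  obtain ⟨w2, ws, wn⟩ := c x xs
  obtain ⟨r2, rs, rn⟩ := c x⁻¹ xs.inv_left
  set w := x * u * x⁻¹
  set r := x⁻¹ * u * x⁻¹⁻¹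
  have e1 : u * w = (u * x) ^ 3 * r := by
    rw [← inv_of_two r2, eq_mul_inv_iff_mul_eq]
    simp only [w, r, ← mul_self_of_cube x3, pow_succ, mul_assoc]
    simp [← mul_assoc x x, mul_self_of_cube x3]
  have o : orderOf (u * w) = 2 ∧ u * w ≠ s := by
    rcases e with e | e <;> rw [e1, e]
    · rw [one_mul]; exact ⟨r2, rn⟩
    · exact ⟨rs.eq ▸ m r2 rs rn, fun e => ne_one_of_two r2 (by simpa using e)⟩
  have uw : Commute u w := by
    have := inv_of_two o.1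
    rwa [mul_inv_rev, inv_of_two hu, inv_of_two w2, eq_comm] at this
  obtain ⟨T, h1, hT⟩ := exists_sylowIn_ge (elAb_isPGroup (elAb_sup (elAb_sup (elAb_zpowers (sq_of_two hs)) (elAb_zpowers (sq_of_two hu)) (zc us))
    (elAb_zpowers (sq_of_two w2)) (le_centralizer_iff.1 (sup_le (zc ws.symm) (zc uw))))) (H := 𝐂[s])
    (by simp only [sup_le_iff, zpowers_le, mem_cent]; exact ⟨⟨.refl s, us⟩, ws⟩)
  simp only [sup_le_iff, zpowers_le] at h1
  obtain ⟨k, hk, e2⟩ := hT.exists_cj_le p2 hP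
  refine no_eight hT.2 (e2 (conj_mem_cj.2 hy)) ?_ h1.1.1 h1.1.2 h1.2 ⟨hs, hu, w2, m hu us n, m w2 ws wn, o.1⟩ ⟨n, wn, o.2,
    fun e => ne_one_of_two o.1 (by rw [← e, mul_self_of_two hu]), fun e => o.2 ?_, fun e => o.2 ?_⟩
  · rw [← h4, ← card_cj k P]
    refine congrArg _ (congrArg _ (le_antisymm (fun g hg => mem_cj.2 (hc (mem_inf.2 ⟨mul_mem (mul_mem (inv_mem hk) (hT.1 hg.1)) hk, mem_cent.2 ?_⟩)))
      (le_inf e2 (cj_le_iff.2 fun g hg => mem_cent.2 ((mem_cent.1 (py hg)).conj k)))))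
    simpa [mul_assoc] using (mem_cent.1 hg.2).conj k⁻¹
  · rw [uw.eq, e, ← mul_assoc, mul_self_of_two w2, one_mul]
  · rw [← e, ← mul_assoc, mul_self_of_two hu, one_mul]

def E4 (c : W2) : Prop := c.right.1 = 1 ∧ c.right.2.1 < 12

instance : DecidablePred E4 := fun c => inferInstanceAs (Decidable (c.right.1 = 1 ∧ c.right.2.1 < 12))

def P4 : Subgroup W2 := sg (fun c => c.left = 1 ∧ (c.right.2 = 1 ∨ c.right.2 = .el 19)) (by decide +kernel)

instance : DecidablePred (· ∈ P4) := fun c => inferInstanceAs (Decidable (c.left = 1 ∧ (c.right.2 = 1 ∨ c.right.2 = .el 19)))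

namespace St
variable (h : St R K ι)
include h

theorem zj [H.Normal] (h1 : h.im S2 ≤ H) (h2 : H ⊓ 𝐍(ι.range) ≤ h.im S2) : ι.range.Normal := by
  have el : IsElementaryAbelian 3 ι.range := elAb_iff.2 ⟨fun x hx y hy => J_comm hy x hx, fun _ => J_cube⟩
  have uq : ∀ A ≤ h.im S2, IsElementaryAbelian 3 A → 27 ≤ Nat.card A → A ≤ ι.range := fun A a1 a2 a3 => by
    have := h.card_S ▸ card_dvd_of_le a1
    rcases (by decide +kernel : ∀ n ≤ 81, n ∣ 81 → 27 ≤ n → n = 27 ∨ n = 81) _ (Nat.le_of_dvd (by norm_num) this) this a3 with e | e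
    · exact (eq_J (κ := h.hom.comp (inclusion h.le)) (h.hinj.comp (inclusion_injective _))
        (fun x hx => by obtain ⟨c, -, h1, e⟩ := h.mem_im.1 (a1 hx); exact ⟨⟨c, h1.2⟩, e⟩) (elAb_iff.1 a2).1 (elAb_iff.1 a2).2 e).le.trans
        (congrArg MonoidHom.range (MonoidHom.ext h.kι)).le
    · exact (elAb_le_centralizer a2).trans ((centralizer_le (h.J_S.trans (eq_of_le_of_card_ge a1 (by rw [e, h.card_S])).ge)).trans h.cent_le)
  have m : ι.range ∈ maxEl 3 (h.im S2) := ⟨h.J_S, el, fun B a b => by_contra fun n => n (card_le_of_le (uq B a b (by rw [h.card_J] at n; omega)))⟩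
  have tj := le_antisymm (thompsonOf_le_iff.2 fun A hA => uq A hA.1 hA.2.1 (h.card_J ▸ hA.2.2 _ h.J_S el)) (le_thompsonOf m)
  have hT := h.syl.mono h1 le_top
  have p := hT.thompson_pnil (by decide) (tj ▸ pnil_of_isPGroup (h.syl.2.to_le h2)) (pnil_of_isPGroup (h.syl.2.to_le
    ((inf_le_inf_left _ ((centralizer_le (Set.singleton_subset_iff.2 (mem_inf.2 ⟨h.J_S ⟨z, rfl⟩, fun g hg => ?_⟩))).trans h.cx)).trans h2)))
  · have := resOf_normal (p := 3) H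
    have e := hT.resOf_sup
    rw [h.sig _ p.coprime le_normalizer_of_normal, bot_sup_eq] at e
    exact normalizer_eq_top_iff.1 (eq_top_iff.2 ((le_normalizer_of_normal (H := H)).trans (e ▸ weak_normalizer h.weak)))
  · obtain ⟨c, hc, h3, rfl⟩ := h.mem_im.1 hg
    exact h.kι z ▸ (h.comm hc (h.iR z)).2 (comm_z c h3.2)

theorem odd (hR : R ≤ R2) [H.Normal] (h1 : h.im S2 ≤ H) (ho : Odd (Nat.card H)) : ι.range.Normal := h.zj h1 fun g hg => by
  obtain ⟨c, hc, rfl⟩ := h.nrm g hg.2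
  refine h.mem_im.2 ⟨c, hc, by_contra fun e => ho.not_two_dvd_nat ?_, rfl⟩
  obtain ⟨e1, e2⟩ := (by decide +kernel : ∀ c ∈ R2, c ∉ S2 → (c ^ 3) ^ 2 = 1 ∧ c ^ 3 ≠ 1) c (hR hc) e
  have := H.orderOf_dvd_natCard (pow_mem hg.1 3)
  rwa [← h.pow hc, two_of_sq (by rw [← h.pow (pow_mem hc 3), e1, h.one]) fun e => e2 (h.inj _ (pow_mem hc 3) e)] at this

theorem eps (hc : c ∈ R) (e : E4 c) : ε (K c) = 1 := by
  have sq : ∀ c ∈ R, ε (K (c * c)) = 1 := fun c hc => by rw [h.mul _ hc _ hc, map_mul, Int.units_mul_self]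
  have k : inr c.right ∈ R := (R.mul_mem_cancel_left (h.iR c.left)).1 ((inl_left_mul_inr_right c).symm ▸ hc)
  obtain ⟨d, hd, e1⟩ : ∃ d : M48, inr d ∈ R ∧ c.right = d * d := by
    revert k; unfold E4 at e; revert e; generalize c.right = a; revert a
    rcases cases_R h.le with rfl | rfl | rfl | rfl
    · decide +kernel
    · decide +kernel
    · decide +kernel
    · simp only [mem_top, true_and, true_imp_iff]; decide +kernel
  rw [← inl_left_mul_inr_right c, h.mul _ (h.iR _) _ k, map_mul, e1, map_mul, sq _ hd,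
    (by decide +kernel : ∀ a : T27, a = a⁻¹ * a⁻¹) c.left, map_mul, sq _ (h.iR _), one_mul]

theorem eps' (hc : c ∈ R) (hd : d ∈ R) (e : E4 (c * d)) : ε (K c) = ε (K d) := by
  have := h.eps (ε := ε) (mul_mem hc hd) e
  rw [h.mul _ hc _ hd, map_mul] at this
  rw [eq_inv_of_mul_eq_one_left this, Int.units_inv_eq_self]

theorem eps2 (hs : v 0 19 ∈ R) (e1 : ε (K (v 0 43)) ≠ 1) (e2 : ε (K (v 0 19)) = 1) (hc : c ∈ R) : ε (K c) = 1 ↔ c.right.1 = 1 := by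
  refine ⟨fun e => by_contra fun n => e1 ?_, fun e => ?_⟩
  · rcases (by decide +kernel : ∀ c : W2, c.right.1 ≠ 1 → E4 (c * v 0 43) ∨ E4 (c * v 0 19 * v 0 43)) c n with e3 | e3
    · rw [← h.eps' hc h.τR e3, e]
    · rw [← h.eps' (mul_mem hc hs) h.τR e3, h.mul _ hc _ hs, map_mul, e, e2, one_mul]
  · exact ((by decide +kernel : ∀ c : W2, c.right.1 = 1 → E4 c ∨ E4 (c * v 0 19)) c e).elim (h.eps hc) fun e3 => (h.eps' hc hs e3).trans e2

theorem J_le_of [hL : L.Normal] (hc : c ∈ R) (e : act2 c.right (.el 1) = (T27.el 1)⁻¹)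
    (hm : K c * ι (.el 1) * (K c)⁻¹ * (ι (.el 1))⁻¹ ∈ L) : ι.range ≤ L := by
  have tR := h.S_le (by decide +kernel : v 0 4 ∈ S2)
  rw [h.an hc, e, ← map_inv, ← map_mul, show (T27.el 1)⁻¹ * (T27.el 1)⁻¹ = .el 1 by decide +kernel] at hm
  have h1 := hL.conj_mem _ hm (K (v 0 4))
  have h2 := hL.conj_mem _ h1 (K (v 0 4))
  rw [h.an tR] at h1 h2
  rw [h.an tR] at h2
  rintro _ ⟨a, rfl⟩
  obtain ⟨x, rfl⟩ := (by decide +kernel : ∀ a, ∃ x, a = mat (.el 1) (act2 (v 0 4).right (.el 1)) (act2 (v 0 4).right (act2 (v 0 4).right (.el 1))) x) a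
  exact mat_mem hm h1 h2 x

theorem pP : IsPGroup 2 (h.im P4) :=
  (IsPGroup.of_card (n := 2) (show Nat.card P4 = _ by rw [Nat.card_eq_fintype_card]; decide +kernel)).comap_subtype.map _

theorem cτ (hR : R ≤ R2) (hg : Commute g (K (v 0 43))) : ∃ c ∈ R, K c = g ∧ c * v 0 43 = v 0 43 * c :=
  h.lift h.τR pqt (g := ⟨g, mem_cent.2 hg⟩) (h.cenτ (h.cen1 fun e => absurd (hR (e.ge (mem_top (v 0 1)))) (by decide +kernel)) (mem_cent.2 hg))

theorem two (hR : R = R1 ∨ R = R2) (hd : ∀ g, ∀ d ∈ R, d ∈ P4 → g * K (v 0 43) * g⁻¹ = K d → d = v 0 43 ∨ d = 1) : ι.range.Normal := by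
  have le : R ≤ R2 := hR.elim (fun e => e ▸ fun _ => .inl) Eq.le
  have key : ∀ g ∈ 𝐍(h.im P4), g ∈ 𝐂(h.im P4) ∧ g ^ 3 ∈ h.im P4 := fun g hg => by
    obtain ⟨d, h1, h2, e⟩ := h.mem_im.1 (conj_mem_of_mem_normalizer hg (h.mem_im.2 ⟨_, h.τR, by decide +kernel, rfl⟩))
    obtain rfl | rfl := hd g d h1 h2 e.symm
    swap
    · exact absurd (h.inj _ h.τR (by simpa [h.one] using e.symm)) (by decide +kernel)
    obtain ⟨c, hc, rfl, e1⟩ := h.cτ le (mul_inv_eq_iff_eq_mul.1 e.symm)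
    have cm : ∀ d ∈ R, d ∈ P4 → d * c = c * d := fun d h1 h2 => by
      obtain ⟨d', h3, h4, e⟩ := h.mem_im.1 (conj_mem_of_mem_normalizer hg (h.mem_im.2 ⟨_, h1, h2, rfl⟩))
      rw [h.conj hc h1] at e
      exact (by decide +kernel : ∀ c ∈ R2, c * v 0 43 = v 0 43 * c → ∀ d ∈ P4, c * d * c⁻¹ ∈ P4 → d * c = c * d) c (le hc) e1 d h2
        (h.eq h3 (mul_mem (mul_mem hc h1) (inv_mem hc)) e ▸ h4)
    refine ⟨fun x hx => ?_, h.mem_im.2 ⟨_, pow_mem hc 3, ?_, h.pow hc 3⟩⟩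
    · obtain ⟨d, h1, h2, rfl⟩ := h.mem_im.1 hx
      exact (h.comm h1 hc).2 (cm d h1 h2)
    · rcases hR with rfl | rfl
      · exact (by decide +kernel : ∀ c ∈ R1, c * v 0 43 = v 0 43 * c → c ^ 3 ∈ P4) c hc e1
      · exact (by decide +kernel : ∀ c, c * v 0 43 = v 0 43 * c → c ∈ R2 → v 0 24 * c = c * v 0 24 → c ^ 3 ∈ P4) c e1 hc
          (cm _ (by decide +kernel) (by decide +kernel))
  have p := (syl_of_pow h.pP le_top (by norm_num) fun g _ hg => (key g hg).2).pnil_of_normalizer_le_centralizer fun g hg => (key g hg.2).1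
  have := resOf_normal (p := 2) (⊤ : Subgroup G)
  exact h.odd le (le_resOf_of_coprime le_top (by rw [h.card_S]; norm_num)) (Nat.coprime_two_right.1 p.coprime)

theorem iso (hR : R = R2) (e1 : ε (K (v 0 43)) ≠ 1) (e2 : ε (K (v 0 19)) = 1) : IsIsolatedInvolution (K (v 0 19)) := by
  subst hR
  have hs : v 0 19 ∈ R2 := by decide +kernel
  have s2 : orderOf (K (v 0 19)) = 2 := two_of_sq (by rw [← h.pow hs, show v 0 19 ^ 2 = 1 by decide +kernel, h.one])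
    fun e => absurd (h.inj _ hs e) (by decide +kernel)
  refine ⟨s2, fun g hg => by_contra fun n => ?_⟩
  set s := K (v 0 19)
  set u := g * s * g⁻¹
  have u2 : orderOf u = 2 := by rwa [orderOf_conj]
  have c3 : ι (.el 21) ^ 3 = 1 := J_cube ⟨_, rfl⟩
  have cn : ∀ k : Fin 3, ι (.el 21) ^ k.1 ≠ 1 → 𝐂[ι (.el 21 ^ k.1)] ≤ 𝐍(ι.range) := fun k hk =>
    h.cen ((by decide +kernel : ∀ k : Fin 3, T27.el 21 ^ k.1 ≠ 1 → 2 ≤ (Nin.cls (.el 21 ^ k.1)).1) k fun e => hk (by rw [← map_pow, e, map_one]))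
  have c1 : ι (.el 21) ≠ 1 := (map_ne_one_iff ι h.ιinj).2 (by decide +kernel)
  have cC : ι (.el 21) ∈ 𝐂[s] ⊓ ε.ker := h.kι _ ▸ ⟨mem_cent.2 ((h.comm (h.iR _) hs).2 (by decide +kernel)), h.eps (h.iR _) (by decide +kernel)⟩
  have key : ∀ g ∈ 𝐂[s] ⊓ ε.ker, g ∈ 𝐍(zpowers (ι (.el 21))) → g ∈ 𝐂(zpowers (ι (.el 21))) ∧ g ^ 2 ∈ zpowers (ι (.el 21)) := fun g hg hn => by
    obtain ⟨k, e⟩ := (mem_zp3 c3).1 (conj_mem_of_mem_normalizer hn (mem_zpowers _))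
    obtain ⟨d, hd, rfl⟩ := h.nrm g (h.wk ((h.cj_le (e.trans (map_pow ι _ _).symm)).trans (cn k fun e3 => c1 (by simpa [e3] using e))))
    obtain ⟨e3, j, e4⟩ := (by decide +kernel : ∀ d, d * v 0 19 = v 0 19 * d → d ∈ R2 → d.right.1 = 1 → d * inl (.el 21) = inl (.el 21) * d ∧
      ∃ j : Fin 3, d ^ 2 = inl (.el 21 ^ j.1)) d ((h.comm hd hs).1 (mem_cent.1 hg.1)) hd ((h.eps2 hs e1 e2 hd).1 hg.2)
    exact ⟨zpowers_le.1 (zc (h.kι _ ▸ (h.comm hd (h.iR _)).2 e3)), by rw [← h.pow hd, e4, h.kι, map_pow]; exact pow_mem (mem_zpowers _) _⟩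
  have sy := syl_of_pow (isP c3) (zpowers_le.2 cC) (by norm_num) fun g hg hn => (key g hg hn).2
  have p := sy.pnil_of_normalizer_le_centralizer fun g hg => (key g hg.1 hg.2).1
  have uC : u ∈ 𝐂[s] ⊓ ε.ker := ⟨mem_cent.2 hg.symm, (eps_conj _ _).trans e2⟩
  have yC := mul_mem uC cC
  have d3 : 3 ∣ orderOf (u * ι (.el 21)) := by_contra fun e => c1 ((p.disjoint (isP c3)).le ⟨mem_zpowers _,
    (mul_mem_cancel_left (mem_resOf uC (by rw [u2]; norm_num))).1 (mem_resOf yC ((Nat.prime_three.coprime_iff_not_dvd.2 e).symm))⟩)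
  have o3 := orderOf_pow_orderOf_div (orderOf_pos _).ne' d3
  set x := (u * ι (.el 21)) ^ (orderOf (u * ι (.el 21)) / 3) with hx
  obtain ⟨k, hk, e3⟩ := sy.exists_cj_le (isP (o3 ▸ pow_orderOf_eq_one x)) (zpowers_le.2 (pow_mem yC _))
  obtain ⟨j, e3⟩ := (mem_zp3 c3).1 (cj_zpowers_le.1 e3)
  have j1 : ι (.el 21) ^ j.1 ≠ 1 := fun e => by
    rw [← orderOf_conj k, e3, e, orderOf_one] at o3; omega
  have cm : Commute (k * (u * ι (.el 21)) * k⁻¹) (ι (.el 21 ^ j.1)) := by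
    rw [map_pow, ← e3]; exact ((Commute.refl _).pow_right _).conj k
  obtain ⟨d, hd, e4⟩ := h.nrm _ (cn j j1 (mem_cent.2 cm))
  have ks := mem_cent.1 hk.1
  have e5 := (by decide +kernel : ∀ d, d * v 0 19 = v 0 19 * d → d ∈ R2 → ∀ j : Fin 3, T27.el 21 ^ j.1 ≠ 1 → d * inl (.el 21 ^ j.1) =
    inl (.el 21 ^ j.1) * d → d ^ 3 = 1 ∨ d ^ 3 = v 0 19) d ((h.comm hd hs).1 (e4 ▸ (ks.mul_left (mem_cent.1 yC.1)).mul_left ks.inv_left)) hd j
    (fun e => j1 (by rw [← map_pow, e, map_one])) ((h.comm hd (h.iR _)).1 (by rwa [e4, h.kι]))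
  have e6 : k * (u * ι (.el 21)) ^ 3 * k⁻¹ = K (d ^ 3) := by rw [h.pow hd, e4, conj_pow]
  have pc : ∀ c ∈ P4, h.im P4 ≤ 𝐂[K c] := fun c hc x hx => by
    obtain ⟨d, h1, h2, rfl⟩ := h.mem_im.1 hx
    obtain ⟨h3, h4⟩ := (by decide +kernel : ∀ c ∈ P4, c ∈ R2 ∧ ∀ d ∈ P4, d * c = c * d) c hc
    exact mem_cent.2 ((h.comm h1 h3).2 (h4 d h2))
  refine eight s2 u2 hg.symm n (mem_cent.1 cC.1) c3 (e5.imp (fun e => by simpa [e, h.one] using e6) fun e => ?_) (pc _ (by decide +kernel)) h.pP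
    (by rw [h.card_im (show ∀ c ∈ P4, c ∈ R2 by decide +kernel), Nat.card_eq_fintype_card]; decide +kernel)
    (h.mem_im.2 ⟨_, h.τR, by decide +kernel, rfl⟩) (pc _ (by decide +kernel)) fun g hg => ?_
  · simpa using e6.trans ((congrArg K e).trans ks.mul_inv_cancel.symm)
  · obtain ⟨c, hc, rfl, e⟩ := h.cτ le_rfl (mem_cent.1 hg.2)
    exact h.mem_im.2 ⟨c, hc, (by decide +kernel : ∀ c, c * v 0 43 = v 0 43 * c → c ∈ R2 → c * v 0 19 = v 0 19 * c → c ∈ P4) c e hc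
      ((h.comm hc hs).1 (mem_cent.1 hg.1)), rfl⟩

theorem r2 (hR : R = R1 ∨ R = R2) : ι.range.Normal := by
  rcases hR with rfl | rfl
  · exact h.two (.inl rfl) fun _ d h1 h2 _ => (by decide +kernel : ∀ d ∈ P4, d ∈ R1 → d = v 0 43 ∨ d = 1) d h2 h1
  have hs : v 0 19 ∈ R2 := by decide +kernel
  obtain ⟨ε, e⟩ := h.sign1 (by decide +kernel)
  by_cases e1 : ε (K (v 0 43)) = 1
  · refine h.two (.inr rfl) fun g d h1 h2 e2 => by_contra fun n => e ?_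
    have := e2 ▸ (eps_conj g _).trans e1
    rcases (by decide +kernel : ∀ d ∈ P4, ¬ (d = v 0 43 ∨ d = 1) → d = v 0 19 ∨ d * v 0 43 = v 0 19) d h2 n with rfl | e3
    · rw [e1, this]
    · rw [← e3, h.mul _ h1 _ h.τR, map_mul, this, one_mul]
  have e2 : ε (K (v 0 19)) = 1 := by
    rw [Int.units_ne_iff_eq_neg.1 e.symm, Int.units_ne_iff_eq_neg.1 e1, neg_neg]
  have zs := z_star (h.iso rfl e1 e2)
  refine h.odd le_rfl (fun g hg => ?_) (Core.odd_card_oddCore G)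
  obtain ⟨c, -, hc, rfl⟩ := h.mem_im.1 hg
  obtain ⟨d, hd, e3⟩ := (by decide +kernel : ∀ c ∈ S2, ∃ d, inr d ∈ R2 ∧ c = inl c.left * (v 0 19 * inr d * (v 0 19)⁻¹ * (inr d)⁻¹)) c hc
  have m := mul_mem (mul_mem hs hd) (inv_mem hs)
  rw [e3, h.mul _ (h.iR _) _ (mul_mem m (inv_mem hd)), h.mul _ m _ (inv_mem hd), ← h.conj hs hd, h.inv hd, h.kι]
  exact mul_mem (h.J_le_of hs (by decide +kernel) (zs _) ⟨_, rfl⟩) (zs _)

end St

end Cfsg.Lib.Block.Ten
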