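import Cfsg.Agent.Lib.Block.Ten8
import Cfsg.Agent.Lib.Transfer.HallWielandt
import Cfsg.Agent.Lib.Linear.AutAlt

/-! # Recognition of `S₉` by the centralizer of an element of type `3³` -/

set_option autoImplicit false
set_option linter.unusedSectionVars false
set_option synthInstance.maxSize 100000
set_option maxRecDepth 100000

namespace Cfsg.Lib.Block.Ten

open Cfsg Cfsg.Lib.Invol Cfsg.Lib.Transfer Cfsg.Lib.X32 Cfsg.Lib.Block.Tri Cfsg.Lib.Block.Nin Subgroup SemidirectProduct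

local notation "𝐍(" X ")" => normalizer (SetLike.coe X)
local notation "𝐂(" X ")" => centralizer (SetLike.coe X)
local notation "𝐂[" x "]" => centralizer ({x} : Set _)

variable {G : Type*} [Group G] [Finite G] {R : Subgroup W2} {K : W2 → G} {ι : T27 →* G} {c : W2} {ε : G →* ℤˣ} {H : Subgroup G}

def j3 : W3 →* W2 := MonoidHom.mk' (fun x => v (x.left.1.toAdd.val + 3 * x.left.2.1.toAdd.val + 9 * x.left.2.2.toAdd.val)
  ((3 * x.right.1.toAdd.val + 2 * x.right.2.toAdd.val) % 4)) (by decide +kernel)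

def jW : W →* W2 := SemidirectProduct.map (.id _) (.inr _ _) fun _ => rfl

theorem sym_of_alt [H.Normal] (hH : H ≠ ⊤) (hC : 𝐂(H) = ⊥) (e : H ≃* alternatingGroup (Fin 9)) : Nonempty (G ≃* Equiv.Perm (Fin 9)) := by
  let ψ := (MulEquiv.ofBijective _ (Linear.conjNormal_alt_bijective (α := Fin 9) (by simp) (by simp))).symm
  let f := ψ.toMonoidHom.comp ((MulAut.congr e).toMonoidHom.comp (MulAut.conjNormal (H := H)))
  have i0 : Function.Injective (MulAut.conjNormal (H := H)) := (injective_iff_map_eq_one _).2 fun g hg =>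
    hC.le fun x hx => (mul_inv_eq_iff_eq_mul.1 (congrArg (fun φ : MulAut H => (φ ⟨x, hx⟩).1) hg :)).symm
  have i : Function.Injective f := fun a b e1 => i0 ((MulAut.congr e).injective (ψ.injective e1))
  refine ⟨.ofBijective f (i.bijective_of_nat_card_le ?_)⟩
  rw [← two_mul_nat_card_alternatingGroup, ← H.index_mul_card, Nat.card_congr e.toEquiv]
  exact Nat.mul_le_mul_right _ (one_lt_index_of_ne_top hH)

namespace St
variable (h : St R K ι)
include h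

theorem fin2 (hc : c ∈ R) (e : ε (K c) ≠ 1) (hk : ε.ker ≤ 𝐍(ι.range)) : ι.range.Normal :=
  normalizer_eq_top_iff.1 (eq_top_iff.2 fun g _ => (em (ε g = 1)).elim (fun e1 => hk e1) fun e1 => (mul_mem_cancel_right (h.memN hc)).1 (hk (by
    rw [MonoidHom.mem_ker, map_mul, Int.units_ne_iff_eq_neg.1 e, Int.units_ne_iff_eq_neg.1 e1]; rfl)))

theorem model {X : Type*} [Group X] {j : X →* W2} (hi : ∀ x, j x = 1 → x = 1) (hj : ∀ x, j x ∈ R) (hH : ∀ x, K (j x) ∈ H)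
    (hr : ∀ c ∈ R, K c ∈ H → ∃ x, j x = c) {V : Subgroup X} (hV : ∀ x, x ∈ V ↔ (j x).right = 1) (hJ : ι.range ≤ H) :
    ∃ κ : X →* H, Function.Injective κ ∧ (∀ x, (κ x).1 = K (j x)) ∧ V.map κ = ι.range.subgroupOf H ∧ κ.range = 𝐍(ι.range).subgroupOf H ∧
      𝐍(V.map κ) = κ.range := by
  let κ := (h.hom.comp (j.codRestrict R hj)).codRestrict H hH
  have e1 : V.map κ = ι.range.subgroupOf H := Subgroup.ext fun g => ⟨by rintro ⟨x, hx, rfl⟩; exact (h.memJ (hj x)).2 ((hV x).1 hx), fun ⟨a, e⟩ => by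
    obtain ⟨x, e1⟩ := hr _ (h.iR a) (h.kι a ▸ hJ ⟨a, rfl⟩)
    exact ⟨x, (hV x).2 (e1 ▸ rfl), Subtype.ext (((congrArg K e1).trans (h.kι a)).trans e)⟩⟩
  have e2 : κ.range = 𝐍(ι.range).subgroupOf H := Subgroup.ext fun g => ⟨by rintro ⟨x, rfl⟩; exact h.memN (hj x), fun hg => by
    obtain ⟨c, hc, e⟩ := h.nrm g hg
    obtain ⟨x, rfl⟩ := hr c hc (e ▸ g.2)
    exact ⟨x, Subtype.ext e⟩⟩
  exact ⟨κ, (injective_iff_map_eq_one _).2 fun x e => hi x (h.inj _ (hj x) (congrArg Subtype.val e)), fun _ => rfl, e1, e2,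
    by rw [e1, e2, subgroupOf_normalizer_eq hJ]⟩

theorem S0 : h.im S2 ≤ ε.ker := fun g hg => by
  obtain ⟨c, hc, h1, rfl⟩ := h.mem_im.1 hg; exact h.eps hc ((by decide +kernel : ∀ c ∈ S2, E4 c) c h1)

theorem r4 (hR : R = R4) : ι.range.Normal := by
  obtain ⟨ε, e⟩ := h.sign4 hR
  subst hR
  rw [h.eps (c := v 0 1) (by decide +kernel) (by decide +kernel)] at e
  have J0 := h.J_S.trans (h.S0 (ε := ε))
  have hT := h.syl.mono (h.S0 (ε := ε)) le_top
  have nH := resOf_normal (p := 3) ε.ker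
  have inv : ∀ c ∈ R4, E4 c → c ^ 2 = 1 → K c ∈ resOf 3 ε.ker := fun c hc h1 h2 => mem_resOf (h.eps hc h1)
    (Nat.Coprime.of_dvd_left (orderOf_dvd_of_pow_eq_one (n := 2) (by rw [← h.pow hc, h2, h.one])) (by norm_num))
  have m := inv (v 0 2) (by decide +kernel) (by decide +kernel) (by decide +kernel)
  have JH : ι.range ≤ resOf 3 ε.ker := h.J_le_of (c := v 0 2) (by decide +kernel) (by decide +kernel) (by
    simpa only [mul_assoc] using mul_mem m (nH.conj_mem _ (inv_mem m) (ι (.el 1))))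
  have hw := hall_wielandt_comm (by decide) hT.toSylow (W := ι.range.subgroupOf ε.ker) (hT.coe_toSylow ▸ ⟨comap_mono h.J_S, fun g hg =>
    cj_eq_iff.2 (subgroupOf_normalizer_eq J0 ▸ h.wk (cj_le_iff.2 fun x hx => h.im_le (cj_le_iff.1 hg ⟨x, J0 hx⟩ hx)))⟩)
    ⟨⟨fun a b => Subtype.ext (Subtype.ext (J_comm b.2 _ a.2))⟩⟩
  rw [← subgroupOf_normalizer_eq J0] at hw
  have a1 : ∀ x, K (j3 x) ∈ resOf 3 ε.ker := fun x => by
    obtain ⟨a1, a2, a3⟩ := (by decide +kernel : ∀ x, inr (j3 x).right ∈ R4 ∧ E4 (inr (j3 x).right) ∧ (inr (j3 x).right : W2) ^ 2 = 1) x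
    rw [← inl_left_mul_inr_right (j3 x), h.mul _ (h.iR _) _ a1, h.kι]
    exact mul_mem (JH ⟨_, rfl⟩) (inv _ a1 a2 a3)
  have a2 : resOf 3 (𝐍(ι.range).subgroupOf ε.ker) ≤ (h.im j3.range).subgroupOf ε.ker := resOf_le_of_pow_mem fun x hx => ⟨1, by
    obtain ⟨d, hd, e3⟩ := h.nrm _ hx
    refine h.mem_im.2 ⟨_, pow_mem hd 3, (by decide +kernel : ∀ d, E4 d → ∃ x, j3 x = d ^ 3) d (by_contra fun n => e ?_), by rw [h.pow hd, e3]; rfl⟩
    rw [← h.eps' hd h.τR ((by decide +kernel : ∀ c ∈ R4, ¬ E4 c → E4 (c * v 0 43)) d hd n), e3]; exact x.2⟩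
  obtain ⟨κ, hi, hk, hV, hr, hn⟩ := h.model (j := j3) (V := V3) (by decide +kernel) (by decide +kernel) a1 (fun c hc e1 => by
    obtain ⟨g, hg, e2⟩ := (map_pResidual _).ge e1
    obtain ⟨_, hd, ⟨x, rfl⟩, e3⟩ := h.mem_im.1 (a2 (hw.ge ⟨hg, show g.1 ∈ 𝐍(ι.range) from (show g.1 = _ from e2) ▸ h.memN hc⟩))
    exact ⟨x, h.eq hd hc (e3.trans e2)⟩) (by decide +kernel) JH
  have := Md.eq_top ⟨hi, ⟨syl_of_pow (hV ▸ h.pJ.comap_subtype) le_top (n := 2) (by norm_num) fun g _ hg => ?_,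
    hV ▸ fun a ha b hb => Subtype.ext (J_comm hb _ ha), fun t ht t1 g hg => ?_⟩, hn, by decide +kernel⟩
  · exact h.fin2 h.τR e (hT.resOf_sup ▸ sup_le (fun g hg => (hr ▸ this).ge (mem_top (⟨g, hg⟩ : resOf 3 ε.ker))) h.im_le)
  · obtain ⟨x, rfl⟩ := hn.le hg
    exact map_pow κ x 2 ▸ mem_map_of_mem κ ((by decide +kernel : ∀ x : W3, x ^ 2 ∈ V3) x)
  · obtain ⟨a, e1⟩ := hV.le ht
    have h1 := h.cen1 fun e => absurd (e.ge (mem_top (v 0 24))) (by decide +kernel)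
    rw [hn, hr]
    exact ((by decide +kernel : ∀ a, a ≠ 1 → 2 ≤ (Nin.cls a).1 ∨ ∃ d, inr d ∈ R4 ∧ (a = act2 d (.el 1) ∨ a = (act2 d (.el 1))⁻¹)) a
      fun e2 => t1 (Subtype.ext (by rw [← show ι a = t.1 from e1, e2, map_one]; rfl))).elim h.cen (fun ⟨_, hd, e2⟩ => h.c_conj hd h1 e2)
      (mem_cent.2 ((show ι a = t.1 from e1) ▸ congrArg Subtype.val (mem_cent.1 hg)))

theorem main : ι.range.Normal ∨ Nonempty (G ≃* Equiv.Perm (Fin 9)) := by
  classical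
  rcases cases_R h.le with e | e | e | rfl
  · exact .inl (h.r2 (.inl e))
  · exact .inl (h.r2 (.inr e))
  · exact .inl (h.r4 e)
  obtain ⟨ε, e⟩ := h.sign1 (mem_top _)
  have J0 := h.J_S.trans (h.S0 (ε := ε))
  by_cases e1 : ε (K (v 0 43)) = 1
  · have e2 : ε (K (v 0 19)) ≠ 1 := e1 ▸ e.symm
    have k : ∀ c, K c ∈ ε.ker ↔ c ∈ R4 := fun c => ⟨fun e3 => by_contra fun n => e2 (by
      rcases (by decide +kernel : ∀ c, c ∉ R4 → E4 (c * v 0 19) ∨ E4 (c * v 0 43 * v 0 19)) c n with e4 | e4 <;>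
        rw [← h.eps' (mem_top _) (mem_top _) e4]
      exacts [e3, by rw [h.mul _ (mem_top _) _ (mem_top _), map_mul, e1, mul_one]; exact e3]), fun hc =>
      ((by decide +kernel : ∀ c ∈ R4, E4 c ∨ E4 (c * v 0 43)) c hc).elim (h.eps (mem_top _)) fun e3 => (h.eps' (mem_top _) (mem_top _) e3).trans e1⟩
    let K0 : W2 → ε.ker := fun c => if hc : K c ∈ ε.ker then ⟨K c, hc⟩ else 1
    have k0 : ∀ c ∈ R4, (K0 c).1 = K c := fun c hc => congrArg Subtype.val (dif_pos ((k c).2 hc))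
    let ι0 := ι.codRestrict ε.ker fun a => J0 ⟨a, rfl⟩
    have r0 : ι0.range = ι.range.subgroupOf ε.ker := Subgroup.ext fun g => exists_congr fun a => Subtype.ext_iff
    have n0 := subgroupOf_normalizer_eq J0
    have st : St R4 K0 ι0 := ⟨fun a ha b hb => Subtype.ext (by rw [coe_mul, k0 a ha, k0 b hb, k0 _ (mul_mem ha hb), h.mul a trivial b trivial]),
      fun a ha e => h.inj a trivial ((k0 a ha).symm.trans (congrArg Subtype.val e)),
      fun a => Subtype.ext ((k0 _ ((by decide +kernel : ∀ a, inl a ∈ R4) a)).trans (h.kι a)), (by decide +kernel : ∀ c ∈ R1, c ∈ R4),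
      fun g hg => by
        obtain ⟨c, -, e⟩ := h.nrm g (n0.ge (r0 ▸ hg))
        have := (k c).1 (e ▸ g.2)
        exact ⟨c, this, Subtype.ext ((k0 c this).trans e)⟩,
      fun g hg => r0 ▸ n0.le (h.cx (mem_cent.2 (congrArg Subtype.val (mem_cent.1 hg)))), fun L h1 h2 =>
      (map_eq_bot_iff_of_injective _ (subtype_injective _)).1 (h.sig _ (by rwa [card_map_of_injective (subtype_injective _)]) (by
        rintro _ ⟨a, rfl⟩; exact le_normalizer_map _ (mem_map_of_mem _ (h2 ⟨a, rfl⟩))))⟩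
    have := st.r4 rfl
    rw [r0, normal_subgroupOf_iff_le_normalizer J0] at this
    exact .inl (h.fin2 (mem_top _) e2 this)
  have e2 : ε (K (v 0 19)) = 1 := by
    rw [Int.units_ne_iff_eq_neg.1 e.symm, Int.units_ne_iff_eq_neg.1 e1, neg_neg]
  have k := fun c => h.eps2 (c := c) (mem_top _) e1 e2 (mem_top _)
  obtain ⟨κ, hi, hk, hV, hr, hn⟩ := h.model (j := jW) (H := ε.ker) (V := V) (by decide +kernel) (fun _ => mem_top _) (fun x => (k _).2 rfl)
    (fun c _ e => ⟨⟨c.left, c.right.2⟩, SemidirectProduct.ext rfl (Prod.ext ((k c).1 e).symm rfl)⟩) (by decide +kernel) J0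
  refine (M1.main ⟨⟨hi, hn.le⟩, fun a ha h2 g hg => hr.ge (h.cen h2 (mem_cent.2 ?_))⟩).imp (fun e3 => h.fin2 (mem_top _) e1 fun g hg =>
    (hr ▸ e3).ge (mem_top (⟨g, hg⟩ : ε.ker))) fun ⟨φ⟩ => sym_of_alt (fun e3 => e1 (e3.ge (mem_top _))) (eq_bot_iff.2 fun g hg => ?_) φ
  · rw [← h.kι, ← (by decide +kernel : ∀ a ∈ V, jW a = inl a.left) a ha, ← hk]; exact congrArg Subtype.val (mem_cent.1 hg)
  · obtain ⟨a, rfl⟩ := h.cent_le (centralizer_le J0 hg)
    have c := fun c (hc : c.right.1 = 1) => (h.comm (mem_top c) (mem_top (inl a))).1 (h.kι a ▸ hg _ ((k c).2 hc))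
    rw [(by decide +kernel : ∀ a, v 0 4 * inl a = inl a * v 0 4 → v 0 1 * inl a = inl a * v 0 1 → a = 1) a (c _ rfl) (c _ rfl), map_one]
    exact one_mem _

end St

end Cfsg.Lib.Block.Ten
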