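import Cfsg.Agent.Lib.BS.Bro
import Cfsg.Agent.Lib.BS.ThmC2
import Cfsg.Agent.Lib.Perm.Regular
import Cfsg.Agent.Lib.Core.PSolvable
import Cfsg.Agent.Lib.Clifford.DefZero

/-! A rank one group has an irreducible character whose degree is a multiple of the degree of the
permutation group. -/

set_option autoImplicit false

namespace Cfsg.Lib.Block

open Cfsg Cfsg.Lib.BS Cfsg.Lib.Clifford Cfsg.Lib.Char Cfsg.Lib.PF Cfsg.Lib.PF6 Subgroup

variable {G : Type*} [Group G] [Finite G] {H Q : Subgroup G} {t : G}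

theorem exists_irr_index_dvd (h : RO H Q t) (h2 : R2 (⊤ : Subgroup G)) :
    ∃ χ : G → ℂ, IsIrrCharacter G χ ∧ H.index ∣ charDegree χ := by
  obtain ⟨k, hk, hi, hp⟩ := h.exists_K_prime h2
  obtain ⟨β, hβ, hb⟩ : ∃ β ∈ Irr (Dg H t), ¬ β k⁻¹ = β k := by
    by_contra! h1
    obtain ⟨g, hg, e⟩ := exists_conj_of_irr_eq hk h1
    have h3 : ∀ n : ℕ, g ^ (2 * n) * k * (g ^ (2 * n))⁻¹ = k := fun n => by
      induction n with
      | zero => simp
      | succ n ih =>
        rw [show g ^ (2 * (n + 1)) * k * (g ^ (2 * (n + 1)))⁻¹ =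
          g ^ (2 * n) * (g * (g * k * g⁻¹) * g⁻¹) * (g ^ (2 * n))⁻¹ by group, e, ← conj_inv, e,
          inv_inv, ih]
    obtain ⟨m, hm⟩ := h.odd_D hg
    have h4 : g ^ (2 * (m + 1)) = g := by
      rw [show 2 * (m + 1) = (2 * m + 1) + 1 by ring, pow_succ, ← hm, pow_orderOf_eq_one, one_mul]
    have h5 := h3 (m + 1)
    rw [h4, e] at h5
    have := eq_one_of_mul_self (h.odd_D hk) (by nth_rw 1 [← h5]; exact inv_mul_cancel k)
    rw [this, orderOf_one] at hp
    exact Nat.not_prime_one hp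
  have h0 : ∀ x ∉ Dg H t, β x = 0 := fun _ => zero_of_mem_Irr hβ
  have hD : ∀ d ∈ Dg H t, cprod (cf1 Q) β d = β d := fun d hd => by
    rw [← cprod_cf1_apply h.complQD h0 Q.one_mem hd, one_mul]
  have hφ := irrOn_of_mem (sdprod_mem_Irr h.complQD (nrm_of_le_normalizer h.norm) hβ)
  have hc := (irrOn_of_mem hβ).cj (nrm_of_le_normalizer le_rfl) h.t_mem_norm_D
  refine ⟨ind H ⊤ (cprod (cf1 Q) β), irrOn_top.1 ((hφ.charOn.ind le_top).irrOn_of_dot_self ?_), ?_⟩
  · rw [h.dot_ind_ind_H hφ.classOn hφ.classOn, hφ.dot_self, dot_congr hD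
      (ψ' := Clifford.cj t β) fun d hd => by
        rw [cj_apply, cj_apply, h.t_inv, hD _ (h.tdt hd)],
      (irrOn_of_mem hβ).dot_eq_zero hc fun e => hb (by rw [e k hk, cj_apply, hi]), add_zero]
  · rw [hφ.charOn.deg_ind le_top, relIndex_top_right]
    exact Dvd.intro _ rfl

end Cfsg.Lib.Block
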