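import Cfsg.Agent.Lib.Block.Tri8

/-! # The group `3³ : 2²` inside `Sym(9)` -/

set_option autoImplicit false
set_option linter.unusedSectionVars false
set_option synthInstance.maxSize 4096
set_option maxRecDepth 4096

namespace Cfsg.Lib.Block.Tri

open Cfsg Cfsg.Lib.Transfer Subgroup SemidirectProduct Equiv

def mv (a : C3) (s : C2) (i : ℕ) : ℕ := ((if s = 1 then i else 4 - i) + a.toAdd.val) % 3

def f9 (w : W3) (p : Fin 9) : Fin 9 := Fin.ofNat 9 (if p.1 < 3 then mv w.left.1 (w.right.1 * w.right.2) p.1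
  else if p.1 < 6 then 3 + mv w.left.2.1 w.right.1 (p.1 - 3) else 6 + mv w.left.2.2 w.right.2 (p.1 - 6))

theorem f9_mul : ∀ a b : W3, ∀ p, f9 (a * b) p = f9 a (f9 b p) := by decide +kernel

theorem f9_one : ∀ p, f9 1 p = p := by decide

def ψ3 : W3 →* Perm (Fin 9) :=
  MonoidHom.mk' (fun w => ⟨f9 w, f9 w⁻¹, fun p => by rw [← f9_mul, inv_mul_cancel, f9_one],
    fun p => by rw [← f9_mul, mul_inv_cancel, f9_one]⟩) fun a b => Equiv.ext (f9_mul a b)

theorem ψ3_inj : Function.Injective ψ3 := (injective_iff_map_eq_one _).2 fun w h =>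
  (by decide +kernel : ∀ w : W3, (∀ p, f9 w p = p) → w = 1) w fun p => congrArg (fun g : Perm (Fin 9) => g p) h

theorem ψ3_range : ψ3.range = Subgroup.closure {swap (0 : Fin 9) 1 * swap 1 2, swap (3 : Fin 9) 4 * swap 4 5, swap (6 : Fin 9) 7 * swap 7 8,
    swap (0 : Fin 9) 1 * swap 3 4, swap (0 : Fin 9) 1 * swap 6 7} := by
  have e1 : ψ3 (g3 0) = swap 0 1 * swap 1 2 := Equiv.ext (show ∀ p, f9 _ p = _ by decide)
  have e2 : ψ3 (g3 1) = swap 3 4 * swap 4 5 := Equiv.ext (show ∀ p, f9 _ p = _ by decide)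
  have e3 : ψ3 (g3 2) = swap 6 7 * swap 7 8 := Equiv.ext (show ∀ p, f9 _ p = _ by decide)
  have e4 : ψ3 (inr (ν, 1)) = swap 0 1 * swap 3 4 := Equiv.ext (show ∀ p, f9 _ p = _ by decide)
  have e5 : ψ3 (inr (1, ν)) = swap 0 1 * swap 6 7 := Equiv.ext (show ∀ p, f9 _ p = _ by decide)
  rw [← e1, ← e2, ← e3, ← e4, ← e5]
  refine le_antisymm ?_ ((closure_le _).2 (by rintro _ (rfl | rfl | rfl | rfl | rfl) <;> exact ⟨_, rfl⟩))
  rintro _ ⟨w, rfl⟩
  rw [(by decide +kernel : ∀ w : W3, w = g3 0 ^ w.left.1.toAdd.val * g3 1 ^ w.left.2.1.toAdd.val * g3 2 ^ w.left.2.2.toAdd.val *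
    inr (ν, 1) ^ w.right.1.toAdd.val * inr (1, ν) ^ w.right.2.toAdd.val) w]
  simp only [map_mul, map_pow]
  refine mul_mem (mul_mem (mul_mem (mul_mem ?_ ?_) ?_) ?_) ?_ <;> exact pow_mem (Subgroup.subset_closure (by simp)) _

variable {G : Type*} [Group G] [Finite G]

theorem eq_top27 {H T : Subgroup G} (e : H ≃* ψ3.range) (hTH : T ≤ H) (hT : Nat.card T = 27) (hN : normalizer (T : Set G) = H)
    (hC : ∀ t ∈ T, t ≠ 1 → centralizer ({t} : Set G) ≤ H) : H = ⊤ := by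
  let κ : W3 →* G := H.subtype.comp ((MonoidHom.ofInjective ψ3_inj).trans e.symm).toMonoidHom
  have hi : Function.Injective κ := Subtype.val_injective.comp (MulEquiv.injective _)
  have hr : κ.range = H := by
    rw [MonoidHom.range_comp, MonoidHom.range_eq_top.2 (MulEquiv.surjective _), ← MonoidHom.range_eq_map, range_subtype]
  have v3 : ∀ v ∈ V3, v ^ 3 = 1 := by decide +kernel
  have hV : V3.map κ = T := by
    refine (eq_of_le_of_card_ge (fun t ht => ?_) (by rw [hT, card_map_of_injective hi, Nat.card_eq_fintype_card]; decide +kernel)).symm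
    obtain ⟨w, rfl⟩ := hr.ge (hTH ht)
    refine ⟨w, (by decide +kernel : ∀ w : W3, w ^ 27 = 1 → w ∈ V3) w (hi ?_), rfl⟩
    rw [map_pow, map_one, ← hT]
    exact congrArg Subtype.val (pow_card_eq_one' (x := (⟨_, ht⟩ : T)))
  have hp : IsPGroup 3 T := IsPGroup.of_card (n := 3) hT
  have c1 : Nat.card H = 108 := by
    rw [← hr, ← Nat.card_congr (MonoidHom.ofInjective hi).toEquiv, Nat.card_eq_fintype_card]; decide +kernel
  have s : SylowIn 3 T H := ⟨hTH, hp, by have := card_mul_relIndex hTH; rw [hT, c1] at this; omega⟩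
  refine hr ▸ Md.eq_top ⟨hi, hV ▸ ⟨sylowIn_of_maximal le_top hp fun Q hQ h1 _ => by_contra fun h2 => ?_, ?_, hN ▸ hC⟩,
    by rw [hV, hr, hN], v3⟩
  · have := lt_inf_normalizer hQ (lt_of_le_not_ge h1 h2)
    exact this.ne' (s.eq_of_le (hQ.to_le inf_le_left) this.le (hN ▸ inf_le_right))
  · rw [← hV]
    rintro _ ⟨a, ha, rfl⟩ _ ⟨b, hb, rfl⟩
    exact Commute.map ((by decide +kernel : ∀ a ∈ V3, ∀ b ∈ V3, a * b = b * a) a ha b hb) κ

end Cfsg.Lib.Block.Tri
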