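import Cfsg.Agent.Lib.Block.IsoElt
import Cfsg.Agent.Lib.BG1.Sec1

/-! Minimal counterexamples to the `Z*_p` statement. -/

set_option autoImplicit false
set_option linter.unusedSectionVars false

namespace Cfsg.Lib.Block
open Cfsg Subgroup Cfsg.Lib.Core Cfsg.Lib.BG1
open Cfsg.Lib.Amalg
open Cfsg.Lib.Transfer (SylowIn PNil resOf sylowIn_top exists_sylowIn exists_sylowIn_ge)

variable {G : Type*} [Group G] [Finite G] {p : ℕ} [hp : Fact p.Prime] {x : G} {N H K : Subgroup G}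

structure ZM (p : ℕ) (x : G) : Prop where
  ord : orderOf x = p
  iso : IsIsolated x
  nz : ¬ InZStar p x
  min : ∀ (H : Subgroup G) (hxH : x ∈ H), H ≠ ⊤ → InZStar p (⟨x, hxH⟩ : H)
  quot : ∀ (N : Subgroup G) [N.Normal], N ≠ ⊥ → InZStar p (QuotientGroup.mk x : G ⧸ N)

namespace ZM
variable (h : ZM p x)
include h

theorem pg : IsPGroup p (zpowers x) := IsPGroup.of_card (n := 1) (by rw [Nat.card_zpowers, h.ord, pow_one])
theorem core : pPrimeCore p G = ⊥ := by
  by_contra e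
  refine h.nz (inZStar_iff.2 (mem_center_iff.2 fun g => ?_))
  have := h.quot _ e g
  rw [pPrimeCore_quotient_pPrimeCore, mem_bot, mul_inv_eq_one, mul_inv_eq_iff_eq_mul] at this
  exact this
theorem ncen (e : ∀ g, Commute x (g * x * g⁻¹)) : False := h.nz fun g => by rw [h.iso g (e g), mul_inv_cancel]; exact one_mem _
theorem loc (hx : x ∈ H) (hH : H ≠ ⊤) {g : G} (hg : g ∈ H) : g * x * g⁻¹ * x⁻¹ ∈ 𝐎'[p](H) :=
  map_pPrimeCore_subtype hp.out H ▸ ⟨_, h.min H hx hH ⟨g, hg⟩, rfl⟩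
theorem dvd [N.Normal] (hK : K ≤ N) (hn : N ≤ 𝐍(K)) (h1 : K ≠ ⊥) : p ∣ Nat.card K := by
  by_contra e
  have : (𝐎'[p](N)).Normal := normalizer_eq_top_iff.1 (top_unique (le_norm_piCoreOf _ (normalizer_eq_top N).ge))
  exact h1 (le_bot_iff.1 ((le_pPrimeCoreOf' hp.out hK hn e).trans (eq_bot_of_pPrimeCore_eq_bot h.core
    ((hp.out.coprime_iff_not_dvd.2 (not_dvd_card_pPrimeCoreOf hp.out N)).symm)).le))

theorem cent [N.Normal] (hx : x ∈ 𝐂(N)) : N = ⊥ := by
  by_contra e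
  by_cases hC : 𝐂(N) = ⊤
  · obtain ⟨⟨y, hy⟩, h1⟩ := exists_prime_orderOf_dvd_card' (G := N) p (h.dvd le_rfl le_normalizer e)
    rw [orderOf_mk] at h1
    have h2 : ∀ g, g ∈ 𝐂(zpowers y) := fun g => centralizer_le (zpowers_le.2 hy : zpowers y ≤ N) (hC.ge (mem_top g))
    have : (zpowers y).Normal := normalizer_eq_top_iff.1 (top_unique fun g _ => centralizer_le_normalizer _ (h2 g))
    have h3 : SylowIn p (zpowers y) ((pPrimeCore p (G ⧸ zpowers y)).comap (QuotientGroup.mk' _)) :=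
      ⟨QuotientGroup.le_comap_mk' _ _, IsPGroup.of_card (n := 1) (by rw [Nat.card_zpowers, h1, pow_one]), by
        rw [← PGrp.card_map_mk', map_comap_eq_self_of_surjective (QuotientGroup.mk'_surjective _)]
        exact not_dvd_card_pPrimeCore hp.out⟩
    have := Transfer.resOf_normal (p := p) ((pPrimeCore p (G ⧸ zpowers y)).comap (QuotientGroup.mk' _))
    have h4 := h3.resOf_sup
    rw [eq_bot_of_pPrimeCore_eq_bot h.core (h3.pnil_of_normalizer_le_centralizer fun g _ => h2 g).coprime, bot_sup_eq] at h4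
    refine h.ncen fun g => ?_
    have h5 : g * x * g⁻¹ * x⁻¹ ∈ zpowers y := h4.ge (h.quot (zpowers y)
      (fun e => hp.out.one_lt.ne' (by rw [← h1, zpowers_eq_bot.1 e, orderOf_one])) (g : G ⧸ zpowers y))
    simpa using (show Commute x _ from (h2 x _ h5).symm).mul_right (Commute.refl x)
  · refine h.ncen fun g => ?_
    have h1 := h.loc hx hC (Normal.conj_mem inferInstance x hx g)
    have h2 : 𝐎'[p](𝐂(N)) = ⊥ := by_contra fun e => not_dvd_card_pPrimeCoreOf hp.out _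
      (h.dvd (piCoreOf_le' _ _) (le_norm_piCoreOf _ le_normalizer) e)
    rw [h2, mem_bot, mul_inv_eq_one, mul_inv_eq_iff_eq_mul] at h1
    exact h1.symm

theorem sup [N.Normal] (h1 : N ≠ ⊥) : N ⊔ zpowers x = ⊤ := by
  by_contra e
  refine h1 (h.cent fun g hg => ?_)
  have h2 : N ⊓ 𝐎'[p](N ⊔ zpowers x) = ⊥ := by_contra fun e => not_dvd_card_pPrimeCoreOf hp.out _
    ((h.dvd inf_le_left (le_normalizer_inf le_normalizer (le_norm_piCoreOf _ (le_sup_left.trans le_normalizer))) e).trans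
      (card_dvd_of_le inf_le_right))
  have h3 := h2.le (mem_inf.2 ⟨by
    simpa [mul_assoc] using mul_mem hg (Normal.conj_mem inferInstance _ (inv_mem hg) x),
    h.loc (mem_sup_right (mem_zpowers x)) e (mem_sup_left hg)⟩)
  rwa [mem_bot, mul_inv_eq_one, mul_inv_eq_iff_eq_mul] at h3

theorem main : IsSimpleGroup (commutator G) ∧ ¬ IsMulCommutative (commutator G) ∧ commutator G ⊔ zpowers x = ⊤ := by
  have h0 : commutator G ≠ ⊥ := fun e => h.ncen fun g => commutatorElement_eq_one_iff_commute.1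
    (mem_bot.1 (e ▸ commutator_mem_commutator (mem_top _) (mem_top _)))
  obtain ⟨N, hN, h1, h2, h3⟩ := exists_minimal_normal_le (commutator G) h0
  have h4 := h.sup h1
  obtain rfl : commutator G = N := le_antisymm (Normal.commutator_le_of_self_sup_commutative_eq_top h4 inferInstance) h2
  obtain ⟨P, h5, hP⟩ := exists_sylowIn_ge h.pg (le_top (a := zpowers x))
  have key : ∀ M ≤ commutator G, commutator G ≤ 𝐍(M) → M ≠ ⊥ → ∃ y ∈ M, y ≠ 1 ∧ Commute y x := fun M a b c => by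
    have h6 := ((hP.inf_of_le (normalizer_eq_top (commutator G)).ge le_top).inf_of_le b a)
    obtain ⟨⟨y, hy⟩, h7⟩ := (ne_bot_iff_exists_ne_one (H := P ⊓ commutator G ⊓ M)).1 fun e =>
      h6.3 (by rw [e, relIndex_bot_left]; exact h.dvd a b c)
    exact ⟨y, hy.2, fun e => h7 (Subtype.ext e), (h.iso.commute_of_mem hP.2 (h5 (mem_zpowers x)) hy.1.1)⟩
  refine ⟨?_, fun hc => ?_, h4⟩
  · have : Nontrivial (commutator G) := (nontrivial_iff_ne_bot _).2 h1
    refine ⟨fun M hM => or_iff_not_imp_left.2 fun e => ?_⟩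
    obtain ⟨L, hL, l1, l3⟩ := exists_minimal_le (fun L => L ≠ ⊥ ∧ commutator G ≤ 𝐍(L)) (H := M.map (commutator G).subtype)
      ⟨fun e' => e ((map_eq_bot_iff_of_injective _ (subtype_injective _)).1 e'), (normal_subgroupOf_iff_le_normalizer
        (map_subtype_le _)).1 (by rwa [← comap_subtype, comap_map_eq_self_of_injective (subtype_injective _)])⟩
    obtain ⟨y, hy, y1, y2⟩ := key L (hL.trans (map_subtype_le _)) l1.2 l1.1
    have h6 := l3 (L ⊓ cj x⁻¹ L) ⟨fun e => y1 (mem_bot.1 (e ▸ mem_inf.2 ⟨hy, mem_cj.2 (by rwa [inv_inv, ← y2.eq, mul_inv_cancel_right])⟩)),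
      le_normalizer_inf l1.2 (by rw [← cj_normalizer, ← cj_normal x⁻¹ (commutator G)]; exact cj_mono _ l1.2)⟩ inf_le_left
    have h7 : L.Normal := normalizer_eq_top_iff.1 (top_unique (h4.ge.trans (sup_le l1.2
      (zpowers_le.2 (mem_normalizer_of_cj_le (cj_le_iff.2 (inf_eq_left.1 h6)))))))
    exact top_unique fun g _ => (mem_map_iff_mem (subtype_injective _)).1
      (hL (((h3 L h7 (hL.trans (map_subtype_le _))).resolve_left l1.1).ge g.2))
  · obtain ⟨y, hy, y1, y2⟩ := key _ le_rfl le_normalizer h1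
    have h6 : ⊤ ≤ 𝐂(zpowers y) := centralizer_zpowers y ▸ h4.ge.trans (sup_le (fun g hg => Invol.mem_cent.2
      (congrArg Subtype.val (hc.is_comm.comm ⟨g, hg⟩ ⟨y, hy⟩))) (zpowers_le.2 (Invol.mem_cent.2 y2.symm)))
    have : (zpowers y).Normal := normalizer_eq_top_iff.1 (top_unique (h6.trans (centralizer_le_normalizer _)))
    exact y1 (zpowers_eq_bot.1 (h.cent (h6 (mem_top x))))

theorem max_inv {q : ℕ} [hq : Fact q.Prime] {Q : Subgroup G} (hQ : IsPGroup q Q) (hx : x ∈ 𝐍(Q))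
    (hm : ∀ R : Subgroup G, IsPGroup q R → x ∈ 𝐍(R) → Q ≤ R → R = Q) (h1 : Q ≠ ⊥) : SylowIn q Q ⊤ := by
  by_cases e : q = p
  · subst e
    obtain ⟨P, h2, hP⟩ := exists_sylowIn_ge (IsPGroup.to_sup_of_normal_right' h.pg hQ (zpowers_le.2 hx)) le_top
    exact hm P hP.2 (le_normalizer (h2 (mem_sup_left (mem_zpowers x)))) (le_sup_right.trans h2) ▸ hP
  have nd : ∀ R : Subgroup G, IsPGroup q R → ¬ p ∣ Nat.card R := fun R hR hd => by
    obtain ⟨n, hn⟩ := hR.exists_card_eq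
    exact e ((Nat.prime_dvd_prime_iff_eq hp.out hq.out).1 (hp.out.dvd_of_dvd_pow (hn ▸ hd))).symm
  have hN : 𝐍(Q) ≠ ⊤ := fun e' => by
    have := normalizer_eq_top_iff.1 e'
    exact nd Q hQ (h.dvd le_rfl le_normalizer h1)
  obtain ⟨S, h2, hS⟩ := exists_sylowIn_ge hQ (le_normalizer (H := Q))
  have h3 : 𝐎'[p](𝐍(Q)) ⊔ S ≤ 𝐍(Q) := sup_le (piCoreOf_le' _ _) hS.1
  obtain ⟨T, hT, h4, h5⟩ := Coprime.exists_invariant_sylowIn_ge (A := zpowers x) (K := 𝐎'[p](𝐍(Q)) ⊔ S)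
    (zpowers_le.2 (mem_normalizer_of_cj_le (cj_le_iff'.2 fun k hk => by
      simpa [mul_assoc] using mul_mem (mem_sup_left (inv_mem (h.loc hx hN (h3 hk)))) hk)))
    (by
      rw [Nat.card_zpowers, h.ord, hp.out.coprime_iff_not_dvd]
      exact fun hd => (hp.out.dvd_mul.1 (hd.trans (card_sup_dvd' (hS.1.trans (le_norm_piCoreOf_self _ _))))).elim
        (not_dvd_card_pPrimeCoreOf hp.out _) (nd S hS.2))
    (Or.inl inferInstance) (h2.trans le_sup_right) hQ (zpowers_le.2 hx)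
  rw [hm T hT.2 (zpowers_le.1 h5) h4] at hT
  rw [hT.eq_of_le hS.2 h2 le_sup_right] at hS
  exact Coprime.sylowIn_of_sylowIn_normalizer (by rwa [top_inf_eq])

end ZM

end Cfsg.Lib.Block
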